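import Cfsg.Agent.UFourType.SLThree
import Cfsg.Agent.Components.FStar
import Cfsg.Prelude.Def_Local
import Mathlib.GroupTheory.NoncommCoprod

/-!
The frame `SL(2, 3) * SL(2, 3)` inside the centraliser of the involution of a group of `U₄(3)` type.
-/

set_option autoImplicit false

namespace CfsgLib.UFourType.Frame

open Subgroup

/-- The quaternion subgroup of `SL(2, 3)`. -/
def Q8 : Subgroup SL where
  carrier := {x | x ^ 4 = 1}
  one_mem' := one_pow 4
  mul_mem' := fun {a b} ha hb => by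
    have key : ∀ a b : SL, a ^ 4 = 1 → b ^ 4 = 1 → (a * b) ^ 4 = 1 := by decide +kernel
    exact key a b ha hb
  inv_mem' := fun {a} ha => by
    change a⁻¹ ^ 4 = 1
    rw [inv_pow]
    exact inv_eq_one.mpr ha

theorem mem_Q8 {x : SL} : x ∈ Q8 ↔ x ^ 4 = 1 := Iff.rfl

instance Q8_normal : Q8.Normal := ⟨fun x hx g => by
  rw [mem_Q8, conj_pow, mem_Q8.1 hx, mul_one, mul_inv_cancel]⟩

/-- The product of two quaternion groups. -/
def Q8P : Subgroup (SL × SL) := Q8.prod Q8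

theorem mem_Q8P {p : SL × SL} : p ∈ Q8P ↔ p.1 ^ 4 = 1 ∧ p.2 ^ 4 = 1 := Iff.rfl

instance Q8P_normal : Q8P.Normal := Subgroup.prod_normal Q8 Q8

theorem Q8P_pGroup : IsPGroup 2 Q8P := fun x =>
  ⟨2, Subtype.ext (Prod.ext (mem_Q8P.1 x.2).1 (mem_Q8P.1 x.2).2)⟩

variable {G : Type*} [Group G]

/-- The image of the product of the quaternion groups. -/
def Qm (φ : SL × SL →* G) : Subgroup G := Q8P.map φ

theorem mem_Qm {φ : SL × SL →* G} {x : G} : x ∈ Qm φ ↔ ∃ p ∈ Q8P, φ p = x := Iff.rfl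

/-- The properties of the frame. -/
structure Core (z : G) (φ : SL × SL →* G) : Prop where
  zN : φ (N, 1) = z
  z_ne : z ≠ 1
  kerN : φ (N, N) = 1
  ker : ∀ p, φ p = 1 → p = 1 ∨ p = (N, N)
  card : Nat.card (centralizer ({z} : Set G)) = 1152
  norm : ∀ c, c * z = z * c → ∀ x ∈ Qm φ, c * x * c⁻¹ ∈ Qm φ
  cent : ∀ c, c * z = z * c → (∀ x ∈ Qm φ, c * x = x * c) → c ∈ Qm φ
  qqg : ∀ g, g * z * g⁻¹ ∈ Qm φ → g * z * g⁻¹ ≠ z →
    Nat.card ↥(Qm φ ⊓ (Qm φ).map (MulAut.conj g).toMonoidHom) = 4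

namespace Core

variable {z : G} {φ : SL × SL →* G} (h : Core z φ)
include h

theorem eq_iff {p q : SL × SL} : φ p = φ q ↔ q = p ∨ q = p * (N, N) := by
  constructor
  · intro e
    have e' : φ (p⁻¹ * q) = 1 := by rw [map_mul, map_inv, e, inv_mul_cancel]
    rcases h.ker _ e' with e' | e'
    · exact Or.inl (inv_mul_eq_one.1 e').symm
    · exact Or.inr (inv_mul_eq_iff_eq_mul.1 e')
  · rintro (rfl | rfl)
    · rfl
    · rw [map_mul, h.kerN, mul_one]

theorem map_NN (p : SL × SL) : φ (p * (N, N)) = φ p := by rw [map_mul, h.kerN, mul_one]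

theorem z_comm (p : SL × SL) : φ p * z = z * φ p := by
  rw [← h.zN, ← map_mul, ← map_mul]
  exact congrArg φ (Prod.ext (N_central _) (by simp))

theorem z_mul_self : z * z = 1 := by
  rw [← h.zN, ← map_mul, Prod.mk_mul_mk, N_mul_self, mul_one]
  exact map_one φ

theorem z_mem : z ∈ Qm φ :=
  mem_Qm.2 ⟨(N, 1), mem_Q8P.2 ⟨by decide +kernel, one_pow 4⟩, h.zN⟩

theorem zN' : φ (1, N) = z := by
  rw [← h.map_NN, Prod.mk_mul_mk, one_mul, N_mul_self, h.zN]

/-- Two elements of `Qm` commute up to `z`. -/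
theorem Qm_comm {x y : G} (hx : x ∈ Qm φ) (hy : y ∈ Qm φ) : x * y = y * x ∨ x * y = y * x * z := by
  obtain ⟨p, hp, rfl⟩ := mem_Qm.1 hx
  obtain ⟨q, hq, rfl⟩ := mem_Qm.1 hy
  simp only [← map_mul]
  rcases comm_four _ _ hp.1 hq.1 with e1 | e1 <;> rcases comm_four _ _ hp.2 hq.2 with e2 | e2
  · left
    rw [show p * q = q * p from Prod.ext e1 e2]
  · right
    rw [← h.zN', ← map_mul, show p * q = q * p * (1, N) from Prod.ext (by simpa using e1) e2]
  · right
    rw [← h.zN, ← map_mul, show p * q = q * p * (N, 1) from Prod.ext e1 (by simpa using e2)]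
  · left
    rw [show p * q = q * p * (N, N) from Prod.ext e1 e2, h.map_NN]

/-- An element of the centraliser of `z` centralising `Qm` is `1` or `z`. -/
theorem cent_eq {c : G} (hc : c * z = z * c) (hA : c * φ (A, 1) = φ (A, 1) * c)
    (hB : c * φ (B, 1) = φ (B, 1) * c) (hA' : c * φ (1, A) = φ (1, A) * c)
    (hB' : c * φ (1, B) = φ (1, B) * c) : c = 1 ∨ c = z := by
  have hall : ∀ x ∈ Qm φ, c * x = x * c := by
    intro x hx
    obtain ⟨p, hp, rfl⟩ := mem_Qm.1 hx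
    have h1 : ∀ a : SL, a ∈ q8List → Commute c (φ (a, 1)) ∧ Commute c (φ (1, a)) := by
      have hN : Commute c (φ (N, 1)) ∧ Commute c (φ (1, N)) := by
        rw [h.zN, h.zN']; exact ⟨hc, hc⟩
      have hm : ∀ a b : SL, (Commute c (φ (a, 1)) ∧ Commute c (φ (1, a))) →
          (Commute c (φ (b, 1)) ∧ Commute c (φ (1, b))) →
          (Commute c (φ (a * b, 1)) ∧ Commute c (φ (1, a * b))) := by
        intro a b ha hb
        refine ⟨?_, ?_⟩
        · rw [show ((a * b, 1) : SL × SL) = (a, 1) * (b, 1) by simp, map_mul]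
          exact ha.1.mul_right hb.1
        · rw [show ((1, a * b) : SL × SL) = (1, a) * (1, b) by simp, map_mul]
          exact ha.2.mul_right hb.2
      intro a ha
      simp only [q8List, List.mem_cons, List.not_mem_nil, or_false] at ha
      rcases ha with rfl | rfl | rfl | rfl | rfl | rfl | rfl | rfl
      · exact ⟨by rw [show ((1, 1) : SL × SL) = 1 from rfl, map_one]; exact Commute.one_right c,
          by rw [show ((1, 1) : SL × SL) = 1 from rfl, map_one]; exact Commute.one_right c⟩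
      · exact hN
      · exact ⟨hA, hA'⟩
      · exact hm _ _ ⟨hA, hA'⟩ hN
      · exact ⟨hB, hB'⟩
      · exact hm _ _ ⟨hB, hB'⟩ hN
      · exact hm _ _ ⟨hA, hA'⟩ ⟨hB, hB'⟩
      · exact hm _ _ (hm _ _ ⟨hA, hA'⟩ ⟨hB, hB'⟩) hN
    rw [show p = (p.1, 1) * (1, p.2) by simp, map_mul]
    exact (h1 _ (mem_q8List _ hp.1)).1.mul_right (h1 _ (mem_q8List _ hp.2)).2
  obtain ⟨p, hp, rfl⟩ := mem_Qm.1 (h.cent c hc hall)
  simp only [← map_mul, h.eq_iff] at hA hB hA' hB'
  have k1 : ∀ a b : SL, ((a * b = b * a) ∨ (b * a = a * b * N ∧ (1 : SL) * p.2 = p.2 * 1 * N)) →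
      a * b = b * a := by
    rintro a b (e | ⟨-, e⟩)
    · exact e
    · exact absurd (by simpa using e) N_ne_one
  have k2 : ∀ a b : SL, ((a * b = b * a) ∨ (b * a = a * b * N ∧ (1 : SL) * p.1 = p.1 * 1 * N)) →
      a * b = b * a := by
    rintro a b (e | ⟨-, e⟩)
    · exact e
    · exact absurd (by simpa using e) N_ne_one
  have a1 := central_four _ hp.1 (k1 _ _ (hA.imp (fun e => (congrArg Prod.fst e).symm)
      fun e => ⟨congrArg Prod.fst e, congrArg Prod.snd e⟩))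
    (k1 _ _ (hB.imp (fun e => (congrArg Prod.fst e).symm)
      fun e => ⟨congrArg Prod.fst e, congrArg Prod.snd e⟩))
  have a2 := central_four _ hp.2 (k2 _ _ (hA'.imp (fun e => (congrArg Prod.snd e).symm)
      fun e => ⟨congrArg Prod.snd e, congrArg Prod.fst e⟩))
    (k2 _ _ (hB'.imp (fun e => (congrArg Prod.snd e).symm)
      fun e => ⟨congrArg Prod.snd e, congrArg Prod.fst e⟩))
  rw [show p = (p.1, p.2) from rfl]
  rcases a1 with e1 | e1 <;> rcases a2 with e2 | e2 <;> rw [e1, e2]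
  · exact Or.inl (map_one φ)
  · exact Or.inr h.zN'
  · exact Or.inr h.zN
  · exact Or.inl h.kerN

/-- Elements of order three in the centraliser acting alike on the generators of `Qm` are equal. -/
theorem eq_of_action {x y : G} (hx : x * z = z * x) (hy : y * z = z * y) (x3 : x ^ 3 = 1)
    (y3 : y ^ 3 = 1)
    (e : ∀ p ∈ [((A, 1) : SL × SL), (B, 1), (1, A), (1, B)], x * φ p * x⁻¹ = y * φ p * y⁻¹) :
    x = y := by
  have key : ∀ p ∈ [((A, 1) : SL × SL), (B, 1), (1, A), (1, B)],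
      x⁻¹ * y * φ p = φ p * (x⁻¹ * y) := by
    intro p hp
    calc x⁻¹ * y * φ p = x⁻¹ * (y * φ p * y⁻¹) * y := by group
      _ = x⁻¹ * (x * φ p * x⁻¹) * y := by rw [e p hp]
      _ = φ p * (x⁻¹ * y) := by group
  have hc : x⁻¹ * y * z = z * (x⁻¹ * y) :=
    ((show Commute x z from hx).inv_left.mul_left (show Commute y z from hy)).eq
  rcases h.cent_eq hc (key _ (by simp)) (key _ (by simp)) (key _ (by simp)) (key _ (by simp)) with
    e' | e'
  · exact inv_mul_eq_one.1 e'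
  · exfalso
    rw [inv_mul_eq_iff_eq_mul] at e'
    rw [e', (show Commute x z from hx).mul_pow, x3, one_mul, pow_succ, pow_two, h.z_mul_self,
      one_mul] at y3
    exact h.z_ne y3

/-- An involution of `Qm` other than `z` is a conjugate of `φ (A, A)`. -/
theorem invol_conj {x : G} (hx : x ∈ Qm φ) (h2 : x * x = 1) (h1 : x ≠ 1) (hxz : x ≠ z) :
    ∃ c : SL × SL, φ c * φ (A, A) * (φ c)⁻¹ = x := by
  obtain ⟨p, hp, rfl⟩ := mem_Qm.1 hx
  rw [← map_mul] at h2
  rcases h.ker _ h2 with e | e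
  · exfalso
    have e1 := congrArg Prod.fst e
    have e2 := congrArg Prod.snd e
    rw [show p = (p.1, p.2) from rfl] at h1 hxz
    rcases sq_one _ e1 with a | a <;> rcases sq_one _ e2 with b | b <;> rw [a, b] at h1 hxz
    · exact h1 (map_one φ)
    · exact hxz h.zN'
    · exact hxz h.zN
    · exact h1 h.kerN
  · obtain ⟨c, hc⟩ := conj_A _ (congrArg Prod.fst e)
    obtain ⟨d, hd⟩ := conj_A _ (congrArg Prod.snd e)
    exact ⟨(c, d), by rw [← map_inv, ← map_mul, ← map_mul]; exact congrArg φ (Prod.ext hc hd)⟩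

/-- Precomposing with an inner automorphism. -/
theorem twist (c : SL × SL) : Core z (φ.comp (MulAut.conj c).toMonoidHom) := by
  have hq : Qm (φ.comp (MulAut.conj c).toMonoidHom) = Qm φ := by
    rw [Qm, Qm, ← Subgroup.map_map]
    congr 1
    exact Subgroup.Normal.map_conj_eq Q8P c
  have hN : c * (N, 1) * c⁻¹ = (N, 1) := by
    have e : c * (N, 1) = (N, 1) * c := Prod.ext (N_central _) (by simp)
    rw [e, mul_inv_cancel_right]
  have hNN : c * (N, N) * c⁻¹ = (N, N) := by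
    have e : c * (N, N) = (N, N) * c := Prod.ext (N_central _) (N_central _)
    rw [e, mul_inv_cancel_right]
  refine ⟨?_, h.z_ne, ?_, ?_, h.card, hq.symm ▸ h.norm, hq.symm ▸ h.cent, hq.symm ▸ h.qqg⟩
  · exact (congrArg φ hN).trans h.zN
  · exact (congrArg φ hNN).trans h.kerN
  · intro p hp
    rcases h.ker _ hp with e | e
    · exact Or.inl ((MulEquiv.map_eq_one_iff (MulAut.conj c)).1 e)
    · exact Or.inr ((MulAut.conj c).injective (e.trans hNN.symm))

end Core

theorem commute_of_meet {G : Type*} [Group G] {z : G} (φ₁ φ₂ : SL →* G) (hz : z * z = 1)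
    (h : ∀ a b, φ₁ a * φ₂ b * (φ₁ a)⁻¹ * (φ₂ b)⁻¹ = 1 ∨ φ₁ a * φ₂ b * (φ₁ a)⁻¹ * (φ₂ b)⁻¹ = z)
    (hc : ∀ a, φ₁ a * z = z * φ₁ a) :
    ∀ a b, Commute (φ₁ a) (φ₂ b) := by
  have h3 : ∀ a b, a ^ 3 = 1 → Commute (φ₁ a) (φ₂ b) := by
    intro a b ha
    rcases h a b with e | e
    · exact mul_inv_eq_iff_eq_mul.1 (mul_inv_eq_one.1 e)
    · have e' : φ₁ a * φ₂ b * (φ₁ a)⁻¹ = z * φ₂ b := mul_inv_eq_iff_eq_mul.1 e
      have key : ∀ x, φ₁ a * (z * x) * (φ₁ a)⁻¹ = z * (φ₁ a * x * (φ₁ a)⁻¹) := fun x => by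
        rw [← mul_assoc (φ₁ a), hc a]; group
      have h1 : φ₁ a * (φ₁ a * (φ₁ a * φ₂ b * (φ₁ a)⁻¹) * (φ₁ a)⁻¹) * (φ₁ a)⁻¹ = φ₂ b := by
        have ha' : φ₁ a * (φ₁ a * φ₁ a) = 1 := by
          rw [← map_mul, ← map_mul, ← pow_three, ha, map_one]
        calc _ = φ₁ a * (φ₁ a * φ₁ a) * φ₂ b * (φ₁ a * (φ₁ a * φ₁ a))⁻¹ := by group
          _ = φ₂ b := by rw [ha', one_mul, inv_one, mul_one]
      rw [e', key, e', key, key, e', ← mul_assoc z z, hz, one_mul, mul_eq_right] at h1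
      rw [h1, one_mul] at e'
      exact mul_inv_eq_iff_eq_mul.1 e'
  intro a b
  obtain ⟨c, d, hc3, hd3, e | e⟩ := gen_three a <;> rw [e]
  · rw [map_mul]; exact (h3 c b hc3).mul_left (h3 d b hd3)
  · simp only [map_mul]
    exact ((h3 c b hc3).mul_left (h3 d b hd3)).mul_left ((h3 c b hc3).mul_left (h3 d b hd3))

end CfsgLib.UFourType.Frame
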