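import Cfsg.Agent.UFourType.CentSFusion

/-!
The last relators of the recognition of `U₄(3)`: a presentation of the group generated by the
centraliser of `z` and the element `g`.
-/

set_option autoImplicit false

namespace CfsgLib.UFourType

open CfsgLib.MTwelveUnique CfsgLib.CosetEnum

variable {G : Type*} [Group G] {γ : ℕ → G}

/-- Two elements of order three coming from the two transports commute. -/
theorem comm_b [Finite G] (h : Sat γ (cRels ++ gRels)) (hz : prodw γ zW ≠ 1)
    (hC : Subgroup.centralizer ({prodw γ zW} : Set G) ≤ cGroup γ) :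
    prodw γ commRel = 1 := by
  have hc := satC h
  obtain ⟨e2, -, -, e3, -, e4, -⟩ := g_rules h
  obtain ⟨z, zdef⟩ : ∃ a, prodw γ zW = a := ⟨_, rfl⟩
  obtain ⟨s, sdef⟩ : ∃ a, prodw γ sdW = a := ⟨_, rfl⟩
  obtain ⟨w, wdef⟩ : ∃ a, γ 8 = a := ⟨_, rfl⟩
  obtain ⟨hm1, hm2, hm3⟩ := s_mems hc
  have e8 : prodw γ [8] = w := by simp [prodw, wdef]
  have hw2 : w * w = 1 := by
    rw [← e8, ← prodw_append]; exact h.rel _ (List.mem_append_left _ (by decide))
  have hz2 : z * z = 1 := by
    rw [← zdef, ← prodw_append]; exact h.rel _ (List.mem_append_left _ (by decide))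
  have hz1 : z ≠ 1 := zdef ▸ hz
  have hzc : z ∈ cGroup γ := zdef ▸ prodw_mem_cGroup (by decide)
  have hwc : w ∈ cGroup γ := e8 ▸ prodw_mem_cGroup (by decide)
  have hzw : z * w = w * z := (zdef ▸ z_comm hc hwc).symm
  have hwinv : w⁻¹ = w := inv_eq_of_mul_eq_one_right hw2
  have hzinv : z⁻¹ = z := inv_eq_of_mul_eq_one_right hz2
  have zc : ∀ x ∈ cGroup γ, z * x * z = x := fun x hx => by
    rw [← zdef] at hz2 ⊢
    rw [← z_comm hc hx, mul_assoc, hz2, mul_one]
  have hzX : z ∈ xGroup γ := mem_xGroup.2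
    ⟨zdef ▸ (z_comm hc (sGroup_le_cGroup hc hm1)).symm,
      zdef ▸ (z_comm hc (sGroup_le_cGroup hc hm2)).symm⟩
  have hsX : s ∈ xGroup γ := sdef ▸ sGroup_le_xGroup hc hm3
  -- no subgroup of order four
  have h4 : ¬ 4 ∣ Nat.card (xGroup γ) := by
    intro hd
    have hoz : orderOf (⟨z, hzX⟩ : xGroup γ) = 2 := orderOf_eq_prime (Subtype.ext (by
      rw [SubgroupClass.coe_pow, pow_two, OneMemClass.coe_one]; exact hz2))
      (fun e => hz1 (congrArg Subtype.val e))
    have : Fact (Nat.Prime 2) := ⟨Nat.prime_two⟩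
    obtain ⟨K, hK, hle⟩ := Sylow.exists_subgroup_card_pow_prime_le 2 (n := 1) (m := 2)
      (show 2 ^ 2 ∣ _ from hd) (Subgroup.zpowers ⟨z, hzX⟩) (by rw [Nat.card_zpowers, hoz, pow_one])
      (by norm_num)
    have hsub : K ≤ Subgroup.zpowers ⟨z, hzX⟩ := by
      intro x hx
      have hcomm := (IsPGroup.isMulCommutative_of_card_eq_prime_sq hK).is_comm.comm ⟨x, hx⟩
        ⟨⟨z, hzX⟩, hle (Subgroup.mem_zpowers _)⟩
      have hcomm' : x.1 * prodw γ zW = prodw γ zW * x.1 :=
        zdef ▸ congrArg (fun a : K => (a : xGroup γ).1) hcomm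
      have h4x : x.1 ^ 4 = 1 := by
        have e : (⟨x, hx⟩ : K) ^ Nat.card K = 1 := pow_card_eq_one'
        rw [hK] at e
        exact congrArg (fun a : K => (a : xGroup γ).1) e
      obtain ⟨t, ht, e | e⟩ := xGroup_cases hc hz x.2 (mem_cGroup_of_comm hC hcomm')
      · have : x = 1 := Subtype.ext
          (e.trans (eq_one_of_pow_pow (e ▸ h4x) (sGroup_pow_three hc ht) (by norm_num)))
        rw [this]
        exact Subgroup.one_mem _
      · rw [zdef] at e
        have hct : Commute t z := zdef ▸ z_comm hc (sGroup_le_cGroup hc ht)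
        have ht4 : t ^ 4 = 1 := by
          rw [e, hct.mul_pow, show (4 : ℕ) = 2 * 2 from rfl, pow_mul z, pow_two z, hz2, one_pow,
            mul_one] at h4x
          exact h4x
        have : x = ⟨z, hzX⟩ := Subtype.ext (by
          rw [e, eq_one_of_pow_pow ht4 (sGroup_pow_three hc ht) (by norm_num), one_mul])
        rw [this]
        exact Subgroup.mem_zpowers _
    have := Subgroup.card_le_of_le hsub
    rw [hK, Nat.card_zpowers, hoz] at this
    norm_num at this
  obtain ⟨M, n, hn, hMX, hM, hMmem, hMor, hM3⟩ := exists_odd_part hzX hz2 hz1 h4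
  have hsM : ∀ t ∈ sGroup hc, t ∈ M := fun t ht =>
    hM3 t (sGroup_le_xGroup hc ht) (sGroup_pow_three hc ht)
  -- conjugation by an element moving S to itself
  have hconj : ∀ q : G, (q * prodw γ [4] * q⁻¹ ∈ sGroup hc) → (q * prodw γ s2W * q⁻¹ ∈ sGroup hc) →
      ∀ x ∈ xGroup γ, (∀ t ∈ sGroup hc, t * x = x * t) → q⁻¹ * x * q ∈ xGroup γ := by
    intro q h1 h2 x _ hx
    refine mem_xGroup.2 ⟨?_, ?_⟩
    · calc q⁻¹ * x * q * prodw γ [4] = q⁻¹ * (x * (q * prodw γ [4] * q⁻¹)) * q := by group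
        _ = q⁻¹ * ((q * prodw γ [4] * q⁻¹) * x) * q := by rw [hx _ h1]
        _ = _ := by group
    · calc q⁻¹ * x * q * prodw γ s2W = q⁻¹ * (x * (q * prodw γ s2W * q⁻¹)) * q := by group
        _ = q⁻¹ * ((q * prodw γ s2W * q⁻¹) * x) * q := by rw [hx _ h2]
        _ = _ := by group
  have hXS : ∀ t ∈ sGroup hc, ∀ x ∈ xGroup γ, t * x = x * t := by
    intro t ht x hx
    obtain ⟨c1, c2⟩ := mem_xGroup.1 hx
    obtain ⟨l, hl, rfl⟩ := ht
    have hgen : ∀ a b : ℕ, Commute (prodw γ (sW a b)) x := by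
      intro a b
      rw [sW, prodw_append]
      refine Commute.mul_left ?_ ?_
      · induction a with
        | zero => exact Commute.one_left x
        | succ a ih =>
          rw [List.replicate_succ, prodw_cons]
          refine Commute.mul_left ?_ ih
          simpa [prodw] using Commute.symm (c1 : Commute x (prodw γ [4]))
      · induction b with
        | zero => exact Commute.one_left x
        | succ b ih =>
          rw [List.replicate_succ, List.flatten_cons, prodw_append]
          exact Commute.mul_left (Commute.symm (c2 : Commute x (prodw γ s2W))) ih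
    simp only [sList, List.mem_cons, List.not_mem_nil, or_false] at hl
    rcases hl with rfl | rfl | rfl | rfl | rfl | rfl | rfl | rfl | rfl <;> exact (hgen _ _).eq
  have hMconj : ∀ q : G, q * prodw γ [4] * q⁻¹ ∈ sGroup hc → q * prodw γ s2W * q⁻¹ ∈ sGroup hc →
      ∀ x ∈ M, q⁻¹ * x * q ∈ M := by
    intro q h1 h2 x hx
    refine hMmem _ (hconj q h1 h2 x (hMX hx) fun t ht => hXS t ht x (hMX hx)) ?_
    rw [show q⁻¹ * x * q = q⁻¹ * x * (q⁻¹)⁻¹ by rw [inv_inv], conj_pow, hM x hx, mul_one,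
      mul_inv_cancel]
  have hws : w * prodw γ [4] * w = prodw γ s2W := by
    rw [← e8, ← prodw_append, ← prodw_append]; rfl
  have hws2 : w * prodw γ s2W * w = prodw γ [4] := by
    rw [← hws]
    simp only [mul_assoc]
    simp [← mul_assoc, hw2]
  have hMw : ∀ x ∈ M, w * x * w ∈ M := fun x hx => by
    have := hMconj w (by rw [hwinv, hws]; exact hm2) (by rw [hwinv, hws2]; exact hm1) x hx
    rwa [hwinv] at this
  have hMz : ∀ x ∈ M, z * x * z ∈ M := fun x hx => by
    have := hMconj z (by rw [hzinv, zc _ (sGroup_le_cGroup hc hm1)]; exact hm1)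
      (by rw [hzinv, zc _ (sGroup_le_cGroup hc hm2)]; exact hm2) x hx
    rwa [hzinv] at this
  have hsw : w * s * w = s := by
    have := eq_of_commB hc kA3.1
    rw [sdef, e8] at this
    rw [mul_assoc, this, ← mul_assoc, hw2, one_mul]
  -- a new element fixed by w
  obtain ⟨m, hmM, hmw, hmT⟩ : ∃ m ∈ M, w * m * w = m ∧ m ≠ 1 ∧ m ≠ s ∧ m ≠ s * s := by
    by_contra hno
    push Not at hno
    let T : Set G := {1, s, s * s}
    have hT : ∀ c ∈ T, z * c * z = c ∧ w * c * w = c ∧ ∀ x ∈ M, c * x = x * c := by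
      intro c hc'
      have hcS : c ∈ sGroup hc := by
        rcases hc' with rfl | rfl | rfl
        exacts [one_mem _, sdef ▸ hm3, sdef ▸ mul_mem hm3 hm3]
      refine ⟨zc c (sGroup_le_cGroup hc hcS), ?_, fun x hx => hXS c hcS x (hMX hx)⟩
      rcases hc' with rfl | rfl | rfl
      · rw [mul_one, hw2]
      · exact hsw
      · calc w * (s * s) * w = (w * s * w) * (w⁻¹ * s * w) := by group
          _ = s * s := by rw [hwinv, hsw]
    have hfw : ∀ x ∈ M, w * x * w = x → x ∈ T := by
      intro x hx hxw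
      by_contra hxT
      simp only [T, Set.mem_insert_iff, Set.mem_singleton_iff, not_or] at hxT
      exact hxT.2.2 (hno x hx hxw hxT.1 hxT.2.1)
    have hfzw : ∀ x ∈ M, z * (w * x * w) * z = x → x ∈ T := by
      intro x hx hxw
      obtain ⟨i, hi, hq⟩ := List.any_eq_true.1 qex
      rw [List.mem_range] at hi
      simp only [Bool.and_eq_true, List.any_eq_true] at hq
      obtain ⟨⟨⟨q1, l1, hl1, q2⟩, l2, hl2, q3⟩, l3, hl3, q4⟩ := hq
      have hqs := (cWord_spec hi).2
      obtain ⟨q, qdef⟩ : ∃ q, prodw γ (cWord i) = q := ⟨_, rfl⟩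
      have q1' := prodw_eq_of_sameB hc q1
      have q2' := prodw_eq_of_sameB hc q2
      have q3' := prodw_eq_of_sameB hc q3
      have q4' := prodw_eq_of_sameB hc q4
      simp only [prodw_append, prodw_invW' hc hqs, qdef, zdef, e8, sdef] at q1' q2' q3' q4'
      have hx' := hMconj q (q2' ▸ ⟨l1, hl1, rfl⟩) (q3' ▸ ⟨l2, hl2, rfl⟩) x hx
      have hxw' : w * (q⁻¹ * x * q) * w = q⁻¹ * x * q := by
        have hqw : q * w * q⁻¹ = z * w := mul_inv_eq_iff_eq_mul.2 q1'
        calc w * (q⁻¹ * x * q) * w = q⁻¹ * ((q * w * q⁻¹) * x * (q * w * q⁻¹)) * q := by group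
          _ = q⁻¹ * (z * w * x * (w * z)) * q := by rw [hqw, ← hzw]
          _ = q⁻¹ * (z * (w * x * w) * z) * q := by group
          _ = _ := by rw [hxw]
      have hss : q * s * q⁻¹ = s ∨ q * s * q⁻¹ = s * s := by
        simp only [List.mem_cons, List.not_mem_nil, or_false] at hl3
        rcases hl3 with rfl | rfl
        · exact Or.inl (q4'.trans sdef)
        · exact Or.inr (q4'.trans (by rw [prodw_append, sdef]))
      have hxT : q⁻¹ * x * q ∈ T := hfw _ hx' hxw'
      have hxe : x = q * (q⁻¹ * x * q) * q⁻¹ := by group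
      have hs3 : s ^ 3 = 1 := sdef ▸ sGroup_pow_three hc hm3
      have hs4 : s * s * (s * s) = s := by
        calc s * s * (s * s) = s ^ 3 * s := by
              simp only [pow_succ, pow_zero, one_mul, mul_assoc]
          _ = s := by rw [hs3, one_mul]
      have hsq : q * (s * s) * q⁻¹ = (q * s * q⁻¹) * (q * s * q⁻¹) := by group
      simp only [T, Set.mem_insert_iff, Set.mem_singleton_iff] at hxT ⊢
      rw [hxe]
      rcases hxT with e | e | e <;> rw [e]
      · exact Or.inl (by group)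
      · exact Or.inr hss
      · rcases hss with e' | e' <;> rw [hsq, e']
        · exact Or.inr (Or.inr rfl)
        · exact Or.inr (Or.inl hs4)
    have hcore := core hn hM hz2 hw2 hzw hMz hMw hT hfw hfzw
    refine xGroup_not_le h hz hC fun x hx => ?_
    have key : ∀ y ∈ M, y ∈ cGroup γ := fun y hy => by
      refine mem_cGroup_of_comm hC ?_
      have := hcore y hy
      rw [zdef]
      calc y * z = z * y * z * z := by rw [this]
        _ = z * y := by rw [mul_assoc, hz2, mul_one]
    rcases hMor x hx with hxM | hxM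
    · exact key x hxM
    · have := (cGroup γ).mul_mem (key _ hxM) hzc
      rwa [mul_assoc, hz2, mul_one] at this
  -- move it into the centraliser of z
  have hmX := hMX hmM
  obtain ⟨hh, hhdef⟩ : ∃ a, γ 10 * prodw γ kAW * γ 10 = a := ⟨_, rfl⟩
  have ginv : (γ 10)⁻¹ = γ 10 := inv_eq_of_mul_eq_one_right e2
  have hhz : hh * z * hh⁻¹ = w := by
    have a1 : prodw γ kAW * prodw γ uW = prodw γ fW * prodw γ kAW := by
      simpa [prodw_append] using prodw_eq_of_sameB hc kA1
    rw [← wdef, ← e4, eq_mul_inv_iff_mul_eq.2 a1.symm, ← e3, ← hhdef, ← zdef]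
    simp only [mul_inv_rev, ginv]
    group
  have hx2 : hh * prodw γ x2W * hh⁻¹ = s := by
    have := transA h hz hC
    rw [prodw_transRel hc _ (by decide) (by decide), hhdef, sdef, mul_inv_eq_one, mul_inv_eq_iff_eq_mul]
      at this
    rw [show x2W = optA.getD 0 [] from rfl, mul_inv_eq_iff_eq_mul, this]
  obtain ⟨m', m'def⟩ : ∃ a, hh⁻¹ * m * hh = a := ⟨_, rfl⟩
  have hm'z : m' * prodw γ zW = prodw γ zW * m' := by
    have hmw' : m * w = w * m := by
      calc m * w = w * m * w * w := by rw [hmw]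
        _ = w * m := by rw [mul_assoc, hw2, mul_one]
    rw [zdef, ← m'def]
    calc hh⁻¹ * m * hh * z = hh⁻¹ * (m * (hh * z * hh⁻¹)) * hh := by group
      _ = hh⁻¹ * ((hh * z * hh⁻¹) * m) * hh := by rw [hhz, hmw']
      _ = _ := by group
  have hm'c := mem_cGroup_of_comm hC hm'z
  have hm'x : m' * prodw γ x2W = prodw γ x2W * m' := by
    rw [← m'def]
    calc hh⁻¹ * m * hh * prodw γ x2W = hh⁻¹ * (m * (hh * prodw γ x2W * hh⁻¹)) * hh := by group
      _ = hh⁻¹ * ((hh * prodw γ x2W * hh⁻¹) * m) * hh := by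
        rw [hx2, hXS s (sdef ▸ hm3) m hmX]
      _ = _ := by group
  have hm'9 : m' ^ 9 = 1 := by
    have hn' : m' ^ n = 1 := by
      rw [← m'def, show hh⁻¹ * m * hh = hh⁻¹ * m * (hh⁻¹)⁻¹ by rw [inv_inv], conj_pow, hM m hmM,
        mul_one, mul_inv_cancel]
    have hord : orderOf m' ∣ 1152 := by
      rw [← card_cGroup hc hz, ← Subgroup.orderOf_mk m' hm'c]
      exact orderOf_dvd_natCard _
    refine orderOf_dvd_iff_pow_eq_one.1 (Nat.Coprime.dvd_of_dvd_mul_left ?_
      (show orderOf m' ∣ 128 * 9 from hord))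
    refine Nat.Coprime.coprime_dvd_left (orderOf_dvd_of_pow_eq_one hn') ?_
    simpa using Nat.Coprime.pow_right 7 (Nat.coprime_two_right.2 hn)
  obtain ⟨v, hv, hvm, hp⟩ := rows_spec hc nine_rows hm'c
  have c1 : commB v x2W = true := commB_of_eq hc hz hv (by decide) (hvm ▸ hm'x)
  have c9 : isOneB (v ++ v ++ v ++ v ++ v ++ v ++ v ++ v ++ v) = true := by
    refine isOneB_of_eq hc hz (by simp only [List.mem_append]; intro x; simp only [or_self]; exact hv x) ?_
    simpa [prodw_append, hvm, pow_succ, mul_assoc] using hm'9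
  simp only [c1, c9, Bool.and_self, Bool.not_true, Bool.false_or, List.any_eq_true] at hp
  obtain ⟨l, hl, hle⟩ := hp
  have hml : m' = prodw γ l := hvm.symm.trans (prodw_eq_of_sameB hc hle)
  -- a = s₁ s₂⁻¹ commutes with m and s
  obtain ⟨a, adef⟩ : ∃ a, prodw γ adW = a := ⟨_, rfl⟩
  have haS : a ∈ sGroup hc := by
    rw [← adef, prodw_eq_of_sameB hc s12.2.2.1, prodw_append, prodw_invW' hc (by decide)]
    exact mul_mem hm1 (inv_mem hm2)
  have cm : Commute (hh⁻¹ * a * hh) m' := by
    rw [← m'def]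
    show _ = _
    calc hh⁻¹ * a * hh * (hh⁻¹ * m * hh) = hh⁻¹ * (a * m) * hh := by group
      _ = hh⁻¹ * (m * a) * hh := by rw [hXS a haS m hmX]
      _ = _ := by group
  have cx : Commute (hh⁻¹ * a * hh) (prodw γ x2W) := by
    show _ = _
    calc hh⁻¹ * a * hh * prodw γ x2W = hh⁻¹ * (a * (hh * prodw γ x2W * hh⁻¹)) * hh := by group
      _ = hh⁻¹ * ((hh * prodw γ x2W * hh⁻¹) * a) * hh := by rw [hx2, hXS a haS s hsX]
      _ = _ := by group
  have b03 : prodw γ b0W ^ 3 = 1 := by
    rw [pow_succ, pow_two, ← prodw_append, ← prodw_append]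
    exact eq_one_of_isOneB hc b0.2
  obtain ⟨X2, X2def⟩ : ∃ a, prodw γ x2W = a := ⟨_, rfl⟩
  obtain ⟨B, Bdef⟩ : ∃ a, prodw γ b0W = a := ⟨_, rfl⟩
  rw [X2def] at cx hx2
  rw [Bdef] at b03
  have hmeq : m = hh * m' * hh⁻¹ := by rw [← m'def]; group
  obtain ⟨hT1, hT2, hT3⟩ := hmT
  have cB : Commute (hh⁻¹ * a * hh) B := by
    have fromSq : Commute (hh⁻¹ * a * hh) (B * B) → Commute (hh⁻¹ * a * hh) B := fun c => by
      have e : B * B * (B * B) = B := by
        calc B * B * (B * B) = B ^ 3 * B := by simp only [pow_succ, pow_zero, one_mul, mul_assoc]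
          _ = B := by rw [b03, one_mul]
      exact e ▸ c.mul_right c
    have cancel : ∀ {P Q : G}, Commute (hh⁻¹ * a * hh) P → Commute (hh⁻¹ * a * hh) (P * Q) →
        Commute (hh⁻¹ * a * hh) Q := fun {P Q} cP cPQ => by
      simpa using cP.inv_right.mul_right cPQ
    simp only [nineW, List.mem_cons, List.not_mem_nil, or_false] at hl
    rcases hl with rfl | rfl | rfl | rfl | rfl | rfl | rfl | rfl | rfl <;>
      (try simp only [prodw_append, X2def, Bdef] at hml)
    · exact absurd (by rw [hmeq, hml, prodw_nil, mul_one, mul_inv_cancel]) hT1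
    · exact absurd (by rw [hmeq, hml, hx2]) hT2
    · refine absurd ?_ hT3
      rw [hmeq, hml, ← hx2]
      group
    · exact hml ▸ cm
    · exact fromSq (hml ▸ cm)
    · exact cancel cx (hml ▸ cm)
    · exact cancel (cx.mul_right cx) (hml ▸ cm)
    · exact fromSq (cancel cx (by rw [← mul_assoc, ← hml]; exact cm))
    · exact fromSq (cancel (cx.mul_right cx) (by rw [← mul_assoc, ← hml]; exact cm))
  have hk : ∀ x ∈ hhW kAW, x < 12 := by decide
  have hb : prodw γ bW = hh * B * hh⁻¹ := by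
    rw [bW, prodw_append, prodw_append, prodw_hhW, prodw_invW h _ hk, prodw_hhW, hhdef, Bdef]
  rw [commRel, prodw_append, prodw_append, prodw_append, prodw_invW h adW (by decide),
    prodw_invW h bW (by decide), hb, adef]
  calc a * (hh * B * hh⁻¹) * a⁻¹ * (hh * B * hh⁻¹)⁻¹
      = hh * ((hh⁻¹ * a * hh) * B) * (hh⁻¹ * a * hh)⁻¹ * B⁻¹ * hh⁻¹ := by group
    _ = hh * (B * (hh⁻¹ * a * hh)) * (hh⁻¹ * a * hh)⁻¹ * B⁻¹ * hh⁻¹ := by rw [cB.eq]
    _ = 1 := by group

/-- In a group of `U₄(3)` type the generators satisfy all relators. -/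
theorem sat_all {G : Type*} [Group G] [Finite G] {γ : ℕ → G} (h : Sat γ (cRels ++ gRels))
    (hz : CosetEnum.prodw γ zW ≠ 1)
    (hC : Subgroup.centralizer ({CosetEnum.prodw γ zW} : Set G) ≤ cGroup γ) : Sat γ allRels := by
  refine h.append fun v hv => ?_
  simp only [List.mem_cons, List.not_mem_nil, or_false] at hv
  rcases hv with rfl | rfl | rfl
  exacts [transA h hz hC, transB h hz hC, comm_b h hz hC]

end CfsgLib.UFourType
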