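import Cfsg.Agent.UFourThree.Five

/-!
# A strongly embedded copy of `U₄(3)` is the whole group

A subgroup `H ≅ U₄(3)` containing the centraliser (of order 1152) of an involution, with one class of
involutions, is the whole group: otherwise it is strongly embedded, some coset of it contains at least
as many involutions as it, and this gives a subgroup of odd order at least 2835, which `U₄(3)` lacks.
-/

set_option autoImplicit false
set_option linter.style.haveILetI false

namespace CfsgLib.UFourType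

open Subgroup CfsgLib.UFourThree CfsgLib.UThree

variable (K : Type) [Field K] [Fintype K] (hK : Fintype.card K = 9)
include hK

/-- The order of `PSU(4,3)`. -/
theorem card_psu : Nat.card (Cfsg.PSU 4 K 3) = 3265920 := by
  haveI : CharP K 3 := charP_of_card_eq_prime_pow (f := 2) (p := 3) (by rw [hK]; norm_num)
  obtain ⟨ι, hι⟩ := exists_iota hK
  exact CfsgLib.UFourThree.card_eq hι hK

/-- The normaliser of a subgroup of order seven has order 21, the centraliser is itself. -/
theorem normalizer_seven_psu (X : Subgroup (Cfsg.PSU 4 K 3)) (hX : Nat.card X = 7) :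
    Nat.card (normalizer (X : Set (Cfsg.PSU 4 K 3))) = 21 ∧
      centralizer (X : Set (Cfsg.PSU 4 K 3)) = X := by
  haveI : CharP K 3 := charP_of_card_eq_prime_pow (f := 2) (p := 3) (by rw [hK]; norm_num)
  obtain ⟨ι, hι⟩ := exists_iota hK
  exact CfsgLib.UFourThree.normalizer_seven hι hK X hX

/-- An element of order nine of `PSU(4,3)`. -/
theorem exists_nine : ∃ y : Cfsg.PSU 4 K 3, y ^ 9 = 1 ∧ y ^ 3 ≠ 1 := by
  haveI : CharP K 3 := charP_of_card_eq_prime_pow (f := 2) (p := 3) (by rw [hK]; norm_num)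
  obtain ⟨ι, hι⟩ := exists_iota hK
  set A : List (List ℕ) := [[0, 0, 0, 3], [6, 1, 4, 0], [5, 4, 0, 0], [1, 3, 7, 0]] with hA
  have hf : (colsOK A && pow4 A 9 == diag4 1 1 && !(pow4 A 3 == diag4 1 1)) = true := by
    rw [hA]; decide +kernel
  simp only [Bool.and_eq_true, beq_iff_eq, Bool.not_eq_true', beq_eq_false_iff_ne] at hf
  obtain ⟨⟨ho, h9⟩, h3⟩ := hf
  obtain ⟨g, hg⟩ := exists_elt (n := 9) hι hK (by norm_num) ho h9
  let toM : Cfsg.SU 4 K 3 →* Matrix (Fin 4) (Fin 4) K :=
    (Cfsg.slToMat 4 K).comp (Cfsg.SU 4 K 3).subtype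
  have toM_inj : Function.Injective toM := fun a b e => Subtype.ext (Subtype.ext e)
  have hgM : toM g = mat4 ι A := hg
  have g9 : g ^ 9 = 1 := toM_inj (by rw [map_pow, hgM, ← mat4_pow hι, h9, mat4_one, map_one])
  refine ⟨QuotientGroup.mk' (center (Cfsg.SU 4 K 3)) g, by rw [← map_pow, g9, map_one], fun h => ?_⟩
  rw [← map_pow] at h
  have hz : g ^ 3 ∈ center (Cfsg.SU 4 K 3) := (QuotientGroup.eq_one_iff (g ^ 3)).1 h
  have h4 : (g ^ 3) ^ 4 = 1 := by
    have hc := CfsgLib.Forms4.card_center_SU (n := 4) (q := 3) (F := K) (by rw [hK]; norm_num)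
      (by norm_num)
    have := pow_card_eq_one' (x := (⟨g ^ 3, hz⟩ : center (Cfsg.SU 4 K 3)))
    rw [hc] at this
    exact congrArg Subtype.val this
  have h33 : (g ^ 3) ^ 3 = 1 := by rw [← pow_mul, g9]
  have h1 : g ^ 3 = 1 := by
    have := pow_gcd_eq_one.2 ⟨h4, h33⟩
    rwa [show Nat.gcd 4 3 = 1 from rfl, pow_one] at this
  have hm : mat4 ι (pow4 A 3) = mat4 ι (diag4 1 1) := by
    rw [mat4_pow hι, ← hgM, ← map_pow, h1, map_one, mat4_one]
  rw [hA] at hm
  have hlt : ∀ i j : Fin 4,
      get4 (pow4 [[0, 0, 0, 3], [6, 1, 4, 0], [5, 4, 0, 0], [1, 3, 7, 0]] 3) i j < 9 ∧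
        get4 (diag4 1 1) i j < 9 := by decide +kernel
  have key : ∀ i j : Fin 4,
      get4 (pow4 [[0, 0, 0, 3], [6, 1, 4, 0], [5, 4, 0, 0], [1, 3, 7, 0]] 3) i j
        = get4 (diag4 1 1) i j :=
    fun i j => val9_injOn hι (hlt i j).1 (hlt i j).2 (congrFun (congrFun hm i) j)
  revert key
  decide +kernel

omit hK in
/-- A subgroup normalised by a subgroup of order seven and meeting its centraliser trivially. -/
theorem card_modEq_one_of_seven {X : Type*} [Group X] [Finite X] (R M : Subgroup X)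
    (hR : Nat.card R = 7) (hN : ∀ r ∈ R, ∀ m ∈ M, r * m * r⁻¹ ∈ M)
    (hfix : ∀ m ∈ M, (∀ r ∈ R, r * m * r⁻¹ = m) → m = 1) : Nat.card M ≡ 1 [MOD 7] := by
  haveI : Fact (Nat.Prime 7) := ⟨by norm_num⟩
  letI : MulAction R M :=
    { smul := fun r m => ⟨(r : X) * m * (r : X)⁻¹, hN r r.2 m m.2⟩
      one_smul := fun m => Subtype.ext (by show ((1 : R) : X) * m * ((1 : R) : X)⁻¹ = m; simp)
      mul_smul := fun r s m => Subtype.ext (by
        show ((r * s : R) : X) * m * ((r * s : R) : X)⁻¹ = r * (s * m * (s : X)⁻¹) * (r : X)⁻¹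
        push_cast; group) }
  have h := IsPGroup.card_modEq_card_fixedPoints (IsPGroup.of_card (n := 1) (by rw [hR]; rfl) :
    IsPGroup 7 R) M
  have hf : MulAction.fixedPoints R M = {1} := by
    ext m
    simp only [MulAction.mem_fixedPoints, Set.mem_singleton_iff]
    refine ⟨fun hm => Subtype.ext (hfix m m.2 fun r hr => congrArg Subtype.val (hm ⟨r, hr⟩)),
      fun hm r => ?_⟩
    subst hm
    exact Subtype.ext (by show (r : X) * ((1 : M) : X) * (r : X)⁻¹ = ((1 : M) : X); simp)
  rw [hf] at h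
  simpa using h

/-- A normaliser of order seven in a subgroup of order `5103` is too small. -/
theorem false_of_seven_complement (D : Subgroup (Cfsg.PSU 4 K 3)) (hD : Nat.card D = 5103)
    (P : Sylow 7 D) (hP : Nat.card (P : Subgroup D) = 7)
    (hN : normalizer ((P : Subgroup D) : Set D) ≤ (P : Subgroup D)) : False := by
  haveI : Fact (Nat.Prime 7) := ⟨by norm_num⟩
  haveI : Fact (Nat.Prime 3) := ⟨Nat.prime_three⟩
  haveI : IsCyclic (P : Subgroup D) := isCyclic_of_prime_card hP
  have hC : normalizer ((P : Subgroup D) : Set D) ≤ centralizer ((P : Subgroup D) : Set D) :=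
    hN.trans (le_centralizer_iff_isMulCommutative.2 inferInstance)
  have hcompl := MonoidHom.ker_transferSylow_isComplement' P hC
  set N₀ := (MonoidHom.transferSylow P hC).ker with hN₀
  have hN₀c : Nat.card N₀ = 729 := by
    have := hcompl.card_mul_card
    rw [hD, hP] at this
    omega
  set N := N₀.map D.subtype with hNdef
  set R := (P : Subgroup D).map D.subtype with hRdef
  have hNc : Nat.card N = 729 := by rw [hNdef, card_map_of_injective D.subtype_injective, hN₀c]
  have hRc : Nat.card R = 7 := by rw [hRdef, card_map_of_injective D.subtype_injective, hP]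
  have hCR := (normalizer_seven_psu K hK R hRc).2
  have hnorm : ∀ r ∈ R, ∀ m ∈ N, r * m * r⁻¹ ∈ N := by
    rintro _ ⟨r, -, rfl⟩ _ ⟨m, hm, rfl⟩
    exact ⟨r * m * r⁻¹, (show N₀.Normal from MonoidHom.normal_ker _).conj_mem m hm r, by simp⟩
  have hfix : ∀ m ∈ N, (∀ r ∈ R, r * m * r⁻¹ = m) → m = 1 := by
    intro m hm h
    have hmR : m ∈ R := by
      rw [← hCR, mem_centralizer_iff]
      exact fun r hr => mul_inv_eq_iff_eq_mul.1 (h r hr)
    have h1 : orderOf m ∣ 729 := hNc ▸ (orderOf_coe (H := N) ⟨m, hm⟩ ▸ orderOf_dvd_natCard (⟨m, hm⟩ : N))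
    have h2 : orderOf m ∣ 7 := hRc ▸ (orderOf_coe (H := R) ⟨m, hmR⟩ ▸ orderOf_dvd_natCard (⟨m, hmR⟩ : R))
    exact orderOf_eq_one_iff.1 (Nat.eq_one_of_dvd_coprimes (by norm_num) h1 h2)
  -- an invariant subgroup of `N` is trivial or `N`
  have hinv : ∀ M : Subgroup (Cfsg.PSU 4 K 3), M ≤ N → (∀ r ∈ R, ∀ m ∈ M, r * m * r⁻¹ ∈ M) →
      M ≠ ⊥ → M = N := by
    intro M hMN hMinv hM
    have h1 := card_modEq_one_of_seven R M hRc hMinv fun m hm => hfix m (hMN hm)
    have h2 : Nat.card M ∣ 729 := hNc ▸ card_dvd_of_le hMN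
    have h3 : Nat.card M ≠ 1 := fun e => hM (card_eq_one.1 e)
    have h4 : Nat.card M ∈ [1, 3, 9, 27, 81, 243, 729] := by
      obtain ⟨k, hk, e⟩ := (Nat.dvd_prime_pow Nat.prime_three).1 (show Nat.card M ∣ 3 ^ 6 from h2)
      rw [e]
      interval_cases k <;> simp
    refine eq_of_le_of_card_ge hMN ?_
    rw [hNc]
    simp only [List.mem_cons, List.not_mem_nil, or_false, Nat.ModEq] at h4 h1
    omega
  have hNP : IsPGroup 3 N := IsPGroup.of_card (n := 6) (by rw [hNc]; rfl)
  haveI : Nontrivial N := by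
    rw [← Finite.one_lt_card_iff_nontrivial, hNc]; norm_num
  -- `N` is abelian
  have hab : ∀ a ∈ N, ∀ b ∈ N, a * b = b * a := by
    set Z := (center N).map N.subtype with hZ
    have hZN : Z = N := by
      refine hinv Z (map_subtype_le _) ?_ ?_
      · rintro r hr _ ⟨⟨m, hm⟩, hc, rfl⟩
        refine ⟨⟨r * m * r⁻¹, hnorm r hr m hm⟩, ?_, rfl⟩
        rw [SetLike.mem_coe, mem_center_iff] at hc ⊢
        intro x
        have hx : r⁻¹ * (x : Cfsg.PSU 4 K 3) * r⁻¹⁻¹ ∈ N := hnorm _ (inv_mem hr) x x.2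
        have h := congrArg Subtype.val (hc ⟨_, hx⟩)
        refine Subtype.ext ?_
        simp only [coe_mul, inv_inv] at h ⊢
        calc (x : Cfsg.PSU 4 K 3) * (r * m * r⁻¹) = r * ((r⁻¹ * x * r) * m) * r⁻¹ := by group
          _ = r * (m * (r⁻¹ * x * r)) * r⁻¹ := by rw [h]
          _ = (r * m * r⁻¹) * x := by group
      · intro h
        haveI := hNP.center_nontrivial
        rw [hZ, map_eq_bot_iff_of_injective _ N.subtype_injective] at h
        exact (nontrivial_iff_ne_bot _).1 inferInstance h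
    intro a ha b hb
    rw [← hZN] at ha
    obtain ⟨a', ha', rfl⟩ := ha
    exact (congrArg Subtype.val (mem_center_iff.1 ha' ⟨b, hb⟩)).symm
  -- of exponent three
  have hexp : ∀ a ∈ N, a ^ 3 = 1 := by
    let M : Subgroup (Cfsg.PSU 4 K 3) :=
      { carrier := {a | a ∈ N ∧ a ^ 3 = 1}
        one_mem' := ⟨one_mem _, one_pow _⟩
        mul_mem' := fun {a b} ha hb => ⟨mul_mem ha.1 hb.1, by
          rw [Commute.mul_pow (hab a ha.1 b hb.1), ha.2, hb.2, one_mul]⟩
        inv_mem' := fun {a} ha => ⟨inv_mem ha.1, by rw [inv_pow, ha.2, inv_one]⟩ }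
    have hM : M = N := by
      refine hinv M (fun a ha => ha.1) (fun r hr m hm => ⟨hnorm r hr m hm.1, ?_⟩) fun h => ?_
      · rw [conj_pow, hm.2, mul_one, mul_inv_cancel]
      · obtain ⟨x, hx⟩ := exists_prime_orderOf_dvd_card' (G := N) 3 (by rw [hNc]; norm_num)
        have : (x : Cfsg.PSU 4 K 3) ∈ M := ⟨x.2, by
          rw [← orderOf_dvd_iff_pow_eq_one, orderOf_coe, hx]⟩
        rw [h, mem_bot] at this
        rw [← orderOf_coe, this, orderOf_one] at hx
        norm_num at hx
    intro a ha
    rw [← hM] at ha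
    exact ha.2
  obtain ⟨y, hy9, hy3⟩ := exists_nine K hK
  have hfac : (Nat.card (Cfsg.PSU 4 K 3)).factorization 3 = 6 := by
    rw [card_psu K hK, show 3265920 = 3 ^ 6 * 4480 by norm_num,
      Nat.factorization_mul (by norm_num) (by norm_num), Finsupp.add_apply,
      Nat.factorization_eq_zero_of_not_dvd (show ¬ 3 ∣ 4480 by norm_num), add_zero,
      Nat.Prime.factorization_pow Nat.prime_three, Finsupp.single_eq_same]
  have hy : IsPGroup 3 (zpowers y) := by
    obtain ⟨k, -, e⟩ := (Nat.dvd_prime_pow Nat.prime_three).1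
      (show orderOf y ∣ 3 ^ 2 from orderOf_dvd_of_pow_eq_one hy9)
    exact IsPGroup.of_card (n := k) (by rw [Nat.card_zpowers, e])
  obtain ⟨S, hS⟩ := hy.exists_le_sylow
  obtain ⟨t, ht⟩ := MulAction.exists_smul_eq (Cfsg.PSU 4 K 3) S
    (Sylow.ofCard N (by rw [hNc, hfac]; rfl))
  have hmem : t * y * t⁻¹ ∈ N := by
    have e := congrArg Sylow.toSubgroup ht
    rw [Sylow.coe_subgroup_smul] at e
    rw [← show ((Sylow.ofCard N (by rw [hNc, hfac]; rfl) : Sylow 3 (Cfsg.PSU 4 K 3)) :
      Subgroup (Cfsg.PSU 4 K 3)) = N from rfl, ← e]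
    exact ⟨y, hS (mem_zpowers y), rfl⟩
  have := hexp _ hmem
  rw [conj_pow, mul_inv_eq_one, mul_eq_left] at this
  exact hy3 this

/-- `PSU(4,3)` has no subgroup of odd order at least 2835. -/
theorem false_of_odd_subgroup (D : Subgroup (Cfsg.PSU 4 K 3)) (hD : Odd (Nat.card D))
    (hbig : 2835 ≤ Nat.card D) : False := by
  haveI : Fact (Nat.Prime 5) := ⟨by norm_num⟩
  haveI : Fact (Nat.Prime 7) := ⟨by norm_num⟩
  have hdvd : Nat.card D ∣ 25515 := by
    have h := card_subgroup_dvd_card D
    rw [card_psu K hK, show 3265920 = 128 * 25515 by norm_num] at h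
    refine Nat.Coprime.dvd_of_dvd_mul_left ?_ h
    rw [show (128 : ℕ) = 2 ^ 7 by norm_num]
    exact (Nat.coprime_two_right.2 hD).pow_right 7
  obtain ⟨k, hk⟩ := hdvd
  have hk9 : k ≤ 9 := by
    by_contra h
    have : 2835 * 10 ≤ Nat.card D * k := Nat.mul_le_mul hbig (by omega)
    omega
  have hval : Nat.card D = 25515 ∨ Nat.card D = 8505 ∨ Nat.card D = 5103 ∨ Nat.card D = 3645 ∨
      Nat.card D = 2835 := by
    interval_cases k <;> omega
  have key : ∀ {p n r : ℕ}, p.Prime → n = p * r → ¬ p ∣ r → n.factorization p = 1 := by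
    intro p n r hp e h
    subst e
    rw [Nat.factorization_mul hp.ne_zero (fun h0 => h (by rw [h0]; exact dvd_zero p)),
      Finsupp.add_apply, Nat.Prime.factorization_self hp, Nat.factorization_eq_zero_of_not_dvd h]
  have hmap : ∀ {p : ℕ} (P : Sylow p D), Nat.card (normalizer ((P : Subgroup D) : Set D)) ∣
      Nat.card (normalizer (((P : Subgroup D).map D.subtype : Subgroup (Cfsg.PSU 4 K 3)) :
        Set (Cfsg.PSU 4 K 3))) := fun P => by
    rw [← card_map_of_injective D.subtype_injective]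
    exact card_dvd_of_le (le_normalizer_map D.subtype)
  -- the prime five
  have five : ∀ r, Nat.card D = 5 * r → ¬ 5 ∣ r → r % 5 = 1 := by
    intro r hr h5
    obtain ⟨P⟩ : Nonempty (Sylow 5 D) := inferInstance
    have hP : Nat.card (P : Subgroup D) = 5 := by
      rw [Sylow.card_eq_multiplicity, key (by norm_num) hr h5, pow_one]
    set R := (P : Subgroup D).map D.subtype
    have hR : Nat.card R = 5 := by rw [card_map_of_injective D.subtype_injective, hP]
    have hCR := CfsgLib.UFourThree.centralizer_five K hK R hR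
    have h20 : Nat.card (normalizer (R : Set (Cfsg.PSU 4 K 3))) ∣ 20 := by
      set φ := Subgroup.normalizerMonoidHom R
      rw [← φ.ker.card_mul_index, index_ker]
      refine Nat.mul_dvd_mul (b := 5) (d := 4) ?_ ?_
      · rw [normalizerMonoidHom_ker, ← hR]
        exact dvd_of_eq (by
          rw [hCR]
          exact Nat.card_congr (subgroupOfEquivOfLe le_normalizer).toEquiv)
      · haveI : IsCyclic R := isCyclic_of_prime_card hR
        have h := card_subgroup_dvd_card φ.range
        rwa [IsCyclic.card_mulAut, hR, Nat.totient_prime (by norm_num)] at h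
    have h5' : Nat.card (normalizer ((P : Subgroup D) : Set D)) ∣ 5 := by
      refine Nat.Coprime.dvd_of_dvd_mul_right (n := 4) ?_ (show _ ∣ 5 * 4 from (hmap P).trans h20)
      exact Nat.Coprime.pow_right 2 (Nat.coprime_two_right.2 (hD.of_dvd_nat
        (card_subgroup_dvd_card _)))
    have hN : Nat.card (normalizer ((P : Subgroup D) : Set D)) = 5 :=
      Nat.dvd_antisymm h5' (by
        conv_lhs => rw [← hP]
        exact card_dvd_of_le le_normalizer)
    have hmod := card_sylow_modEq_one 5 D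
    have hidx := (normalizer ((P : Subgroup D) : Set D)).card_mul_index
    rw [hN, hr] at hidx
    have : Nat.card (Sylow 5 D) = r := by
      rw [Sylow.card_eq_index_normalizer P]
      exact Nat.eq_of_mul_eq_mul_left (by norm_num) hidx
    rw [Nat.ModEq, this] at hmod
    exact hmod
  -- the prime seven
  have seven : ∀ r, Nat.card D = 7 * r → ¬ 7 ∣ r → r % 7 = 1 ∨ 3 ∣ r ∧ (r / 3) % 7 = 1 := by
    intro r hr h7
    obtain ⟨P⟩ : Nonempty (Sylow 7 D) := inferInstance
    have hP : Nat.card (P : Subgroup D) = 7 := by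
      rw [Sylow.card_eq_multiplicity, key (by norm_num) hr h7, pow_one]
    have h21 : Nat.card (normalizer ((P : Subgroup D) : Set D)) ∣ 21 := by
      have := hmap P
      rwa [(normalizer_seven_psu K hK ((P : Subgroup D).map D.subtype)
        (by rw [card_map_of_injective D.subtype_injective, hP])).1] at this
    obtain ⟨c, hc⟩ := card_dvd_of_le (le_normalizer (H := (P : Subgroup D)))
    rw [hP] at hc
    have hc3 : c ∣ 3 := by
      rw [hc] at h21
      exact Nat.dvd_of_mul_dvd_mul_left (by norm_num) (show 7 * c ∣ 7 * 3 from h21)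
    have hmod := card_sylow_modEq_one 7 D
    have hidx := (normalizer ((P : Subgroup D) : Set D)).card_mul_index
    rw [hc, hr] at hidx
    have hcs : Nat.card (Sylow 7 D) = (normalizer ((P : Subgroup D) : Set D)).index :=
      Sylow.card_eq_index_normalizer P
    rw [Nat.ModEq, hcs] at hmod
    rcases (Nat.dvd_prime Nat.prime_three).1 hc3 with rfl | rfl <;> omega
  rcases hval with h | h | h | h | h
  · have := five 5103 (by omega) (by norm_num); omega
  · have := seven 1215 (by omega) (by norm_num); omega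
  · obtain ⟨P⟩ : Nonempty (Sylow 7 D) := inferInstance
    have hP : Nat.card (P : Subgroup D) = 7 := by
      rw [Sylow.card_eq_multiplicity, key (r := 729) (by norm_num) (by omega) (by norm_num), pow_one]
    refine false_of_seven_complement K hK D h P hP ?_
    have h21 : Nat.card (normalizer ((P : Subgroup D) : Set D)) ∣ 21 := by
      have := hmap P
      rwa [(normalizer_seven_psu K hK ((P : Subgroup D).map D.subtype)
        (by rw [card_map_of_injective D.subtype_injective, hP])).1] at this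
    obtain ⟨c, hc⟩ := card_dvd_of_le (le_normalizer (H := (P : Subgroup D)))
    rw [hP] at hc
    have hc3 : c ∣ 3 := by
      rw [hc] at h21
      exact Nat.dvd_of_mul_dvd_mul_left (by norm_num) (show 7 * c ∣ 7 * 3 from h21)
    have hmod := card_sylow_modEq_one 7 D
    have hidx := (normalizer ((P : Subgroup D) : Set D)).card_mul_index
    rw [hc, h] at hidx
    have hcs : Nat.card (Sylow 7 D) = (normalizer ((P : Subgroup D) : Set D)).index :=
      Sylow.card_eq_index_normalizer P
    rw [Nat.ModEq, hcs] at hmod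
    refine (eq_of_le_of_card_ge le_normalizer ?_).ge
    rw [hc, hP]
    rcases (Nat.dvd_prime Nat.prime_three).1 hc3 with rfl | rfl <;> omega
  · have := five 729 (by omega) (by norm_num); omega
  · have := five 567 (by omega) (by norm_num); omega

omit hK in
/-- Two involutions with product of odd order are conjugate. -/
theorem isConj_of_odd_mul {G : Type*} [Group G] {x t : G} (hx : x * x = 1) (ht : t * t = 1)
    (h : Odd (orderOf (x * t))) : IsConj t x := by
  obtain ⟨k, hk⟩ := h
  set r := x * t with hr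
  have hti : t * r * t = r⁻¹ := by
    rw [hr, mul_inv_rev, inv_eq_of_mul_eq_one_right ht, inv_eq_of_mul_eq_one_right hx]
    calc t * (x * t) * t = t * x * (t * t) := by group
      _ = t * x := by rw [ht, mul_one]
  have hpow : t * r ^ (k + 1) * t = (r ^ (k + 1))⁻¹ := by
    have hconj := (conj_pow (i := k + 1) (a := t) (b := r)).symm
    rw [inv_eq_of_mul_eq_one_right ht] at hconj
    rw [hconj, hti, inv_pow]
  refine isConj_iff.2 ⟨r ^ (k + 1), ?_⟩
  calc r ^ (k + 1) * t * (r ^ (k + 1))⁻¹ = r ^ (k + 1) * (t * (r ^ (k + 1))⁻¹ * t) * t := by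
        simp [mul_assoc, ht]
    _ = r ^ (k + 1) * r ^ (k + 1) * t := by
        rw [← hpow, show t * (t * r ^ (k + 1) * t) * t = (t * t) * r ^ (k + 1) * (t * t) by group, ht,
          one_mul, mul_one]
    _ = x := by
        rw [← pow_add, show k + 1 + (k + 1) = orderOf r + 1 by omega, pow_succ, pow_orderOf_eq_one,
          one_mul, hr, mul_assoc, ht, mul_one]

/-- The main step, with the field first. -/
theorem eq_top_of_psu {G : Type*} [Group G] [Finite G] (z : G) (hz : orderOf z = 2) (H : Subgroup G)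
    (hC : Subgroup.centralizer ({z} : Set G) ≤ H)
    (hcard : Nat.card (Subgroup.centralizer ({z} : Set G)) = 1152)
    (hone : ∀ x ∈ H, orderOf x = 2 → ∃ h ∈ H, h * z * h⁻¹ = x)
    (e : H ≃* Cfsg.PSU 4 K 3) : H = ⊤ ∧ ∀ x y : G, orderOf x = 2 → orderOf y = 2 → IsConj x y := by
  classical
  suffices hH : H = ⊤ by
    refine ⟨hH, fun x y hx hy => ?_⟩
    obtain ⟨a, -, ha⟩ := hone x (hH ▸ mem_top x) hx
    obtain ⟨b, -, hb⟩ := hone y (hH ▸ mem_top y) hy
    exact (isConj_iff.2 ⟨a, ha⟩).symm.trans (isConj_iff.2 ⟨b, hb⟩)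
  by_contra hne
  have hzH : z ∈ H := hC (mem_centralizer_singleton_iff.2 rfl)
  have hHone : ∀ a b : H, orderOf a = 2 → orderOf b = 2 → IsConj a b := by
    intro a b ha hb
    obtain ⟨c, hc, hca⟩ := hone a a.2 (by rw [orderOf_coe, ha])
    obtain ⟨d, hd, hdb⟩ := hone b b.2 (by rw [orderOf_coe, hb])
    have h1 : IsConj (⟨z, hzH⟩ : H) a := isConj_iff.2 ⟨⟨c, hc⟩, Subtype.ext hca⟩
    have h2 : IsConj (⟨z, hzH⟩ : H) b := isConj_iff.2 ⟨⟨d, hd⟩, Subtype.ext hdb⟩
    exact h1.symm.trans h2
  -- centralizers of involutions of `H` lie in `H`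
  have hCt : ∀ t ∈ H, orderOf t = 2 → centralizer ({t} : Set G) ≤ H := by
    intro t ht ot c hc
    obtain ⟨h, hh, e'⟩ := hone t ht ot
    have hm : h⁻¹ * c * h ∈ centralizer ({z} : Set G) := mem_centralizer_singleton_iff.2 (by
      calc h⁻¹ * c * h * z = h⁻¹ * (c * (h * z * h⁻¹)) * h := by group
        _ = h⁻¹ * (t * c) * h := by rw [e', mem_centralizer_singleton_iff.1 hc]
        _ = z * (h⁻¹ * c * h) := by rw [← e']; group)
    have := mul_mem (mul_mem hh (hC hm)) (inv_mem hh)
    simpa [mul_assoc] using this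
  have hsq : ∀ {x : G}, orderOf x = 2 → x * x = 1 := fun {x} h => by
    have := pow_orderOf_eq_one x
    rwa [h, pow_two] at this
  -- all involutions are conjugate
  have hout : ∀ x t : G, x ∈ H → orderOf x = 2 → t ∉ H → orderOf t = 2 → IsConj t x := by
    intro x t hxH hx htH ht
    refine isConj_of_odd_mul (hsq hx) (hsq ht) ?_
    rw [Nat.odd_iff]
    by_contra hev
    obtain ⟨m, hm⟩ := Nat.dvd_of_mod_eq_zero (show orderOf (x * t) % 2 = 0 by omega)
    have hpos := orderOf_pos (x * t)
    have hu : orderOf ((x * t) ^ m) = 2 := by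
      rw [orderOf_pow' _ (by omega), hm, Nat.gcd_mul_left_left, Nat.mul_div_cancel _ (by omega)]
    have hinv : ((x * t) ^ m)⁻¹ = (x * t) ^ m := inv_eq_of_mul_eq_one_right (hsq hu)
    have hxi : x⁻¹ = x := inv_eq_of_mul_eq_one_right (hsq hx)
    have hti : t⁻¹ = t := inv_eq_of_mul_eq_one_right (hsq ht)
    have hcx : x * (x * t) ^ m * x⁻¹ = (x * t) ^ m := by
      rw [← conj_pow, hxi, show x * (x * t) * x = (x * x) * (t * x) by group, hsq hx, one_mul]
      conv_rhs => rw [← hinv, ← inv_pow, mul_inv_rev, hxi, hti]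
    have hct : t * (x * t) ^ m * t⁻¹ = (x * t) ^ m := by
      rw [← conj_pow, hti, show t * (x * t) * t = (t * x) * (t * t) by group, hsq ht, mul_one]
      conv_rhs => rw [← hinv, ← inv_pow, mul_inv_rev, hxi, hti]
    have huH : (x * t) ^ m ∈ H := hCt x hxH hx (mem_centralizer_singleton_iff.2
      (mul_inv_eq_iff_eq_mul.1 hcx).symm)
    exact htH (hCt _ huH hu (mem_centralizer_singleton_iff.2 (mul_inv_eq_iff_eq_mul.1 hct)))
  have hG1 : ∀ x : G, orderOf x = 2 → IsConj z x := by
    intro x hx
    by_cases hxH : x ∈ H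
    · obtain ⟨c, -, hc⟩ := hone x hxH hx
      exact isConj_iff.2 ⟨c, hc⟩
    · exact (hout z x hzH hz hxH hx).symm
  -- counting involutions
  have hcount : ∀ (K : Subgroup G) (w : K),
      (∀ x : K, orderOf x = 2 → IsConj w x) → orderOf w = 2 →
      Nat.card {x : K // orderOf x = 2} = (centralizer ({w} : Set K)).index := by
    intro K w hw ow
    have : (centralizer ({w} : Set K)).index = Nat.card (MulAction.orbit (ConjAct K) w) := by
      rw [Nat.card_coe_set_eq, ← MulAction.index_stabilizer]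
      congr 1
      ext s
      rw [mem_centralizer_singleton_iff]
      show _ ↔ ConjAct.toConjAct s • _ = _
      rw [ConjAct.smul_def, ConjAct.ofConjAct_toConjAct, mul_inv_eq_iff_eq_mul]
    rw [this]
    refine Nat.card_congr (Equiv.subtypeEquivRight fun x => ?_)
    rw [ConjAct.mem_orbit_conjAct]
    exact ⟨fun hx => (hw x hx).symm, fun hx => by
      obtain ⟨c, rfl⟩ := isConj_iff.1 hx.symm
      rw [← MulAut.conj_apply, MulEquiv.orderOf_eq, ow]⟩
  set I := {x : G // orderOf x = 2}
  have hI : Nat.card I * 1152 = Nat.card G := by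
    have e0 : Nat.card {x : (⊤ : Subgroup G) // orderOf x = 2} = Nat.card I :=
      Nat.card_congr ((topEquiv (G := G)).toEquiv.subtypeEquiv fun x => by
        show _ ↔ orderOf (topEquiv x) = 2
        rw [MulEquiv.orderOf_eq])
    have h := hcount ⊤ ⟨z, mem_top z⟩ (fun x hx => by
      obtain ⟨c, hc⟩ := isConj_iff.1 (hG1 x (by rw [orderOf_coe, hx]))
      exact isConj_iff.2 ⟨⟨c, mem_top c⟩, Subtype.ext hc⟩) (by rw [orderOf_mk, hz])
    rw [e0] at h
    have hc : Nat.card (centralizer ({(⟨z, mem_top z⟩ : (⊤ : Subgroup G))} : Set (⊤ : Subgroup G)))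
        = 1152 := by
      rw [← hcard]
      exact Nat.card_congr ((topEquiv (G := G)).toEquiv.subtypeEquiv fun x => by
        simp [mem_centralizer_singleton_iff, Subtype.ext_iff])
    have h2 := (centralizer ({(⟨z, mem_top z⟩ : (⊤ : Subgroup G))} : Set _)).card_mul_index
    rw [hc, card_top, ← h] at h2
    rw [← h2, mul_comm]
  have hHI : Nat.card {x : H // orderOf x = 2} = 2835 := by
    rw [hcount H ⟨z, hzH⟩ (fun x hx => hHone _ _ (by rw [orderOf_mk, hz]) hx) (by rw [orderOf_mk, hz])]
    have hc : Nat.card (centralizer ({(⟨z, hzH⟩ : H)} : Set H)) = 1152 := by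
      rw [← hcard, ← card_map_of_injective H.subtype_injective]
      congr 2
      ext x
      simp only [mem_map, mem_centralizer_singleton_iff, coe_subtype]
      refine ⟨?_, fun hx => ⟨⟨x, hC (mem_centralizer_singleton_iff.2 hx)⟩, Subtype.ext hx, rfl⟩⟩
      rintro ⟨y, hy, rfl⟩
      exact congrArg Subtype.val hy
    have h2 := (centralizer ({(⟨z, hzH⟩ : H)} : Set H)).card_mul_index
    rw [hc, Nat.card_congr e.toEquiv, card_psu K hK] at h2
    omega
  -- a coset with many involutions
  have hG : Nat.card I = H.index * 2835 := by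
    have h := H.card_mul_index
    rw [Nat.card_congr e.toEquiv, card_psu K hK] at h
    omega
  obtain ⟨q, hq, hbig⟩ : ∃ q : G ⧸ H, q ≠ ((1 : G) : G ⧸ H) ∧
      2835 ≤ Nat.card {x : I // ((x : G) : G ⧸ H) = q} := by
    by_contra hcon
    push Not at hcon
    haveI := Fintype.ofFinite (G ⧸ H)
    have hsum : Nat.card I = ∑ q : G ⧸ H, Nat.card {x : I // ((x : G) : G ⧸ H) = q} := by
      rw [← Nat.card_sigma]
      exact (Nat.card_congr (Equiv.sigmaFiberEquiv fun x : I => ((x : G) : G ⧸ H))).symm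
    have h1 : Nat.card {x : I // ((x : G) : G ⧸ H) = ((1 : G) : G ⧸ H)} = 2835 := by
      rw [← hHI]
      exact Nat.card_congr
        { toFun := fun x => ⟨⟨x.1.1, by
            have h := QuotientGroup.eq.1 x.2.symm
            simpa using h⟩, by rw [orderOf_mk]; exact x.1.2⟩
          invFun := fun x => ⟨⟨x.1, by rw [orderOf_coe]; exact x.2⟩, by
            refine (QuotientGroup.eq.2 ?_).symm
            simpa using x.1.2⟩
          left_inv := fun x => rfl
          right_inv := fun x => rfl }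
    have hlt : ∑ q : G ⧸ H, Nat.card {x : I // ((x : G) : G ⧸ H) = q} < ∑ _q : G ⧸ H, 2835 := by
      refine Finset.sum_lt_sum (fun q _ => ?_) ?_
      · by_cases h : q = ((1 : G) : G ⧸ H)
        · rw [h, h1]
        · exact (hcon q h).le
      · obtain ⟨g, hg⟩ : ∃ g, g ∉ H := by
          by_contra h
          exact hne ((eq_top_iff' H).2 (not_exists_not.1 h))
        refine ⟨(g : G ⧸ H), Finset.mem_univ _, hcon _ fun h => hg ?_⟩
        simpa using QuotientGroup.eq.1 h.symm
    rw [← hsum, Finset.sum_const, Finset.card_univ, ← Nat.card_eq_fintype_card, ← index_eq_card,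
      smul_eq_mul, ← hG] at hlt
    exact lt_irrefl _ hlt
  haveI : Nonempty {x : I // ((x : G) : G ⧸ H) = q} := (Nat.card_pos_iff.1 (by omega)).1
  obtain ⟨⟨⟨u, hu⟩, huq⟩⟩ := ‹Nonempty {x : I // ((x : G) : G ⧸ H) = q}›
  have huH : u ∉ H := fun h => hq (by
    rw [← huq]
    exact (QuotientGroup.eq.2 (by simpa using h)).symm)
  have huu : u * u = 1 := by
    have := pow_orderOf_eq_one u
    rwa [hu, pow_two] at this
  have huinv : u⁻¹ = u := inv_eq_of_mul_eq_one_right huu
  set D : Subgroup H := (H.map (MulAut.conj u).toMonoidHom).subgroupOf H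
  have hmemD : ∀ x : H, x ∈ D ↔ u * x * u ∈ H := by
    intro x
    rw [mem_subgroupOf]
    constructor
    · rintro ⟨y, hy, e'⟩
      rw [← e', MulEquiv.coe_toMonoidHom, MulAut.conj_apply, huinv]
      rw [show u * (u * y * u) * u = (u * u) * y * (u * u) by group, huu, one_mul, mul_one]
      exact hy
    · intro h
      refine ⟨u * x * u, h, ?_⟩
      rw [MulEquiv.coe_toMonoidHom, MulAut.conj_apply, huinv]
      calc u * (u * x * u) * u = (u * u) * x * (u * u) := by group
        _ = x := by rw [huu, one_mul, mul_one]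
  -- `D` has odd order
  have hDodd : Odd (Nat.card D) := by
    rw [Nat.odd_iff]
    by_contra h
    haveI : Fact (Nat.Prime 2) := ⟨Nat.prime_two⟩
    obtain ⟨t, ht⟩ := exists_prime_orderOf_dvd_card' (G := D) 2 (Nat.dvd_of_mod_eq_zero (by omega))
    have ot : orderOf ((t : H) : G) = 2 := by rw [orderOf_coe, orderOf_coe, ht]
    have ht' : u * ((t : H) : G) * u ∈ H := (hmemD _).1 t.2
    obtain ⟨h', hh⟩ := isConj_iff.1 (hHone (t : H) ⟨_, ht'⟩ (by rw [orderOf_coe, ht]) (by
      rw [orderOf_mk]
      have : u * ((t : H) : G) * u = MulAut.conj u ((t : H) : G) := by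
        rw [MulAut.conj_apply, huinv]
      rw [this, MulEquiv.orderOf_eq, ot]))
    have e' : (h' : G) * (t : H) * (h' : G)⁻¹ = u * (t : H) * u := congrArg Subtype.val hh
    have hm : (h' : G)⁻¹ * u ∈ centralizer ({((t : H) : G)} : Set G) :=
      mem_centralizer_singleton_iff.2 (by
        calc (h' : G)⁻¹ * u * (t : H) = (h' : G)⁻¹ * (u * (t : H) * u) * u := by
              rw [show (h' : G)⁻¹ * (u * (t : H) * u) * u = (h' : G)⁻¹ * u * (t : H) * (u * u) by group,
                huu, mul_one]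
          _ = (t : H) * ((h' : G)⁻¹ * u) := by rw [← e']; group)
    exact huH (by simpa using mul_mem h'.2 (hCt _ (t : H).2 ot hm))
  -- the elements `u⁻¹ x`
  have hDbig : 2835 ≤ Nat.card D := by
    refine hbig.trans (Nat.card_le_card_of_injective (fun x =>
      (⟨⟨u * x.1.1, ?_⟩, ?_⟩ : D)) fun x y h => ?_)
    · have h := QuotientGroup.eq.1 (huq.trans x.2.symm)
      rwa [huinv] at h
    · rw [hmemD]
      have hx : (x.1.1 : G) * x.1.1 = 1 := by
        have := pow_orderOf_eq_one x.1.1
        rwa [x.1.2, pow_two] at this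
      have h := QuotientGroup.eq.1 (huq.trans x.2.symm)
      have h' := inv_mem h
      rw [huinv, mul_inv_rev, inv_eq_of_mul_eq_one_right hx, huinv] at h'
      show u * (u * x.1.1) * u ∈ H
      rwa [← mul_assoc u u, huu, one_mul]
    · exact Subtype.ext (Subtype.ext (mul_left_cancel (congrArg (fun d : D => ((d : H) : G)) h)))
  refine false_of_odd_subgroup K hK (D.map e.toMonoidHom) ?_ ?_ <;>
    rw [card_map_of_injective e.injective] <;> assumption

omit [Field K] [Fintype K] hK in
/-- A subgroup isomorphic to `U₄(3)` containing an involution centraliser of order 1152 and fusing its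
involutions is the whole group, and all involutions are conjugate. -/
theorem eq_top_of_equiv {G : Type*} [Group G] [Finite G] (z : G) (hz : orderOf z = 2) (H : Subgroup G)
    (hC : Subgroup.centralizer ({z} : Set G) ≤ H)
    (hcard : Nat.card (Subgroup.centralizer ({z} : Set G)) = 1152)
    (hone : ∀ x ∈ H, orderOf x = 2 → ∃ h ∈ H, h * z * h⁻¹ = x)
    (K : Type) [Field K] [Fintype K] (hK : Fintype.card K = 9) (e : H ≃* Cfsg.PSU 4 K 3) :
    H = ⊤ ∧ ∀ x y : G, orderOf x = 2 → orderOf y = 2 → IsConj x y :=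
  eq_top_of_psu K hK z hz H hC hcard hone e

end CfsgLib.UFourType
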