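import Cfsg.Agent.UFourType.Defs
import Cfsg.Agent.UFourThree.Seven

/-!
Six elements of the projective special unitary group of degree four over nine elements
satisfying the relators.
-/

set_option autoImplicit false
set_option maxRecDepth 100000

namespace CfsgLib.UFourType

open Matrix CfsgLib.UThree CfsgLib.UFourThree CfsgLib.CosetEnum

/-- The matrices of the six generators. -/
def psuGen : List (List (List ℕ)) :=
  [[[6, 3, 0, 4], [2, 8, 5, 8], [0, 7, 3, 3], [8, 7, 1, 5]],
   [[0, 7, 2, 3], [2, 7, 7, 7], [2, 3, 0, 4], [8, 4, 2, 8]],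
   [[4, 0, 7, 0], [0, 1, 0, 0], [8, 0, 7, 0], [0, 0, 0, 1]],
   [[5, 4, 6, 4], [5, 8, 7, 6], [2, 5, 3, 0], [8, 1, 0, 6]],
   [[2, 4, 7, 7], [7, 1, 8, 4], [4, 5, 2, 7], [4, 7, 4, 1]],
   [[0, 0, 0, 1], [0, 6, 0, 0], [0, 0, 3, 0], [2, 0, 0, 0]]]

/-- Conjugate transpose. -/
def star4 (A : List (List ℕ)) : List (List ℕ) := tab4 fun i j => conjF (get4 A j i)

/-- The matrix of a letter. -/
def psuLet (x : ℕ) : List (List ℕ) :=
  if x < 12 then
    if x % 2 = 0 then psuGen.getD (x / 2) (diag4 1 1) else star4 (psuGen.getD (x / 2) (diag4 1 1))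
  else diag4 1 1

/-- The matrix of a word. -/
def psuWord : List ℕ → List (List ℕ)
  | [] => diag4 1 1
  | x :: w => mul4 (psuLet x) (psuWord w)

/-- Determinant of the minor with the given columns of the last three rows. -/
def det3 (A : List (List ℕ)) (a b c : ℕ) : ℕ :=
  addF (addF (mulF (get4 A 1 a) (addF (mulF (get4 A 2 b) (get4 A 3 c))
      (negF (mulF (get4 A 2 c) (get4 A 3 b)))))
    (negF (mulF (get4 A 1 b) (addF (mulF (get4 A 2 a) (get4 A 3 c))
      (negF (mulF (get4 A 2 c) (get4 A 3 a)))))))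
    (mulF (get4 A 1 c) (addF (mulF (get4 A 2 a) (get4 A 3 b))
      (negF (mulF (get4 A 2 b) (get4 A 3 a)))))

/-- Determinant. -/
def det4 (A : List (List ℕ)) : ℕ :=
  addF (addF (mulF (get4 A 0 0) (det3 A 1 2 3)) (negF (mulF (get4 A 0 1) (det3 A 0 2 3))))
    (addF (mulF (get4 A 0 2) (det3 A 0 1 3)) (negF (mulF (get4 A 0 3) (det3 A 0 1 2))))

/-- A scalar code. -/
def scalarOK (A : List (List ℕ)) : Bool :=
  (List.range 9).any fun k => A == diag4 k k

theorem psuLet_ok : ((List.range 13).all fun x =>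
    colsOK (psuLet x) && det4 (psuLet x) == 1 &&
      mul4 (psuLet x) (psuLet (if x < 12 then Nat.xor x 1 else x)) == diag4 1 1) = true := by
  decide +kernel

theorem psuWord_rels : (allRels.all fun w => w.all (fun x => decide (x < 13)) &&
    scalarOK (psuWord w)) = true := by
  decide +kernel

theorem psuWord_z : ((List.range 4).any fun i => (List.range 4).any fun j =>
    !(get4 (mul4 (psuWord zW) (psuLet 10)) i j == get4 (mul4 (psuLet 10) (psuWord zW)) i j)) = true := by
  decide +kernel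

section

variable {F : Type*} [Field F] [CharP F 3] {ι : F} (hι : ι ^ 2 = -1)
include hι

theorem det4_eq (A : List (List ℕ)) : (mat4 ι A).det = val9 ι (det4 A) := by
  simp [Matrix.det_succ_row_zero, Fin.sum_univ_succ, det4, det3, mat4,
    val9_addF, val9_mulF hι, val9_negF hι, Fin.succAbove]
  ring

theorem exists_su [Fintype F] {A : List (List ℕ)} (hA : colsOK A = true) (hd : det4 A = 1) :
    ∃ g : Cfsg.SU 4 F 3,
      ((g : Matrix.SpecialLinearGroup (Fin 4) F) : Matrix (Fin 4) (Fin 4) F) = mat4 ι A := by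
  refine ⟨⟨⟨mat4 ι A, ?_⟩, fun u v => preserves_of_colsOK hι hA u v⟩, rfl⟩
  rw [det4_eq hι, hd, val9_one]

omit [CharP F 3] hι in
theorem mat4_scalar (k : ℕ) : mat4 ι (diag4 k k) = val9 ι k • (1 : Matrix (Fin 4) (Fin 4) F) := by
  rw [mat4_diag]
  ext i j
  fin_cases i <;> fin_cases j <;> simp

end

theorem exists_psu_sat (K : Type) [Field K] [Fintype K] (hK : Fintype.card K = 9) :
    ∃ γ : ℕ → Cfsg.PSU 4 K 3, Sat γ allRels ∧ CosetEnum.prodw γ zW ≠ 1 := by
  classical
  haveI : CharP K 3 := by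
    obtain ⟨p, hp⟩ := CharP.exists K
    obtain ⟨n, hn, e⟩ := FiniteField.card K p
    have : p ∣ 3 := by
      refine hn.dvd_of_dvd_pow (n := 2) ?_
      rw [show (3 : ℕ) ^ 2 = p ^ (n : ℕ) by omega]
      exact dvd_pow_self p n.pos.ne'
    rcases (Nat.dvd_prime Nat.prime_three).1 this with h | h
    · exact absurd h hn.ne_one
    · exact h ▸ hp
  obtain ⟨ι, hι⟩ := exists_iota (F := K) hK
  let toM : Cfsg.SU 4 K 3 →* Matrix (Fin 4) (Fin 4) K :=
    (Cfsg.slToMat 4 K).comp (Cfsg.SU 4 K 3).subtype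
  have toM_inj : Function.Injective toM := fun a b e => Subtype.ext (Subtype.ext e)
  have hok := fun x (hx : x < 13) => List.all_eq_true.1 psuLet_ok x (List.mem_range.2 hx)
  simp only [Bool.and_eq_true, beq_iff_eq] at hok
  have hex : ∀ x, ∃ g : Cfsg.SU 4 K 3, x < 13 → toM g = mat4 ι (psuLet x) := by
    intro x
    by_cases hx : x < 13
    · obtain ⟨g, hg⟩ := exists_su hι (hok x hx).1.1 (hok x hx).1.2
      exact ⟨g, fun _ => hg⟩
    · exact ⟨1, fun h => absurd h hx⟩
  choose g hg using hex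
  let q := QuotientGroup.mk' (Subgroup.center (Cfsg.SU 4 K 3))
  let γ : ℕ → Cfsg.PSU 4 K 3 := fun x => q (g x)
  have hinv : ∀ x, x < 12 → g x * g (Nat.xor x 1) = 1 := by
    intro x hx
    have hx' : Nat.xor x 1 < 13 := by
      interval_cases x <;> decide
    have h := (hok x (by omega)).2
    rw [if_pos hx] at h
    refine toM_inj ?_
    rw [map_mul, map_one, hg x (by omega), hg _ hx', ← mat4_mul hι, h, mat4_one]
  have h12 : g 12 = 1 := toM_inj (by
    rw [hg 12 (by omega), map_one, show psuLet 12 = diag4 1 1 from rfl, mat4_one])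
  have hword : ∀ w : List ℕ, (∀ x ∈ w, x < 13) →
      toM ((w.map g).prod) = mat4 ι (psuWord w) ∧ prodw γ w = q ((w.map g).prod) := by
    intro w
    induction w with
    | nil => exact fun _ => ⟨by simp [psuWord, mat4_one], by simp [prodw]⟩
    | cons x w ih =>
      intro hw
      obtain ⟨h1, h2⟩ := ih fun y hy => hw y (List.mem_cons_of_mem x hy)
      constructor
      · rw [List.map_cons, List.prod_cons, map_mul, h1, hg x (hw x List.mem_cons_self), psuWord,
          mat4_mul hι]
      · rw [prodw_cons, h2, List.map_cons, List.prod_cons, map_mul]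
  refine ⟨γ, ⟨fun x hx => ?_, by simp [γ, h12], fun w hw => ?_⟩, ?_⟩
  · refine eq_inv_of_mul_eq_one_right ?_
    rw [← map_mul, hinv x hx, map_one]
  · have h := List.all_eq_true.1 psuWord_rels w hw
    simp only [Bool.and_eq_true, List.all_eq_true, decide_eq_true_eq, scalarOK, List.any_eq_true,
      beq_iff_eq] at h
    obtain ⟨hlt, k, -, hk⟩ := h
    obtain ⟨hM, hq⟩ := hword w hlt
    rw [hq, QuotientGroup.mk'_apply, QuotientGroup.eq_one_iff, Subgroup.mem_center_iff]
    intro a
    refine toM_inj ?_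
    rw [map_mul, map_mul, hM, hk, mat4_scalar, mul_smul_comm, smul_mul_assoc, mul_one, one_mul]
  · intro hz
    obtain ⟨hM, hq⟩ := hword zW (by decide)
    rw [hq, QuotientGroup.mk'_apply, QuotientGroup.eq_one_iff, Subgroup.mem_center_iff] at hz
    have h := congrArg toM (hz (g 10))
    rw [map_mul, map_mul, hM, hg 10 (by omega), ← mat4_mul hι, ← mat4_mul hι] at h
    have hne := psuWord_z
    simp only [List.any_eq_true, List.mem_range, Bool.not_eq_true', beq_eq_false_iff_ne] at hne
    obtain ⟨i, hi, j, hj, hne⟩ := hne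
    refine hne (val9_injOn hι ?_ ?_ ?_).symm
    · simp only [mul4, get4_tab4 _ hi hj]; exact addF_lt _ _
    · simp only [mul4, get4_tab4 _ hi hj]; exact addF_lt _ _
    · exact congrFun (congrFun h ⟨i, hi⟩) ⟨j, hj⟩

end CfsgLib.UFourType
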