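import Cfsg.Agent.UFourType.CTable
import Cfsg.Agent.UFourType.Data.FCheck

/-!
The group generated by six elements satisfying all the relators: it has order `3265920` unless
`z = 1`, any two such groups are isomorphic, and all its involutions are conjugate to `z`.
-/

set_option autoImplicit false
set_option linter.style.haveILetI false
set_option maxRecDepth 100000

namespace CfsgLib.UFourType

open CfsgLib.MTwelveUnique CfsgLib.CosetEnum

noncomputable section

/-- A table with all rows derived bounds the index of the subgroup. -/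
theorem Tab.index_le {G : Type*} [Group G] {g : ℕ → G} {H : Subgroup G} {R W : List (List ℕ)}
    (T : Tab) {k : ℕ} (hiv : ∀ x, x < 12 → g (Nat.xor x 1) = (g x)⁻¹) (he : g 12 = 1)
    (hR : ∀ w ∈ R, prodw g w = 1) (hW : ∀ w ∈ W, prodw g w ∈ H) (hok : T.cert.ok R W = true)
    (hder : T.Derived k) (h0 : ext T.reps 0 = 0) (hn : 0 < T.n)
    (hgen : Subgroup.closure ((fun x => g (2 * x)) '' {x | x < k}) = ⊤) :
    Finite (G ⧸ H) ∧ H.index ≤ T.n := by
  classical
  let c : ℕ → G ⧸ H := fun i => ((crOf g T.cert.parN T.cert.parX (ext T.reps i))⁻¹ : G)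
  let O : Finset (G ⧸ H) := (Finset.range T.n).image c
  have hedge : ∀ x < k, ∀ i < T.n, ∃ j < T.n, g (2 * x) • c j = c i := by
    intro x hx i hi
    obtain ⟨p, hp⟩ := hder x hx i hi
    simp only [Tab.edgeP, Bool.and_eq_true, Nat.blt_eq] at hp
    have hm := Cert.mem_of_reads hiv he hR hW hok hp.2
    refine ⟨_, hp.1, ?_⟩
    show ((g (2 * x) * _ : G) : G ⧸ H) = (_ : G ⧸ H)
    refine QuotientGroup.eq.mpr ?_
    have := H.inv_mem hm
    simpa [prodw, mul_assoc] using this
  have hfix : ∀ y : G, ∀ q ∈ O, y • q ∈ O ∧ y⁻¹ • q ∈ O := by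
    intro y
    have hy : y ∈ Subgroup.closure ((fun x => g (2 * x)) '' {x | x < k}) := hgen ▸ Subgroup.mem_top y
    induction hy using Subgroup.closure_induction with
    | mem y hy =>
      obtain ⟨x, hx, rfl⟩ := hy
      have hinv : ∀ q ∈ O, (g (2 * x))⁻¹ • q ∈ O := by
        intro q hq
        simp only [O, Finset.mem_image, Finset.mem_range] at hq ⊢
        obtain ⟨i, hi, rfl⟩ := hq
        obtain ⟨j, hj, hji⟩ := hedge x hx i hi
        exact ⟨j, hj, by rw [← hji, inv_smul_smul]⟩
      intro q hq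
      refine ⟨?_, hinv q hq⟩
      have himg : O.image (fun r => (g (2 * x))⁻¹ • r) = O :=
        Finset.eq_of_subset_of_card_le (Finset.image_subset_iff.mpr hinv)
          (Finset.card_image_of_injective _ (MulAction.injective _)).ge
      have hq' : q ∈ O.image (fun r => (g (2 * x))⁻¹ • r) := himg.symm ▸ hq
      obtain ⟨r, hr, rfl⟩ := Finset.mem_image.mp hq'
      simpa using hr
    | one => intro q hq; simp [hq]
    | mul y z _ _ h1 h2 =>
      intro q hq
      exact ⟨by rw [mul_smul]; exact (h1 _ (h2 _ hq).1).1,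
        by rw [mul_inv_rev, mul_smul]; exact (h2 _ (h1 _ hq).2).2⟩
    | inv y _ h1 =>
      intro q hq
      exact ⟨(h1 q hq).2, by rw [inv_inv]; exact (h1 q hq).1⟩
  have hall : ∀ q : G ⧸ H, q ∈ O := by
    intro q
    induction q using QuotientGroup.induction_on with
    | H y =>
      have h1 : ((1 : G) : G ⧸ H) ∈ O := by
        refine Finset.mem_image.mpr ⟨0, Finset.mem_range.mpr hn, ?_⟩
        simp [c, h0, crOf_zero]
      have := (hfix y _ h1).1
      rwa [MulAction.Quotient.smul_coe, smul_eq_mul, mul_one] at this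
  have hcard : Nat.card (G ⧸ H) ≤ Nat.card O :=
    Nat.card_le_card_of_injective (fun q => (⟨q, hall q⟩ : O)) fun a b e => congrArg Subtype.val e
  refine ⟨Finite.of_injective (fun q => (⟨q, hall q⟩ : O)) fun a b e => congrArg Subtype.val e, ?_⟩
  rw [Subgroup.index]
  refine hcard.trans ?_
  rw [Nat.card_eq_fintype_card, Fintype.card_coe]
  exact Finset.card_image_le.trans (by simp)

/-- The subgroup generated by all the letters. -/
def fullGroup {G : Type*} [Group G] (γ : ℕ → G) : Subgroup G := Subgroup.closure (γ '' {x | x < 12})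

variable {G : Type*} [Group G] {γ : ℕ → G}

theorem allRels_cRels (h : Sat γ allRels) : Sat γ cRels :=
  h.mono fun w hw => by simp [allRels, hw]

theorem letter_mem_fullGroup {x : ℕ} (hx : x < 12) : γ x ∈ fullGroup γ :=
  Subgroup.subset_closure ⟨x, hx, rfl⟩

theorem prodw_mem_fullGroup {w : List ℕ} (hw : ∀ x ∈ w, x < 12) : prodw γ w ∈ fullGroup γ := by
  induction w with
  | nil => exact (fullGroup γ).one_mem
  | cons x w ih =>
    rw [prodw_cons]
    exact (fullGroup γ).mul_mem (letter_mem_fullGroup (hw x List.mem_cons_self))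
      (ih fun y hy => hw y (List.mem_cons_of_mem x hy))

theorem cGroup_le_fullGroup : cGroup γ ≤ fullGroup γ :=
  Subgroup.closure_mono (Set.image_mono fun x (hx : x < 10) => show x < 12 by omega)

theorem subW_lt : subW.all (fun w => w.all (fun x => Nat.blt x 10)) = true := by decide

/-- A group generated by elements satisfying the relators has at most `3265920` elements. -/
theorem finite_card_fullGroup_le (h : Sat γ allRels) :
    Finite (fullGroup γ) ∧ Nat.card (fullGroup γ) ≤ 3265920 := by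
  let γ' : ℕ → fullGroup γ := fun x => if hx : x < 12 then ⟨γ x, letter_mem_fullGroup hx⟩ else 1
  have hv : ∀ x, x < 13 → (γ' x : G) = γ x := fun x hx => by
    by_cases h12 : x < 12
    · simp [γ', h12]
    · obtain rfl : x = 12 := by omega
      simp [γ', h.eps]
  have hpush : ∀ w : List ℕ, (∀ x ∈ w, x < 13) → ((prodw γ' w : fullGroup γ) : G) = prodw γ w := by
    intro w
    induction w with
    | nil => intro _; rfl
    | cons x w ih =>
      intro hw
      rw [prodw_cons, prodw_cons, Subgroup.coe_mul, hv x (hw x List.mem_cons_self),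
        ih fun y hy => hw y (List.mem_cons_of_mem x hy)]
  have hlt : ∀ w ∈ allRels, ∀ x ∈ w, x < 13 := by decide +kernel
  have hiv : ∀ x, x < 12 → γ' (Nat.xor x 1) = (γ' x)⁻¹ := fun x hx => by
    have h1 : Nat.xor x 1 < 13 := by interval_cases x <;> decide
    apply Subtype.ext
    rw [Subgroup.coe_inv, hv _ h1, hv x (by omega), h.iv x hx]
  have h' : Sat γ' allRels :=
    ⟨hiv, Subtype.ext (by rw [hv 12 (by norm_num), h.eps, Subgroup.coe_one]), fun w hw =>
      Subtype.ext (by rw [hpush w (hlt w hw), h.rel w hw, Subgroup.coe_one])⟩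
  have hgen : Subgroup.closure ((fun x => γ' (2 * x)) '' {x | x < 6}) = ⊤ := by
    rw [eq_top_iff]
    rintro ⟨y, hy⟩ -
    have : y ∈ (Subgroup.closure ((fun x => γ' (2 * x)) '' {x | x < 6})).map
        (fullGroup γ).subtype := by
      refine (Subgroup.closure_le _).2 ?_ hy
      rintro _ ⟨x, hx, rfl⟩
      have hx' : x < 12 := hx
      refine ⟨γ' x, ?_, hv x (by omega)⟩
      obtain ⟨k, rfl | rfl⟩ := Nat.even_or_odd' x
      · exact Subgroup.subset_closure ⟨k, show k < 6 by omega, rfl⟩
      · have e : Nat.xor (2 * k) 1 = 2 * k + 1 := by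
          have hk : k < 6 := by omega
          interval_cases k <;> decide
        rw [← e, hiv _ (by omega)]
        exact Subgroup.inv_mem _ (Subgroup.subset_closure ⟨k, show k < 6 by omega, rfl⟩)
    obtain ⟨z, hz, rfl⟩ := this
    exact hz
  obtain ⟨hfC, hC⟩ := finite_cGroup (allRels_cRels h')
  obtain ⟨hfQ, hle⟩ := Tab.index_le (H := cGroup γ') fT h'.iv h'.eps h'.rel
    (fun w hw => prodw_mem_cGroup fun x hx => by
      simpa using List.all_eq_true.1 (List.all_eq_true.1 subW_lt w hw) x hx)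
    f_ok f_derived (by decide +kernel) (by decide +kernel) hgen
  haveI hfin : Finite (fullGroup γ) :=
    Finite.of_equiv _ (cGroup γ').groupEquivQuotientProdSubgroup.symm
  refine ⟨hfin, ?_⟩
  rw [← (cGroup γ').card_mul_index]
  exact (Nat.mul_le_mul hC hle).trans (by decide +kernel)

/-! ### The action on the rows -/

/-- The word leading to a row, in the alphabet of all the letters. -/
abbrev rW (i : ℕ) : List ℕ := fWord i

theorem f_rows : (List.range 2835).all (fun i => (List.range 12).all (fun x =>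
    Nat.blt (ext (fT.tab x) i) 2835 &&
      Nat.beq (ext (fT.tab (Nat.xor x 1)) (ext (fT.tab x) i)) i)) = true := by
  decide +kernel

theorem f_rels : allRels.all (fun r =>
    (List.range 2835).all (fun i => Nat.beq (fT.walk i r) i)) = true := by
  decide +kernel

theorem allRels_lt : allRels.all (fun r => r.all (fun x => Nat.blt x 12)) = true := by
  decide +kernel

theorem f_fix : (List.range 10).all (fun x => Nat.beq (ext (fT.tab x) 0) 0) = true := by
  decide +kernel

theorem f_paths : (List.range 2835).all (fun i =>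
    (rW i).all (fun x => Nat.blt x 12) && Nat.beq (fT.walk 0 (rW i)) i) = true := by
  decide +kernel

theorem f_sep : (List.range 2835).all (fun i => Nat.beq i 0 || (List.range 4).any (fun p =>
    !(Nat.beq (fT.walk p (rW i ++ zW)) (fT.walk p (zW ++ rW i))))) = true := by
  decide +kernel

theorem f_row_lt {i x : ℕ} (hi : i < 2835) (hx : x < 12) :
    ext (fT.tab x) i < 2835 ∧ ext (fT.tab (Nat.xor x 1)) (ext (fT.tab x) i) = i := by
  have h := List.all_eq_true.1 (List.all_eq_true.1 f_rows i (List.mem_range.2 hi)) x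
    (List.mem_range.2 hx)
  simpa using h

theorem xor_one_lt {x : ℕ} (hx : x < 12) :
    Nat.xor x 1 < 12 ∧ Nat.xor (Nat.xor x 1) 1 = x := by
  interval_cases x <;> decide

/-- The permutation of the rows by a letter, as a left action. -/
def permLetter (x : ℕ) : Equiv.Perm (Fin 2835) :=
  if hx : x < 12 then
    { toFun := fun i => ⟨ext (fT.tab (Nat.xor x 1)) i, (f_row_lt i.2 (xor_one_lt hx).1).1⟩
      invFun := fun i => ⟨ext (fT.tab x) i, (f_row_lt i.2 hx).1⟩
      left_inv := fun i => Fin.ext (by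
        have := (f_row_lt i.2 (xor_one_lt hx).1).2
        rwa [(xor_one_lt hx).2] at this)
      right_inv := fun i => Fin.ext (f_row_lt i.2 hx).2 }
  else 1

theorem permLetter_symm {x : ℕ} (hx : x < 12) (i : Fin 2835) :
    ((permLetter x)⁻¹ i).val = ext (fT.tab x) i := by
  simp [permLetter, hx, Equiv.Perm.inv_def]

theorem permWord : ∀ (w : List ℕ), (∀ x ∈ w, x < 12) → ∀ i : Fin 2835,
    ((prodw permLetter w)⁻¹ i).val = fT.walk i w := by
  intro w
  induction w with
  | nil => intro _ i; simp [prodw, Tab.walk]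
  | cons x w ih =>
    intro hw i
    rw [prodw_cons, mul_inv_rev, Equiv.Perm.mul_apply, ih fun y hy => hw y (List.mem_cons_of_mem x hy),
      permLetter_symm (hw x List.mem_cons_self)]
    rfl

theorem sat_perm : Sat permLetter allRels := by
  refine ⟨fun x hx => ?_, by simp [permLetter], fun w hw => ?_⟩
  · refine inv_injective (Equiv.ext fun i => Fin.ext ?_)
    rw [permLetter_symm (xor_one_lt hx).1, inv_inv]
    simp [permLetter, hx]
  · have hlt : ∀ x ∈ w, x < 12 := fun x hx => by
      simpa using List.all_eq_true.1 (List.all_eq_true.1 allRels_lt w hw) x hx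
    refine inv_eq_one.1 (Equiv.ext fun i => Fin.ext ?_)
    rw [permWord w hlt]
    simpa using List.all_eq_true.1 (List.all_eq_true.1 f_rels w hw) i (List.mem_range.2 i.2)

/-- The letters together with their permutations of the rows. -/
def pairing {A B : Type*} (α : ℕ → A) (β : ℕ → B) : ℕ → A × B := fun x => (α x, β x)

theorem prodw_pairing {A B : Type*} [Group A] [Group B] (α : ℕ → A) (β : ℕ → B) :
    ∀ w : List ℕ, prodw (pairing α β) w = (prodw α w, prodw β w) := by
  intro w
  induction w with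
  | nil => rfl
  | cons x w ih => rw [prodw_cons, prodw_cons, prodw_cons, ih]; rfl

theorem Sat.pairing {A B : Type*} [Group A] [Group B] {α : ℕ → A} {β : ℕ → B}
    {R : List (List ℕ)} (ha : Sat α R) (hb : Sat β R) : Sat (UFourType.pairing α β) R :=
  ⟨fun x hx => Prod.ext (ha.iv x hx) (hb.iv x hx), Prod.ext ha.eps hb.eps, fun w hw => by
    rw [prodw_pairing, ha.rel w hw, hb.rel w hw]; rfl⟩

theorem map_fullGroup_pairing {A B : Type*} [Group A] [Group B] (α : ℕ → A) (β : ℕ → B) :
    (fullGroup (pairing α β)).map (MonoidHom.fst A B) = fullGroup α := by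
  rw [fullGroup, MonoidHom.map_closure, Set.image_image]
  rfl

/-- Projection of the group of pairs. -/
def fstFull {A B : Type*} [Group A] [Group B] (α : ℕ → A) (β : ℕ → B) :
    fullGroup (pairing α β) →* fullGroup α :=
  ((MonoidHom.fst A B).comp (fullGroup (pairing α β)).subtype).codRestrict _ fun d =>
    map_fullGroup_pairing α β ▸ Subgroup.mem_map_of_mem _ d.2

theorem fstFull_surjective {A B : Type*} [Group A] [Group B] (α : ℕ → A) (β : ℕ → B) :
    Function.Surjective (fstFull α β) := by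
  rintro ⟨a, ha⟩
  rw [← map_fullGroup_pairing α β] at ha
  obtain ⟨d, hd, rfl⟩ := ha
  exact ⟨⟨d, hd⟩, rfl⟩

/-! ### The pairs -/

section Pairs

variable (h : Sat γ allRels) (hz : prodw γ zW ≠ 1)

local notation "θ" => pairing γ permLetter

include h in
theorem sat_pair : Sat θ allRels := h.pairing sat_perm

include hz in
theorem z_pair_ne : prodw θ zW ≠ 1 := by
  rw [prodw_pairing]
  exact fun e => hz (congrArg Prod.fst e)

theorem snd_cGroup {d : G × Equiv.Perm (Fin 2835)} (hd : d ∈ cGroup θ) : d.2 0 = 0 := by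
  have hle : cGroup θ ≤ (MulAction.stabilizer (Equiv.Perm (Fin 2835)) (0 : Fin 2835)).comap
      (MonoidHom.snd G _) := by
    refine (Subgroup.closure_le _).2 ?_
    rintro _ ⟨x, hx, rfl⟩
    show permLetter x 0 = 0
    have hx' : x < 10 := hx
    refine (Equiv.Perm.inv_eq_iff_eq.1 (Fin.ext ?_)).symm
    rw [permLetter_symm (by omega)]
    simpa using List.all_eq_true.1 f_fix x (List.mem_range.2 hx')
  exact hle hd

/-- The element leading to a row. -/
def rowEl (γ : ℕ → G) (i : ℕ) : G × Equiv.Perm (Fin 2835) := prodw (pairing γ permLetter) (rW i)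

theorem rW_spec {i : ℕ} (hi : i < 2835) : (∀ x ∈ rW i, x < 12) ∧ fT.walk 0 (rW i) = i := by
  have h := List.all_eq_true.1 f_paths i (List.mem_range.2 hi)
  simpa using h

theorem rowEl_snd (i : Fin 2835) : (rowEl γ i).2⁻¹ 0 = i := by
  refine Fin.ext ?_
  rw [rowEl, prodw_pairing, permWord _ (rW_spec i.2).1]
  exact (rW_spec i.2).2

theorem pairMap_mem (p : Fin 1152 × Fin 2835) : el θ p.1 * rowEl γ p.2 ∈ fullGroup θ :=
  (fullGroup θ).mul_mem (cGroup_le_fullGroup (el_mem p.1.2))
    (prodw_mem_fullGroup (rW_spec p.2.2).1)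

/-- A row of the centraliser and a row of the big table give an element. -/
def pairMap (γ : ℕ → G) (p : Fin 1152 × Fin 2835) : fullGroup (pairing γ permLetter) :=
  ⟨el (pairing γ permLetter) p.1 * rowEl γ p.2, pairMap_mem p⟩

theorem snd_el_rowEl (m : Fin 1152) (n : Fin 2835) : (el θ m * rowEl γ n).2⁻¹ 0 = n := by
  rw [Prod.snd_mul, mul_inv_rev, Equiv.Perm.mul_apply,
    Equiv.Perm.inv_eq_iff_eq.2 (snd_cGroup (el_mem m.2)).symm, rowEl_snd]

include h hz in
theorem pairMap_injective : Function.Injective (pairMap γ) := by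
  rintro ⟨k, i⟩ ⟨l, j⟩ e
  have e' : el θ k * rowEl γ i = el θ l * rowEl γ j := congrArg Subtype.val e
  have hij : i = j := by rw [← snd_el_rowEl (γ := γ) k i, ← snd_el_rowEl (γ := γ) l j, e']
  subst hij
  exact Prod.ext (Fin.ext (el_inj (allRels_cRels (sat_pair h)) (z_pair_ne hz) k.2 l.2
    (mul_right_cancel e'))) rfl

include h hz in
theorem card_pair : Nat.card (fullGroup θ) = 3265920 := by
  obtain ⟨hfin, hle⟩ := finite_card_fullGroup_le (sat_pair h)
  exact le_antisymm hle (by
    simpa using Nat.card_le_card_of_injective _ (pairMap_injective h hz))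

include h hz in
theorem pair_decomp {d : G × Equiv.Perm (Fin 2835)} (hd : d ∈ fullGroup θ) :
    ∃ k : Fin 1152, ∃ i : Fin 2835, el θ k * rowEl γ i = d := by
  obtain ⟨hfin, hle⟩ := finite_card_fullGroup_le (sat_pair h)
  obtain ⟨p, hp⟩ := ((pairMap_injective h hz).bijective_of_nat_card_le
    (hle.trans (le_of_eq (by simp)))).2 ⟨d, hd⟩
  exact ⟨p.1, p.2, congrArg Subtype.val hp⟩

include h hz in
theorem fixes_zero {d : G × Equiv.Perm (Fin 2835)} (hd : d ∈ fullGroup θ) (h0 : d.2 0 = 0) :
    d ∈ cGroup θ := by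
  obtain ⟨k, i, rfl⟩ := pair_decomp h hz hd
  have hi : i = 0 := by
    have h1 : (el θ k * rowEl γ i).2⁻¹ 0 = 0 := Equiv.Perm.inv_eq_iff_eq.2 h0.symm
    rw [Prod.snd_mul, mul_inv_rev, Equiv.Perm.mul_apply,
      Equiv.Perm.inv_eq_iff_eq.2 (snd_cGroup (el_mem k.2)).symm, rowEl_snd] at h1
    exact h1
  subst hi
  have : rowEl γ ((0 : Fin 2835) : ℕ) = 1 := by
    have : rW 0 = [] := by decide +kernel
    simp [rowEl, this, prodw]
  rw [this, mul_one]
  exact el_mem k.2

theorem z_central_check : (List.range 10).all (fun x => sameB ([x] ++ zW) (zW ++ [x])) = true := by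
  decide +kernel

theorem z_commute (h' : Sat γ cRels) {c : G} (hc : c ∈ cGroup γ) : Commute c (prodw γ zW) := by
  have hle : cGroup γ ≤ Subgroup.centralizer {prodw γ zW} := by
    refine (Subgroup.closure_le _).2 ?_
    rintro _ ⟨x, hx, rfl⟩
    have e := prodw_eq_of_sameB h' (List.all_eq_true.1 z_central_check x (List.mem_range.2 hx))
    rw [prodw_append, prodw_append, show prodw γ [x] = γ x by simp [prodw]] at e
    exact Subgroup.mem_centralizer_singleton_iff.2 e
  exact Subgroup.mem_centralizer_singleton_iff.1 (hle hc)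

include h hz in
theorem mem_cGroup_of_commute {d : G × Equiv.Perm (Fin 2835)} (hd : d ∈ fullGroup θ)
    (hdz : Commute d (prodw θ zW)) : d ∈ cGroup θ := by
  obtain ⟨k, i, rfl⟩ := pair_decomp h hz hd
  have hk := z_commute (allRels_cRels (sat_pair h)) (el_mem (γ := θ) k.2)
  have hr : Commute (rowEl γ i) (prodw θ zW) := by
    have := hk.inv_left.mul_left hdz
    rwa [inv_mul_cancel_left] at this
  have e : prodw permLetter (rW i ++ zW) = prodw permLetter (zW ++ rW i) := by
    have := congrArg Prod.snd hr.eq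
    rw [rowEl, prodw_pairing, prodw_pairing] at this
    rw [prodw_append, prodw_append]
    exact this
  have hi : (i : ℕ) = 0 := by
    have hs := List.all_eq_true.1 f_sep i (List.mem_range.2 i.2)
    simp only [Bool.or_eq_true, Nat.beq_eq, List.any_eq_true, Bool.not_eq_true'] at hs
    refine hs.resolve_right fun ⟨p, hp, hne⟩ => ?_
    have hp' : p < 2835 := by have := List.mem_range.1 hp; omega
    have hzl : ∀ x ∈ zW, x < 12 := by decide
    have hl := (rW_spec i.2).1
    rw [← permWord (rW i ++ zW) (by simpa [or_imp, forall_and] using ⟨hl, hzl⟩) ⟨p, hp'⟩,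
      ← permWord (zW ++ rW i) (by simpa [or_imp, forall_and] using ⟨hzl, hl⟩) ⟨p, hp'⟩, e] at hne
    simp at hne
  have : rowEl γ i = 1 := by
    have h0 : rW 0 = [] := by decide +kernel
    simp [rowEl, hi, h0, prodw]
  rw [this, mul_one]
  exact el_mem k.2

theorem g_facts (h' : Sat γ allRels) :
    γ 11 = γ 10 ∧ γ 10 * prodw γ zW * γ 10 = prodw γ uW ∧ γ 10 * prodw γ fW * γ 10 = γ 8 ∧
      γ 10 * γ 0 * γ 10 = γ 6 := by
  have hmem : ∀ w ∈ gRels, prodw γ w = 1 := fun w hw => h'.rel w (by simp [allRels, hw])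
  have h11 : γ 11 = (γ 10)⁻¹ := h'.iv 10 (by norm_num)
  have h7 : γ 7 = (γ 6)⁻¹ := h'.iv 6 (by norm_num)
  have h9 : γ 9 = (γ 8)⁻¹ := h'.iv 8 (by norm_num)
  have hu : prodw γ (invW uW) = (prodw γ uW)⁻¹ := prodw_invW h' uW (by decide)
  refine ⟨?_, ?_, ?_, ?_⟩
  · have e := hmem [10, 10] (by decide)
    rw [prodw_cons, prodw_cons, prodw_nil, mul_one] at e
    rw [h11, inv_eq_of_mul_eq_one_left e]
  · have e := hmem ([10] ++ zW ++ [10] ++ invW uW) (by decide)
    rw [prodw_append, prodw_append, prodw_append, hu, mul_inv_eq_one] at e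
    simpa [prodw] using e
  · have e := hmem ([10] ++ fW ++ [10] ++ [9]) (by decide)
    rw [prodw_append, prodw_append, prodw_append, show prodw γ [9] = (γ 8)⁻¹ by simp [prodw, h9],
      mul_inv_eq_one] at e
    simpa [prodw] using e
  · have e := hmem ([10] ++ [0] ++ [10] ++ [7]) (by decide)
    rw [prodw_append, prodw_append, prodw_append, show prodw γ [7] = (γ 6)⁻¹ by simp [prodw, h7],
      mul_inv_eq_one] at e
    simpa [prodw] using e

theorem g_square (h' : Sat γ allRels) : γ 10 * γ 10 = 1 := by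
  have e := h'.iv 10 (by norm_num)
  rw [show Nat.xor 10 1 = 11 by decide, (g_facts h').1] at e
  exact mul_eq_one_iff_eq_inv.2 e

theorem juj_check : sameB ([2] ++ uW ++ [3]) (uW ++ zW) = true := by decide +kernel

theorem zz_check : sameB (zW ++ zW) [] = true := by decide +kernel

include h hz in
theorem pair_ker {n : G × Equiv.Perm (Fin 2835)} (hn : n ∈ fullGroup θ) (hn1 : n.1 = 1) :
    n = 1 := by
  have hs := sat_pair h
  have hc := allRels_cRels hs
  haveI := (finite_card_fullGroup_le hs).1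
  set z := prodw θ zW
  set u := prodw θ uW
  let N : Subgroup (G × Equiv.Perm (Fin 2835)) := fullGroup θ ⊓ (MonoidHom.fst G _).ker
  haveI : Finite N := Finite.of_injective
    (fun m : N => (⟨m.1, m.2.1⟩ : fullGroup θ)) fun a b e =>
      Subtype.ext (Subtype.mk_eq_mk.1 e)
  have hfix : ∀ m ∈ N, Commute m z → m = 1 := by
    intro m hm hmz
    obtain ⟨k, hk, e⟩ := (mem_cGroup hc).1 (mem_cGroup_of_commute h hz hm.1 hmz)
    have hm1 : m.1 = 1 := hm.2
    rw [← e, el, prodw_pairing] at hm1
    have h0 : k = 0 := eq_zero_of_el_eq_one (allRels_cRels h) hz hk hm1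
    rw [← e, h0, el_zero hc]
  have hconj : ∀ m ∈ N, ∀ a ∈ fullGroup θ, a * m * a⁻¹ ∈ N := fun m hm a ha =>
    ⟨(fullGroup θ).mul_mem ((fullGroup θ).mul_mem ha hm.1) ((fullGroup θ).inv_mem ha), by
      have hm1 : m.1 = 1 := hm.2
      show (a * m * a⁻¹).1 = 1
      simp [hm1]⟩
  have hg : θ 10 * θ 10 = 1 := g_square hs
  have hgi : (θ 10)⁻¹ = θ 10 := inv_eq_of_mul_eq_one_left hg
  have hug : u = θ 10 * z * (θ 10)⁻¹ := by rw [hgi]; exact (g_facts hs).2.1.symm
  have huz : u * z = θ 2 * u * (θ 2)⁻¹ := by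
    have e := prodw_eq_of_sameB hc juj_check
    rw [prodw_append, prodw_append, prodw_append, show prodw θ [2] = θ 2 by simp [prodw],
      show prodw θ [3] = (θ 2)⁻¹ by simpa [prodw] using hs.iv 2 (by norm_num)] at e
    exact e.symm
  have hzmem : z ∈ fullGroup θ := prodw_mem_fullGroup (by decide)
  have humem : u ∈ fullGroup θ := prodw_mem_fullGroup (by decide)
  have hfix' : ∀ a ∈ fullGroup θ, ∀ m ∈ N, Commute m (a * z * a⁻¹) → m = 1 := by
    intro a ha m hm hc'
    have h1 := hconj m hm a⁻¹ ((fullGroup θ).inv_mem ha)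
    have h2 : Commute (a⁻¹ * m * a⁻¹⁻¹) z := by
      have := hc'.conj a⁻¹
      simpa [mul_assoc] using this
    have h3 := hfix _ h1 h2
    rw [inv_inv] at h3
    have := congrArg (fun t => a * t * a⁻¹) h3
    simpa [mul_assoc] using this
  have hzz : z * z = 1 := by
    have e := prodw_eq_of_sameB hc zz_check
    rwa [prodw_append, prodw_nil] at e
  have hinv : ∀ a ∈ fullGroup θ, a * a = 1 → (∀ m ∈ N, Commute m a → m = 1) →
      ∀ m ∈ N, a * m * a⁻¹ = m⁻¹ := by
    intro a ha haa hfx m hm
    let f : N →* N :=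
      { toFun := fun t => ⟨a * t * a⁻¹, hconj t t.2 a ha⟩
        map_one' := Subtype.ext (by simp)
        map_mul' := fun s t => Subtype.ext (by simp [mul_assoc]) }
    have hfree : MonoidHom.FixedPointFree f := fun t ht => by
      refine Subtype.ext (hfx t t.2 ?_)
      have e : a * (t : G × Equiv.Perm (Fin 2835)) * a⁻¹ = t := congrArg Subtype.val ht
      rw [mul_inv_eq_iff_eq_mul] at e
      exact e.symm
    have hinvol : Function.Involutive f := fun t => Subtype.ext (by
      show a * (a * (t : G × Equiv.Perm (Fin 2835)) * a⁻¹) * a⁻¹ = t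
      rw [inv_eq_of_mul_eq_one_left haa]
      calc a * (a * (t : G × Equiv.Perm (Fin 2835)) * a) * a = (a * a) * t * (a * a) := by
            simp [mul_assoc]
        _ = t := by rw [haa, one_mul, mul_one])
    exact congrArg Subtype.val (congrFun (hfree.coe_eq_inv_of_involutive hinvol) ⟨m, hm⟩)
  have huu : u * u = 1 := by
    rw [hug, show θ 10 * z * (θ 10)⁻¹ * (θ 10 * z * (θ 10)⁻¹) = θ 10 * (z * z) * (θ 10)⁻¹ by
      simp [mul_assoc], hzz, mul_one, mul_inv_cancel]
  have hu1 : ∀ m ∈ N, Commute m u → m = 1 := fun m hm hc' =>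
    hfix' (θ 10) (letter_mem_fullGroup (by norm_num)) m hm (hug ▸ hc')
  have hnN : n ∈ N := ⟨hn, hn1⟩
  have e1 := hinv z hzmem hzz hfix n hnN
  have e2 := hinv u humem huu hu1 n⁻¹ (N.inv_mem hnN)
  have hcomm : Commute n (u * z) := by
    show n * (u * z) = u * z * n
    have e3 : u * z * n * (u * z)⁻¹ = n := by
      calc u * z * n * (u * z)⁻¹ = u * (z * n * z⁻¹) * u⁻¹ := by simp [mul_assoc]
        _ = u * n⁻¹ * u⁻¹ := by rw [e1]
        _ = n⁻¹⁻¹ := e2
        _ = n := inv_inv n
    rw [mul_inv_eq_iff_eq_mul] at e3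
    exact e3.symm
  refine hfix' (θ 2 * θ 10) ((fullGroup θ).mul_mem (letter_mem_fullGroup (by norm_num))
    (letter_mem_fullGroup (by norm_num))) n hnN ?_
  rwa [show θ 2 * θ 10 * z * (θ 2 * θ 10)⁻¹ = u * z by
    rw [huz, hug]; simp [mul_assoc]]

include h hz in
theorem fstFull_pair_bijective : Function.Bijective (fstFull γ permLetter) := by
  refine ⟨(injective_iff_map_eq_one _).2 fun d hd => ?_, fstFull_surjective γ permLetter⟩
  exact Subtype.ext (pair_ker h hz d.2 (congrArg Subtype.val hd))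

end Pairs

/-- The group generated by elements satisfying the relators has order `3265920` unless `z = 1`. -/
theorem card_fullGroup (h : Sat γ allRels) (hz : prodw γ zW ≠ 1) :
    Nat.card (fullGroup γ) = 3265920 := by
  rw [← card_pair h hz]
  exact (Nat.card_eq_of_bijective _ (fstFull_pair_bijective h hz)).symm

theorem fstFull_bijective {A B : Type*} [Group A] [Group B] {α : ℕ → A} {β : ℕ → B}
    (ha : Sat α allRels) (hb : Sat β allRels) (hza : prodw α zW ≠ 1) :
    Function.Bijective (fstFull α β) := by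
  have hp := ha.pairing hb
  have hne : prodw (pairing α β) zW ≠ 1 := by
    rw [prodw_pairing]; exact fun e => hza (congrArg Prod.fst e)
  haveI := (finite_card_fullGroup_le hp).1
  refine (fstFull_surjective α β).bijective_of_nat_card_le ?_
  rw [card_fullGroup hp hne, card_fullGroup ha hza]

/-- Two groups generated by elements satisfying the relators are isomorphic unless `z = 1`. -/
theorem fullGroup_equiv {X : Type*} [Group X] {δ : ℕ → X} (h : Sat γ allRels)
    (hz : prodw γ zW ≠ 1) (h' : Sat δ allRels) (hz' : prodw δ zW ≠ 1) :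
    Nonempty (fullGroup γ ≃* fullGroup δ) := by
  have e₁ := MulEquiv.ofBijective _ (fstFull_bijective h h' hz)
  have e₂ := MulEquiv.ofBijective _ (fstFull_bijective h' h hz')
  have hswap : (fullGroup (pairing γ δ)).map (MulEquiv.prodComm : G × X ≃* X × G).toMonoidHom =
      fullGroup (pairing δ γ) := by
    rw [fullGroup, MonoidHom.map_closure, Set.image_image]
    rfl
  exact ⟨e₁.symm.trans ((((fullGroup (pairing γ δ)).equivMapOfInjective _
    (MulEquiv.prodComm : G × X ≃* X × G).injective).trans (MulEquiv.subgroupCongr hswap)).trans e₂)⟩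

/-! ### Involutions -/

/-- Classes of involutions of the centraliser. -/
def involClass : List (List ℕ) := [zW, uW, [8], [6, 8]]

/-- For an involution `i`, a row `k` and a class `t` with `k t k⁻¹ = i`. -/
def involWit : List (ℕ × ℕ × ℕ) := [
    (1, 0, 2), (5, 0, 0), (18, 11, 2), (21, 0, 1), (23, 7, 1), (24, 4, 2),
    (27, 10, 2), (29, 42, 1), (33, 14, 2), (34, 40, 1), (44, 0, 3), (50, 1, 3),
    (89, 2, 1), (100, 11, 3), (103, 4, 3), (113, 3, 1), (114, 56, 1), (117, 12, 1),
    (138, 205, 1), (139, 505, 1), (144, 106, 1), (145, 178, 1), (155, 7, 2), (173, 2, 2),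
    (258, 3, 2), (343, 74, 2), (350, 107, 1), (353, 49, 1), (422, 8, 3), (423, 28, 3),
    (426, 14, 3), (427, 7, 3), (430, 179, 1), (431, 173, 1), (442, 69, 2), (450, 259, 1),
    (465, 35, 3), (469, 2, 3), (472, 9, 3), (481, 36, 3), (581, 3, 3), (587, 58, 3),
    (612, 15, 2), (623, 8, 2), (642, 53, 2), (644, 9, 2), (680, 77, 2), (683, 12, 2),
    (698, 15, 3), (711, 16, 3), (729, 58, 2), (730, 16, 2), (781, 311, 1), (834, 79, 2),
    (937, 82, 3), (938, 39, 3), (979, 56, 2), (987, 49, 3), (992, 41, 3), (1009, 82, 2),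
    (1010, 61, 2), (1019, 91, 2), (1020, 68, 2), (1043, 38, 3), (1045, 12, 3), (1057, 56, 3),
    (1059, 79, 3)]

theorem invol_check : (List.range 1152).all (fun i => Nat.beq i 0 ||
    (!(Nat.beq (idx (cWord i ++ cWord i)) 0) || involWit.any (fun p => Nat.beq p.1 i &&
      (Nat.blt p.2.1 1152 && sameB (cWord p.2.1 ++ involClass.getD p.2.2 [] ++ invW (cWord p.2.1))
        (cWord i))))) = true := by
  decide +kernel

theorem kA_check : sameB (kAW ++ uW ++ invW kAW) fW = true := by decide +kernel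

theorem kB_check : sameB (kBW ++ uW ++ invW kBW) ([0] ++ fW) = true := by decide +kernel

theorem conj_z_of_invol (h : Sat γ allRels) (hz : prodw γ zW ≠ 1) {c : G} (hc : c ∈ cGroup γ)
    (hc2 : c * c = 1) (hc1 : c ≠ 1) :
    ∃ a ∈ fullGroup γ, a * prodw γ zW * a⁻¹ = c := by
  have hcr := allRels_cRels h
  set z := prodw γ zW
  obtain ⟨i, hi, rfl⟩ := (mem_cGroup hcr).1 hc
  have hw2 : ∀ x ∈ cWord i ++ cWord i, x < 10 := fun x hx =>
    (List.mem_append.1 hx).elim ((cWord_spec hi).2 x) ((cWord_spec hi).2 x)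
  have h2 : idx (cWord i ++ cWord i) = 0 := eq_zero_of_el_eq_one hcr hz (prodw_eq_el hcr hw2).1 (by
    rw [← (prodw_eq_el hcr hw2).2, prodw_append]; exact hc2)
  have hchk := List.all_eq_true.1 invol_check i (List.mem_range.2 hi)
  simp only [Bool.or_eq_true, Nat.beq_eq, List.any_eq_true, Bool.and_eq_true, Nat.blt_eq] at hchk
  rcases hchk with rfl | hchk | ⟨p, -, hpi, hk, hp⟩
  · exact absurd (el_zero hcr) hc1
  · rw [h2] at hchk; simp at hchk
  have e := prodw_eq_of_sameB hcr hp
  rw [prodw_append, prodw_append, prodw_invW h _ fun x hx => by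
    have := (cWord_spec hk).2 x hx; omega] at e
  have hkm : prodw γ (cWord p.2.1) ∈ fullGroup γ := cGroup_le_fullGroup (el_mem hk)
  obtain ⟨-, hgu, hgf, hgi⟩ := g_facts h
  have hgg := g_square h
  have hginv : (γ 10)⁻¹ = γ 10 := inv_eq_of_mul_eq_one_left hgg
  have hgm : γ 10 ∈ fullGroup γ := letter_mem_fullGroup (by norm_num)
  have hA := prodw_eq_of_sameB hcr kA_check
  rw [prodw_append, prodw_append, prodw_invW h _ (by decide)] at hA
  have hB := prodw_eq_of_sameB hcr kB_check
  rw [prodw_append, prodw_append, prodw_append, prodw_invW h _ (by decide),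
    show prodw γ [0] = γ 0 by simp [prodw]] at hB
  have hcases : ∀ t : ℕ, prodw γ (involClass.getD t []) = 1 ∨
      ∃ a ∈ fullGroup γ, a * z * a⁻¹ = prodw γ (involClass.getD t []) := by
    intro t
    match t with
    | 0 => exact Or.inr ⟨1, one_mem _, by simp [involClass, z]⟩
    | 1 =>
      refine Or.inr ⟨γ 10, hgm, ?_⟩
      rw [hginv]
      exact hgu
    | 2 =>
      refine Or.inr ⟨γ 10 * prodw γ kAW * γ 10, mul_mem (mul_mem hgm
        (prodw_mem_fullGroup (by decide))) hgm, ?_⟩
      rw [show prodw γ (involClass.getD 2 []) = γ 8 by simp [involClass, prodw]]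
      calc _ = γ 10 * (prodw γ kAW * (γ 10 * z * γ 10) * (prodw γ kAW)⁻¹) * γ 10 := by
            simp [mul_assoc, hginv]
        _ = γ 8 := by rw [hgu, hA, hgf]
    | 3 =>
      refine Or.inr ⟨γ 10 * prodw γ kBW * γ 10, mul_mem (mul_mem hgm
        (prodw_mem_fullGroup (by decide))) hgm, ?_⟩
      rw [show prodw γ (involClass.getD 3 []) = γ 6 * γ 8 by simp [involClass, prodw]]
      calc _ = γ 10 * (prodw γ kBW * (γ 10 * z * γ 10) * (prodw γ kBW)⁻¹) * γ 10 := by
            simp [mul_assoc, hginv]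
        _ = γ 10 * γ 0 * (γ 10 * γ 10) * prodw γ fW * γ 10 := by
            rw [hgu, hB, hgg]; simp [mul_assoc]
        _ = (γ 10 * γ 0 * γ 10) * (γ 10 * prodw γ fW * γ 10) := by simp [mul_assoc]
        _ = γ 6 * γ 8 := by rw [hgi, hgf]
    | n + 4 => exact Or.inl (by simp [involClass, prodw])
  have hel : el γ i = prodw γ (cWord p.2.1) * prodw γ (involClass.getD p.2.2 []) *
      (prodw γ (cWord p.2.1))⁻¹ := e.symm
  rcases hcases p.2.2 with h1 | ⟨a, ha, hae⟩
  · exact absurd (by rw [hel, h1]; simp) hc1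
  · exact ⟨_, mul_mem hkm ha, by rw [hel, ← hae]; simp [mul_assoc]⟩

/-- All involutions of the group are conjugate to `z`. -/
theorem fullGroup_invol (h : Sat γ allRels) (hz : prodw γ zW ≠ 1) {x : G} (hx : x ∈ fullGroup γ)
    (hx2 : orderOf x = 2) : ∃ c ∈ fullGroup γ, c * prodw γ zW * c⁻¹ = x := by
  have hxx : x * x = 1 := by rw [← sq, ← hx2]; exact pow_orderOf_eq_one x
  have hx1 : x ≠ 1 := fun e => by simp [e] at hx2
  obtain ⟨d, hd⟩ := fstFull_surjective γ permLetter ⟨x, hx⟩
  have hd1 : (d : G × Equiv.Perm (Fin 2835)).1 = x := congrArg Subtype.val hd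
  have hdd : (d : G × Equiv.Perm (Fin 2835)) * d = 1 :=
    pair_ker h hz (mul_mem d.2 d.2) (by rw [Prod.fst_mul, hd1, hxx])
  haveI : Fact (Nat.Prime 2) := ⟨Nat.prime_two⟩
  obtain ⟨i, hi⟩ := Equiv.Perm.exists_fixed_point_of_prime (p := 2) (n := 1)
    (σ := (d : G × Equiv.Perm (Fin 2835)).2) (by simp) (by
      rw [pow_one, sq]; exact congrArg Prod.snd hdd)
  set r := rowEl γ i
  have hr : r ∈ fullGroup (pairing γ permLetter) := prodw_mem_fullGroup (rW_spec i.2).1
  have hc : r * d * r⁻¹ ∈ cGroup (pairing γ permLetter) := by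
    refine fixes_zero h hz (mul_mem (mul_mem hr d.2) (inv_mem hr)) ?_
    rw [Prod.snd_mul, Prod.snd_mul, Prod.snd_inv, Equiv.Perm.mul_apply, Equiv.Perm.mul_apply,
      rowEl_snd, hi]
    exact (Equiv.Perm.inv_eq_iff_eq.1 (rowEl_snd i)).symm
  have hc1 : r * d * r⁻¹ ≠ 1 := fun e => hx1 (by
    rw [mul_inv_eq_one, mul_eq_left] at e
    rw [← hd1, e]; rfl)
  have hc2 : r * d * r⁻¹ * (r * d * r⁻¹) = 1 := by
    calc _ = r * ((d : G × Equiv.Perm (Fin 2835)) * d) * r⁻¹ := by simp [mul_assoc]
      _ = 1 := by rw [hdd, mul_one, mul_inv_cancel]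
  obtain ⟨a, ha, hae⟩ := conj_z_of_invol (sat_pair h) (z_pair_ne hz) hc hc2 hc1
  refine ⟨((r⁻¹ * a) : G × Equiv.Perm (Fin 2835)).1,
    map_fullGroup_pairing γ permLetter ▸ Subgroup.mem_map_of_mem _ (mul_mem (inv_mem hr) ha), ?_⟩
  have e : r⁻¹ * a * prodw (pairing γ permLetter) zW * (r⁻¹ * a)⁻¹ = d := by
    calc _ = r⁻¹ * (a * prodw (pairing γ permLetter) zW * a⁻¹) * r := by simp [mul_assoc]
      _ = d := by rw [hae]; simp [mul_assoc]
  have := congrArg Prod.fst e
  rw [prodw_pairing, hd1] at this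
  exact this

end

end CfsgLib.UFourType
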