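import Cfsg.Agent.UFourType.Frame
import Cfsg.Agent.UFourType.CentS
import Cfsg.Agent.UFourType.Table
import Cfsg.Agent.UFourType.Psu
import Cfsg.Agent.UFourType.Embedded

/-!
Recognition of `U₄(3)` from the centraliser of an involution.
-/

set_option autoImplicit false

namespace CfsgLib.UFourType

open Subgroup CfsgLib.CosetEnum CfsgLib.UFourType.Frame

/-- A group of `U₄(3)` type is `U₄(3)`, of order `3265920`, with one class of involutions. -/
theorem recognition {G : Type*} [Group G] [Finite G] (z : G) (hz : orderOf z = 2)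
    (H₁ H₂ : Subgroup (centralizer ({z} : Set G))) (hn₁ : (H₁.subgroupOf (H₁ ⊔ H₂)).Normal)
    (hn₂ : (H₂.subgroupOf (H₁ ⊔ H₂)).Normal) (e₁ : H₁ ≃* SL) (e₂ : H₂ ≃* SL)
    (hmeet : (H₁ ⊓ H₂).map (centralizer ({z} : Set G)).subtype = zpowers z)
    (Q : Subgroup (centralizer ({z} : Set G))) [Q.Normal]
    (hQ : Q = (Cfsg.pCore 2 ↥(H₁ ⊔ H₂)).map (H₁ ⊔ H₂).subtype)
    (hF : Cfsg.generalizedFittingSubgroup (centralizer ({z} : Set G)) = Q)
    (hnwc : ∃ g : G, (∃ hq : g * z * g⁻¹ ∈ centralizer ({z} : Set G),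
      (⟨g * z * g⁻¹, hq⟩ : centralizer ({z} : Set G)) ∈ Q) ∧ g * z * g⁻¹ ≠ z)
    (hH : Nat.card (centralizer ({z} : Set G)) = 2 ^ 7 * 3 ^ 2)
    (hQQg : ∀ g : G, g * z * g⁻¹ ∈ Q.map (centralizer ({z} : Set G)).subtype → g * z * g⁻¹ ≠ z →
      Nat.card ↥(Q.map (centralizer ({z} : Set G)).subtype ⊓
        (Q.map (centralizer ({z} : Set G)).subtype).map (MulAut.conj g).toMonoidHom) = 4)
    (K : Type) [Field K] [Fintype K] (hK : Fintype.card K = 9) :
    Nonempty (G ≃* Cfsg.PSU 4 K 3) ∧ Nat.card G = 2 ^ 7 * 3 ^ 6 * 5 * 7 ∧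
      ∀ x y : G, orderOf x = 2 → orderOf y = 2 → IsConj x y := by
  obtain ⟨γ, hsat, hzW, hC⟩ := exists_frame z hz H₁ H₂ hn₁ hn₂ e₁ e₂ hmeet Q hQ hF hnwc hH hQQg
  have hz1 : prodw γ zW ≠ 1 := by
    rw [hzW]
    intro e
    rw [e, orderOf_one] at hz
    omega
  have hall : Sat γ allRels := sat_all hsat hz1 (hzW.symm ▸ hC)
  obtain ⟨δ, hδ, hδz⟩ := exists_psu_sat K hK
  obtain ⟨f⟩ := fullGroup_equiv hall hz1 hδ hδz
  have htop : fullGroup δ = ⊤ := by
    have : Finite (Cfsg.PSU 4 K 3) := Nat.finite_of_card_ne_zero (by rw [card_psu K hK]; norm_num)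
    exact Subgroup.eq_top_of_card_eq _ (by rw [card_fullGroup hδ hδz, card_psu K hK])
  obtain ⟨hH', hconj⟩ := eq_top_of_equiv z hz (fullGroup γ) (hC.trans cGroup_le_fullGroup)
    (hH.trans (by norm_num)) (fun x hx hx2 => hzW ▸ fullGroup_invol hall hz1 hx hx2) K hK
    (f.trans ((MulEquiv.subgroupCongr htop).trans Subgroup.topEquiv))
  refine ⟨⟨((MulEquiv.subgroupCongr hH').trans Subgroup.topEquiv).symm.trans
    (f.trans ((MulEquiv.subgroupCongr htop).trans Subgroup.topEquiv))⟩, ?_, hconj⟩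
  have := card_fullGroup hall hz1
  rw [hH', Subgroup.card_top] at this
  rw [this]
  norm_num

end CfsgLib.UFourType
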