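import Cfsg.Agent.UFourType.Defs
import Cfsg.Agent.UFourType.Data.CCheck

/-!
The group presented by the relators of the centraliser of `z` in a group of `U₄(3)` type, read off
its coset table over the trivial subgroup: it has at most 1152 elements, and exactly 1152 unless
`z = 1`.
-/

set_option autoImplicit false
set_option linter.style.haveILetI false

namespace CfsgLib.UFourType

open CfsgLib.MTwelveUnique CfsgLib.CosetEnum

noncomputable section

/-- The row reached from the first one along a word. -/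
def idx (w : List ℕ) : ℕ := cT.walk 0 w

/-- The element of a row. -/
def el {G : Type*} [Group G] (γ : ℕ → G) (i : ℕ) : G := prodw γ (cWord i)

theorem c_rows : (List.range 1152).all (fun i => Nat.beq (cT.walk 0 (cWord i)) i &&
    ((cWord i).all (fun x => Nat.blt x 10) && (List.range 5).all (fun x =>
      Nat.blt (ext (cT.tab (2 * x + 1)) i) 1152 &&
        (Nat.beq (ext (cT.tab (2 * x)) (ext (cT.tab (2 * x + 1)) i)) i &&
          Nat.beq (ext (cT.tab (2 * x + 1)) (ext (cT.tab (2 * x)) i)) i)))) = true := by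
  decide +kernel

theorem c_start : ext cT.reps 0 = 0 ∧ cT.n = 1152 := ⟨by decide +kernel, rfl⟩

theorem cWord_spec {i : ℕ} (hi : i < 1152) :
    idx (cWord i) = i ∧ ∀ x ∈ cWord i, x < 10 := by
  have h := List.all_eq_true.1 c_rows i (List.mem_range.2 hi)
  simp only [Bool.and_eq_true, Nat.beq_eq, List.all_eq_true, Nat.blt_eq] at h
  exact ⟨h.1, h.2.1⟩

theorem c_inv_entry {i x : ℕ} (hi : i < 1152) (hx : x < 5) :
    ext (cT.tab (2 * x + 1)) i < 1152 ∧ ext (cT.tab (2 * x)) (ext (cT.tab (2 * x + 1)) i) = i ∧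
      ext (cT.tab (2 * x + 1)) (ext (cT.tab (2 * x)) i) = i := by
  have h := List.all_eq_true.1 c_rows i (List.mem_range.2 hi)
  simp only [Bool.and_eq_true, Nat.beq_eq, List.all_eq_true, Nat.blt_eq] at h
  exact h.2.2 x (List.mem_range.2 hx)

variable {G : Type*} [Group G] {γ : ℕ → G}

theorem edge (h : Sat γ cRels) {i x : ℕ} (hi : i < 1152) (hx : x < 10) :
    ext (cT.tab x) i < 1152 ∧
      crOf γ cT.cert.parN cT.cert.parX (ext cT.reps i) * γ x =
        crOf γ cT.cert.parN cT.cert.parX (ext cT.reps (ext (cT.tab x) i)) := by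
  have even : ∀ {i k : ℕ}, i < 1152 → k < 5 → ext (cT.tab (2 * k)) i < 1152 ∧
      crOf γ cT.cert.parN cT.cert.parX (ext cT.reps i) * γ (2 * k) =
        crOf γ cT.cert.parN cT.cert.parX (ext cT.reps (ext (cT.tab (2 * k)) i)) := by
    intro i k hi hk
    obtain ⟨p, hp⟩ := c_derived k hk i (c_start.2 ▸ hi)
    simp only [Tab.edgeP, Bool.and_eq_true, Nat.blt_eq] at hp
    refine ⟨c_start.2 ▸ hp.1, ?_⟩
    have hm := Cert.mem_of_reads (H := (⊥ : Subgroup G)) h.iv h.eps h.rel
      (fun w hw => absurd hw List.not_mem_nil) c_ok hp.2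
    rw [Subgroup.mem_bot, mul_inv_eq_one] at hm
    show crOf γ cCert.parN cCert.parX _ * γ (2 * k) = _
    simpa [prodw, cT] using hm
  obtain ⟨k, rfl | rfl⟩ := Nat.even_or_odd' x
  · exact even hi (by omega)
  · obtain ⟨h1, h2, -⟩ := c_inv_entry hi (x := k) (by omega)
    refine ⟨h1, ?_⟩
    have e := (even h1 (k := k) (by omega)).2
    rw [h2] at e
    have e' : γ (2 * k + 1) = (γ (2 * k))⁻¹ := by
      have := h.iv (2 * k) (by omega)
      rwa [show Nat.xor (2 * k) 1 = 2 * k + 1 by
        have hk : k < 5 := by omega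
        interval_cases k <;> decide] at this
    rw [e', ← e, mul_inv_cancel_right]

theorem walk_spec (h : Sat γ cRels) : ∀ (w : List ℕ), (∀ x ∈ w, x < 10) → ∀ i, i < 1152 →
    cT.walk i w < 1152 ∧ crOf γ cT.cert.parN cT.cert.parX (ext cT.reps i) * prodw γ w =
      crOf γ cT.cert.parN cT.cert.parX (ext cT.reps (cT.walk i w)) := by
  intro w
  induction w with
  | nil => intro _ i hi; exact ⟨hi, by simp [prodw, Tab.walk]⟩
  | cons x w ih =>
    intro hw i hi
    obtain ⟨h1, h2⟩ := edge h hi (hw x List.mem_cons_self)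
    obtain ⟨h3, h4⟩ := ih (fun y hy => hw y (List.mem_cons_of_mem x hy)) _ h1
    exact ⟨h3, by rw [prodw_cons, ← mul_assoc, h2]; exact h4⟩

/-- The value of a word is the element of its row. -/
theorem prodw_eq_el (h : Sat γ cRels) {w : List ℕ} (hw : ∀ x ∈ w, x < 10) :
    idx w < 1152 ∧ prodw γ w = el γ (idx w) := by
  obtain ⟨h1, h2⟩ := walk_spec h w hw 0 (by norm_num)
  refine ⟨h1, ?_⟩
  obtain ⟨-, h3⟩ := walk_spec h (cWord (idx w)) (cWord_spec h1).2 0 (by norm_num)
  rw [c_start.1, crOf_zero, one_mul] at h2 h3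
  rw [h2, el, h3]
  exact congrArg _ (congrArg _ (cWord_spec h1).1.symm)

/-- Words with the same row have the same value. -/
theorem prodw_eq_of_idx (h : Sat γ cRels) {v w : List ℕ} (hv : ∀ x ∈ v, x < 10)
    (hw : ∀ x ∈ w, x < 10) (e : idx v = idx w) : prodw γ v = prodw γ w := by
  rw [(prodw_eq_el h hv).2, (prodw_eq_el h hw).2, e]

/-- The same, in decidable form. -/
def sameB (v w : List ℕ) : Bool :=
  v.all (fun x => Nat.blt x 10) && (w.all (fun x => Nat.blt x 10) && Nat.beq (idx v) (idx w))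

theorem prodw_eq_of_sameB (h : Sat γ cRels) {v w : List ℕ} (e : sameB v w = true) :
    prodw γ v = prodw γ w := by
  simp only [sameB, Bool.and_eq_true, List.all_eq_true, Nat.blt_eq, Nat.beq_eq] at e
  exact prodw_eq_of_idx h e.1 e.2.1 e.2.2

theorem el_zero (h : Sat γ cRels) : el γ 0 = 1 := by
  have := (prodw_eq_el h (w := []) (by simp)).2
  simpa [prodw, idx, Tab.walk] using this.symm

theorem el_mem {i : ℕ} (hi : i < 1152) : el γ i ∈ cGroup γ :=
  prodw_mem_cGroup (cWord_spec hi).2

/-- The elements of `cGroup` are the elements of the rows. -/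
theorem mem_cGroup (h : Sat γ cRels) {x : G} :
    x ∈ cGroup γ ↔ ∃ i, i < 1152 ∧ el γ i = x := by
  refine ⟨fun hx => ?_, fun ⟨i, hi, e⟩ => e ▸ el_mem hi⟩
  suffices hh : ∃ w : List ℕ, (∀ y ∈ w, y < 10) ∧ prodw γ w = x by
    obtain ⟨w, hw, e⟩ := hh
    exact ⟨idx w, (prodw_eq_el h hw).1, (prodw_eq_el h hw).2.symm.trans e⟩
  induction hx using Subgroup.closure_induction with
  | mem y hy =>
    obtain ⟨k, hk, rfl⟩ := hy
    exact ⟨[k], by simpa using hk, by simp [prodw]⟩
  | one => exact ⟨[], by simp, rfl⟩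
  | mul a b _ _ ha hb =>
    obtain ⟨v, hv, rfl⟩ := ha
    obtain ⟨w, hw, rfl⟩ := hb
    exact ⟨v ++ w, fun y hy => (List.mem_append.1 hy).elim (hv y) (hw y), prodw_append γ v w⟩
  | inv a _ ha =>
    obtain ⟨v, hv, rfl⟩ := ha
    refine ⟨invW v, fun y hy => ?_, prodw_invW h v fun y hy => by have := hv y hy; omega⟩
    simp only [invW, List.mem_reverse, List.mem_map] at hy
    obtain ⟨k, hk, rfl⟩ := hy
    have := hv k hk
    interval_cases k <;> decide

theorem finite_cGroup (h : Sat γ cRels) : Finite (cGroup γ) ∧ Nat.card (cGroup γ) ≤ 1152 := by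
  let f : Fin 1152 → cGroup γ := fun i => ⟨el γ i, el_mem i.2⟩
  have hf : Function.Surjective f := fun ⟨x, hx⟩ => by
    obtain ⟨i, hi, e⟩ := (mem_cGroup h).1 hx
    exact ⟨⟨i, hi⟩, Subtype.ext e⟩
  haveI := Finite.of_surjective f hf
  exact ⟨inferInstance, (Nat.card_le_card_of_surjective f hf).trans (by simp)⟩

/-- The generators of `Q`. -/
def qGens : List (List ℕ) := [[0], [2], i2W, j2W]

/-- Commutator of two words. -/
def commW (v w : List ℕ) : List ℕ := v ++ w ++ invW v ++ invW w

theorem c_moved : (List.range 1152).all (fun i => Nat.beq i 0 || Nat.beq i (idx zW) ||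
    qGens.any (fun q =>
      let k := idx (commW (cWord i) q)
      !(Nat.beq k 0) && (Nat.beq k (idx zW) ||
        qGens.any (fun q' => Nat.beq (idx (commW (cWord k) q')) (idx zW))))) = true := by
  decide +kernel

theorem mem_invW {w : List ℕ} (hw : ∀ x ∈ w, x < 10) : ∀ x ∈ invW w, x < 10 := by
  intro x hx
  simp only [invW, List.mem_reverse, List.mem_map] at hx
  obtain ⟨k, hk, rfl⟩ := hx
  have := hw k hk
  interval_cases k <;> decide

theorem commW_lt {v w : List ℕ} (hv : ∀ x ∈ v, x < 10) (hw : ∀ x ∈ w, x < 10) :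
    ∀ x ∈ commW v w, x < 10 := by
  intro x hx
  simp only [commW, List.mem_append] at hx
  rcases hx with ((hx | hx) | hx) | hx
  exacts [hv x hx, hw x hx, mem_invW hv x hx, mem_invW hw x hx]

theorem prodw_commW (h : Sat γ cRels) {v w : List ℕ} (hv : ∀ x ∈ v, x < 10)
    (hw : ∀ x ∈ w, x < 10) :
    prodw γ (commW v w) = prodw γ v * prodw γ w * (prodw γ v)⁻¹ * (prodw γ w)⁻¹ := by
  rw [commW, prodw_append, prodw_append, prodw_append,
    prodw_invW h v fun y hy => by have := hv y hy; omega,
    prodw_invW h w fun y hy => by have := hw y hy; omega]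

theorem qGens_lt : qGens.all (fun q => q.all (fun x => Nat.blt x 10)) = true := by decide

theorem walk_cancel (h : Sat γ cRels) : ∀ (w : List ℕ), (∀ x ∈ w, x < 10) → ∀ i, i < 1152 →
    cT.walk i (invW w ++ w) = i := by
  intro w
  induction w with
  | nil => intro _ i _; rfl
  | cons x w ih =>
    intro hw i hi
    have hwt : ∀ y ∈ w, y < 10 := fun y hy => hw y (List.mem_cons_of_mem x hy)
    have hlt := (walk_spec h _ (mem_invW hwt) i hi).1
    rw [show invW (x :: w) ++ x :: w = (invW w ++ [Nat.xor x 1, x]) ++ w by simp [invW],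
      Tab.walk_append, Tab.walk_append]
    have hc : cT.walk (cT.walk i (invW w)) [Nat.xor x 1, x] = cT.walk i (invW w) := by
      have hx := hw x List.mem_cons_self
      obtain ⟨k, rfl | rfl⟩ := Nat.even_or_odd' x <;>
        obtain ⟨-, e1, e2⟩ := c_inv_entry hlt (x := k) (by omega)
      · rw [show Nat.xor (2 * k) 1 = 2 * k + 1 by
          have hk : k < 5 := by omega
          interval_cases k <;> decide]
        exact e1
      · rw [show Nat.xor (2 * k + 1) 1 = 2 * k by
          have hk : k < 5 := by omega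
          interval_cases k <;> decide]
        exact e2
    rw [hc, ← Tab.walk_append]
    exact ih hwt i hi

/-- Only the first row gives the identity, unless `z = 1`. -/
theorem eq_zero_of_el_eq_one (h : Sat γ cRels) (hz : prodw γ zW ≠ 1) {i : ℕ} (hi : i < 1152)
    (e : el γ i = 1) : i = 0 := by
  have hzl : ∀ x ∈ zW, x < 10 := by decide
  have hq : ∀ q ∈ qGens, ∀ x ∈ q, x < 10 := fun q hq x hx => by
    have := List.all_eq_true.1 (List.all_eq_true.1 qGens_lt q hq) x hx
    simpa using this
  have hzz : idx zW = i → False := fun e' => hz (by rw [(prodw_eq_el h hzl).2, e', e])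
  have hm := List.all_eq_true.1 c_moved i (List.mem_range.2 hi)
  simp only [Bool.or_eq_true, Nat.beq_eq, List.any_eq_true, Bool.and_eq_true,
    Bool.not_eq_true'] at hm
  rcases hm with (hm | hm) | ⟨q, hq', -, hm⟩
  · exact hm
  · exact absurd hm.symm hzz
  exfalso
  have hk := prodw_eq_el h (commW_lt (cWord_spec hi).2 (hq q hq'))
  rw [prodw_commW h (cWord_spec hi).2 (hq q hq'), show prodw γ (cWord i) = 1 from e] at hk
  simp only [one_mul, inv_one, mul_one, mul_inv_cancel] at hk
  rcases hm with hm | ⟨q', hq'', hm⟩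
  · exact hz (by rw [(prodw_eq_el h hzl).2, ← hm, ← hk.2])
  · apply hz
    rw [(prodw_eq_el h hzl).2, ← hm,
      ← (prodw_eq_el h (commW_lt (cWord_spec hk.1).2 (hq q' hq''))).2,
      prodw_commW h (cWord_spec hk.1).2 (hq q' hq''),
      show prodw γ (cWord (idx (commW (cWord i) q))) = 1 from hk.2.symm]
    simp

/-- The rows are distinct elements, unless `z = 1`. -/
theorem el_inj (h : Sat γ cRels) (hz : prodw γ zW ≠ 1) {i j : ℕ} (hi : i < 1152) (hj : j < 1152)
    (e : el γ i = el γ j) : i = j := by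
  have hwi := (cWord_spec hi).2
  have hwj := mem_invW (cWord_spec hj).2
  have hw : ∀ x ∈ cWord i ++ invW (cWord j), x < 10 := fun x hx =>
    (List.mem_append.1 hx).elim (hwi x) (hwj x)
  have h1 := prodw_eq_el h hw
  have h0 : idx (cWord i ++ invW (cWord j)) = 0 := by
    refine eq_zero_of_el_eq_one h hz h1.1 ?_
    rw [← h1.2, prodw_append, prodw_invW h _ fun y hy => by
      have := (cWord_spec hj).2 y hy; omega]
    exact mul_inv_eq_one.2 e
  have hcan := walk_cancel h (cWord j) (cWord_spec hj).2 i hi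
  rw [idx, Tab.walk_append, ← idx, (cWord_spec hi).1] at h0
  rw [Tab.walk_append, h0, ← idx, (cWord_spec hj).1] at hcan
  exact hcan.symm

theorem card_cGroup (h : Sat γ cRels) (hz : prodw γ zW ≠ 1) : Nat.card (cGroup γ) = 1152 := by
  haveI := (finite_cGroup h).1
  refine le_antisymm (finite_cGroup h).2 ?_
  have hf : Function.Injective (fun i : Fin 1152 => (⟨el γ i, el_mem i.2⟩ : cGroup γ)) :=
    fun a b e => Fin.ext (el_inj h hz a.2 b.2 (congrArg Subtype.val e))
  simpa using Nat.card_le_card_of_injective _ hf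

end

end CfsgLib.UFourType
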