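import Cfsg.Agent.UFourType.CentSChecks
import Cfsg.Agent.UFourType.Data.ColA1
import Cfsg.Agent.UFourType.Data.ColA2
import Cfsg.Agent.UFourType.Data.ColA3
import Cfsg.Agent.UFourType.Data.ColA4
import Cfsg.Agent.UFourType.Data.ColA5
import Cfsg.Agent.UFourType.Data.ColA6
import Cfsg.Agent.UFourType.Data.ColA7
import Cfsg.Agent.UFourType.Data.ColB1
import Cfsg.Agent.UFourType.Data.ColB2
import Cfsg.Agent.UFourType.Data.ColB3
import Cfsg.Agent.UFourType.Data.ColB4
import Cfsg.Agent.UFourType.Data.ColB5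
import Cfsg.Agent.UFourType.Data.ColB6
import Cfsg.Agent.UFourType.Data.ColB7

/-!
The two transport relators of the recognition of `U₄(3)`: two elements of order three of the
centraliser of `z` are moved into it by elements `g k g`.
-/

set_option autoImplicit false

namespace CfsgLib.UFourType

open CfsgLib.MTwelveUnique CfsgLib.CosetEnum

variable {G : Type*} [Group G] {γ : ℕ → G}

theorem sameB_small {v w : List ℕ} (e : sameB v w = true) :
    (∀ x ∈ v, x < 10) ∧ (∀ x ∈ w, x < 10) := by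
  simp only [sameB, Bool.and_eq_true, List.all_eq_true, Nat.blt_eq] at e
  exact ⟨e.1, e.2.1⟩

theorem small_of_all {v : List ℕ} (e : v.all (fun x => Nat.blt x 10) = true) : ∀ x ∈ v, x < 10 :=
  fun x hx => by simpa using List.all_eq_true.1 e x hx

theorem small_append {v w : List ℕ} (hv : ∀ x ∈ v, x < 10) (hw : ∀ x ∈ w, x < 10) :
    ∀ x ∈ v ++ w, x < 10 :=
  fun x hx => (List.mem_append.1 hx).elim (hv x) (hw x)

theorem sameB_of_eq (h : Sat γ cRels) (hz : prodw γ zW ≠ 1) {v w : List ℕ} (hv : ∀ x ∈ v, x < 10)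
    (hw : ∀ x ∈ w, x < 10) (e : prodw γ v = prodw γ w) : sameB v w = true := by
  simp only [sameB, Bool.and_eq_true, List.all_eq_true, Nat.blt_eq, Nat.beq_eq]
  exact ⟨hv, hw, el_inj h hz (prodw_eq_el h hv).1 (prodw_eq_el h hw).1
    ((prodw_eq_el h hv).2.symm.trans (e.trans (prodw_eq_el h hw).2))⟩

theorem eq_of_commB (h : Sat γ cRels) {v w : List ℕ} (e : commB v w = true) :
    prodw γ v * prodw γ w = prodw γ w * prodw γ v := by
  simpa [prodw_append] using prodw_eq_of_sameB h e

theorem commB_of_eq (h : Sat γ cRels) (hz : prodw γ zW ≠ 1) {v w : List ℕ}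
    (hv : ∀ x ∈ v, x < 10) (hw : ∀ x ∈ w, x < 10)
    (e : prodw γ v * prodw γ w = prodw γ w * prodw γ v) : commB v w = true :=
  sameB_of_eq h hz (small_append hv hw) (small_append hw hv) (by simpa [prodw_append] using e)

theorem eq_one_of_isOneB (h : Sat γ cRels) {v : List ℕ} (e : isOneB v = true) : prodw γ v = 1 := by
  simpa [prodw] using prodw_eq_of_sameB h e

theorem isOneB_of_eq (h : Sat γ cRels) (hz : prodw γ zW ≠ 1) {v : List ℕ}
    (hv : ∀ x ∈ v, x < 10) (e : prodw γ v = 1) : isOneB v = true :=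
  sameB_of_eq h hz hv (fun x hx => absurd hx List.not_mem_nil) (by simpa [prodw] using e)

theorem rows_spec (h : Sat γ cRels) {p : List ℕ → Bool} (hp : rowsB p = true) {x : G}
    (hx : x ∈ cGroup γ) : ∃ v : List ℕ, (∀ a ∈ v, a < 10) ∧ prodw γ v = x ∧ p v = true := by
  obtain ⟨i, hi, e⟩ := (mem_cGroup h).1 hx
  exact ⟨cWord i, (cWord_spec hi).2, e, List.all_eq_true.1 hp i (List.mem_range.2 hi)⟩

theorem prodw_invW' (h : Sat γ cRels) {v : List ℕ} (hv : ∀ x ∈ v, x < 10) :
    prodw γ (invW v) = (prodw γ v)⁻¹ :=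
  prodw_invW h v fun x hx => (hv x hx).trans (by norm_num)

theorem satC (h : Sat γ (cRels ++ gRels)) : Sat γ cRels :=
  h.mono fun _ hw => List.mem_append_left _ hw

theorem z_comm (h : Sat γ cRels) {x : G} (hx : x ∈ cGroup γ) :
    x * prodw γ zW = prodw γ zW * x := by
  suffices hle : cGroup γ ≤ Subgroup.centralizer ({prodw γ zW} : Set G) from
    (Subgroup.mem_centralizer_iff.1 (hle hx) _ rfl).symm
  rw [cGroup, Subgroup.closure_le]
  rintro _ ⟨k, hk, rfl⟩
  rw [SetLike.mem_coe, Subgroup.mem_centralizer_iff]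
  rintro _ rfl
  simpa [prodw] using eq_of_commB h (List.all_eq_true.1 zA k (List.mem_range.2 hk))

theorem mem_cGroup_of_comm (hC : Subgroup.centralizer ({prodw γ zW} : Set G) ≤ cGroup γ) {x : G}
    (e : x * prodw γ zW = prodw γ zW * x) : x ∈ cGroup γ := by
  refine hC (Subgroup.mem_centralizer_iff.2 ?_)
  rintro _ rfl
  exact e.symm

/-- The relations with the letter 10. -/
theorem g_rules (h : Sat γ (cRels ++ gRels)) :
    γ 10 * γ 10 = 1 ∧ γ 10 * γ 0 * γ 10 = γ 6 ∧ γ 10 * γ 6 * γ 10 = γ 0 ∧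
      γ 10 * prodw γ zW * γ 10 = prodw γ uW ∧ γ 10 * prodw γ uW * γ 10 = prodw γ zW ∧
      γ 10 * prodw γ fW * γ 10 = γ 8 ∧ γ 10 * γ 8 * γ 10 = prodw γ fW := by
  have e2 : γ 10 * γ 10 = 1 := by
    have := h.rel [10, 10] (List.mem_append_right _ (by decide))
    simpa [prodw] using this
  have flip : ∀ {a b : G}, γ 10 * a * γ 10 = b → γ 10 * b * γ 10 = a := by
    intro a b e
    rw [← e, show γ 10 * (γ 10 * a * γ 10) * γ 10 = γ 10 * γ 10 * a * (γ 10 * γ 10) by group, e2,
      one_mul, mul_one]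
  have e1 : γ 10 * γ 0 * γ 10 = γ 6 := by
    have := h.rel ([10, 0, 10] ++ invW [6]) (List.mem_append_right _ (by decide))
    rw [prodw_append, prodw_invW h _ (by decide), mul_inv_eq_one] at this
    simpa [prodw, mul_assoc] using this
  have e3 : γ 10 * prodw γ zW * γ 10 = prodw γ uW := by
    have := h.rel ([10] ++ zW ++ [10] ++ invW uW) (List.mem_append_right _ (by decide))
    rw [prodw_append, prodw_invW h _ (by decide), mul_inv_eq_one] at this
    simpa [prodw_append, prodw, mul_assoc] using this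
  have e4 : γ 10 * prodw γ fW * γ 10 = γ 8 := by
    have := h.rel ([10] ++ fW ++ [10] ++ invW [8]) (List.mem_append_right _ (by decide))
    rw [prodw_append, prodw_invW h _ (by decide), mul_inv_eq_one] at this
    simpa [prodw_append, prodw, mul_assoc] using this
  exact ⟨e2, e1, flip e1, e3, flip e3, e4, flip e4⟩

theorem gen_not_mem (h : Sat γ (cRels ++ gRels)) (hz : prodw γ zW ≠ 1) : γ 10 ∉ cGroup γ := by
  intro hg
  obtain ⟨e2, -, -, e3, -⟩ := g_rules h
  rw [z_comm (satC h) hg, mul_assoc, e2, mul_one] at e3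
  have := sameB_of_eq (satC h) hz (by decide) (by decide) e3.symm
  rw [ne_u] at this
  exact Bool.false_ne_true this

theorem gen_mem_of_cert {R : List (List ℕ)} (h : Sat γ R) {C : Cert}
    (hok : C.ok R subW = true) {S : ℕ} (hr : C.reads [10] 0 0 S = true) : γ 10 ∈ cGroup γ := by
  have := Cert.prodw_mem h.iv h.eps h.rel (H := cGroup γ) (fun w hw => prodw_mem_cGroup
    (small_of_all (List.all_eq_true.1 (show subW.all (fun w => w.all fun x => Nat.blt x 10) = true
      by decide) w hw))) hok hr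
  simpa [prodw] using this

theorem prodw_hhW (k : List ℕ) : prodw γ (hhW k) = γ 10 * prodw γ k * γ 10 := by
  simp [hhW, prodw, mul_assoc]

theorem prodw_transRel (h : Sat γ cRels) (t : List ℕ) {k x : List ℕ} (hk : ∀ a ∈ k, a < 10)
    (hx : ∀ a ∈ x, a < 10) : prodw γ (transRel t k x) =
      prodw γ t * (γ 10 * prodw γ k * γ 10) * (prodw γ x)⁻¹ * (γ 10 * prodw γ k * γ 10)⁻¹ := by
  have hh : ∀ a ∈ hhW k, a < 12 := by
    intro a ha
    simp only [hhW, List.mem_append, List.mem_singleton] at ha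
    rcases ha with (rfl | ha) | rfl
    exacts [by norm_num, (hk a ha).trans (by norm_num), by norm_num]
  simp only [transRel, prodw_append, prodw_invW' h hx, prodw_invW h _ hh, prodw_hhW]

/-- An element of order three commuting with `z` and its transport is moved into the centraliser by
`g k g`; all choices but the first one collapse the group. -/
theorem transport (h : Sat γ (cRels ++ gRels)) (hz : prodw γ zW ≠ 1)
    (hC : Subgroup.centralizer ({prodw γ zW} : Set G) ≤ cGroup γ) {t k σ y2 : List ℕ}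
    {opt : List (List ℕ)} (ht : ∀ a ∈ t, a < 10) (hk : ∀ a ∈ k, a < 10)
    (hy : ∀ a ∈ y2, a < 10)
    (hσ : γ 10 * (prodw γ k * prodw γ uW * (prodw γ k)⁻¹) * γ 10 = prodw γ σ)
    (hy2 : γ 10 * ((prodw γ k)⁻¹ * prodw γ uW * prodw γ k) * γ 10 = prodw γ y2)
    (ht3 : commB t σ = true ∧ isOneB (t ++ t ++ t) = true ∧ isOneB t = false ∧ commB t zW = true)
    (hrows : rowsB (fun v => !(isOneB (v ++ v ++ v) && commB v y2) || isOneB v ||
      opt.any (sameB v)) = true)
    (hlen : opt.length = 8)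
    (hcol : ∀ n, 1 ≤ n → n < 8 → prodw γ (transRel t k (opt.getD n [])) = 1 →
      γ 10 ∈ cGroup γ) :
    prodw γ (transRel t k (opt.getD 0 [])) = 1 := by
  have hc := satC h
  obtain ⟨e2, -, -, e3, -⟩ := g_rules h
  have ginv : (γ 10)⁻¹ = γ 10 := inv_eq_of_mul_eq_one_right e2
  obtain ⟨hh, hhdef⟩ : ∃ a, γ 10 * prodw γ k * γ 10 = a := ⟨_, rfl⟩
  obtain ⟨z, zdef⟩ : ∃ a, prodw γ zW = a := ⟨_, rfl⟩
  have c1 : hh * z * hh⁻¹ = prodw γ σ := by
    rw [← hσ, ← e3, ← hhdef, ← zdef]
    simp only [mul_inv_rev, ginv]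
    group
  have c2 : hh⁻¹ * z * hh = prodw γ y2 := by
    rw [← hy2, ← e3, ← hhdef, ← zdef]
    simp only [mul_inv_rev, ginv]
    group
  obtain ⟨ts, tc, tne, tz⟩ := ht3
  have ts' := eq_of_commB hc ts
  have tz' : prodw γ t * z = z * prodw γ t := zdef ▸ eq_of_commB hc tz
  have tc' : prodw γ t * prodw γ t * prodw γ t = 1 := by
    simpa [prodw_append, mul_assoc] using eq_one_of_isOneB hc tc
  have hxz : hh⁻¹ * prodw γ t * hh * prodw γ zW = prodw γ zW * (hh⁻¹ * prodw γ t * hh) := by
    rw [zdef]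
    calc hh⁻¹ * prodw γ t * hh * z = hh⁻¹ * (prodw γ t * (hh * z * hh⁻¹)) * hh := by group
      _ = hh⁻¹ * ((hh * z * hh⁻¹) * prodw γ t) * hh := by rw [c1, ts']
      _ = _ := by group
  obtain ⟨v, hv, hvx, hp⟩ := rows_spec hc hrows (mem_cGroup_of_comm hC hxz)
  have h3 : isOneB (v ++ v ++ v) = true := by
    refine isOneB_of_eq hc hz (small_append (small_append hv hv) hv) ?_
    rw [prodw_append, prodw_append, hvx]
    calc _ = hh⁻¹ * (prodw γ t * prodw γ t * prodw γ t) * hh := by group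
      _ = 1 := by rw [tc']; group
  have hcy : commB v y2 = true := by
    refine commB_of_eq hc hz hv hy ?_
    rw [hvx, ← c2]
    calc _ = hh⁻¹ * (prodw γ t * z) * hh := by group
      _ = hh⁻¹ * (z * prodw γ t) * hh := by rw [tz']
      _ = _ := by group
  have h1 : isOneB v = false := by
    by_contra hne
    rw [Bool.not_eq_false] at hne
    have : prodw γ t = 1 := by
      have e : hh⁻¹ * prodw γ t * hh = 1 := hvx ▸ eq_one_of_isOneB hc hne
      simpa [mul_assoc] using congrArg (fun a => hh * a * hh⁻¹) e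
    rw [isOneB_of_eq hc hz ht this] at tne
    exact Bool.noConfusion tne
  simp only [h3, hcy, h1, Bool.and_self, Bool.not_true, Bool.false_or, List.any_eq_true] at hp
  obtain ⟨o, ho, hs⟩ := hp
  obtain ⟨n, hn, rfl⟩ := List.getElem_of_mem ho
  have key : prodw γ (transRel t k (opt.getD n [])) = 1 := by
    rw [List.getD_eq_getElem _ _ hn, prodw_transRel hc t hk (sameB_small hs).2,
      ← prodw_eq_of_sameB hc hs, hvx, hhdef]
    group
  rcases Nat.eq_zero_or_pos n with rfl | hpos
  · exact key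
  · exact absurd (hcol n hpos (hlen ▸ hn) key) (gen_not_mem h hz)

theorem transA (h : Sat γ (cRels ++ gRels)) (hz : prodw γ zW ≠ 1)
    (hC : Subgroup.centralizer ({prodw γ zW} : Set G) ≤ cGroup γ) :
    prodw γ (transRel sdW kAW (optA.getD 0 [])) = 1 := by
  have hc := satC h
  obtain ⟨e2, e1, e1', -, -, e4, -⟩ := g_rules h
  have a1 : prodw γ kAW * prodw γ uW = prodw γ fW * prodw γ kAW := by
    simpa [prodw_append] using prodw_eq_of_sameB hc kA1
  have a2 : (prodw γ kAW)⁻¹ * prodw γ uW * prodw γ kAW = γ 6 * prodw γ fW * (γ 6)⁻¹ := by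
    have := prodw_eq_of_sameB hc kA2
    rw [prodw_append, prodw_append, prodw_append, prodw_append, prodw_invW' hc (by decide)] at this
    rw [this, show prodw γ [6] = γ 6 by simp [prodw],
      show prodw γ [7] = (γ 6)⁻¹ by simp [prodw, ← h.iv 6 (by norm_num)]]
  refine transport h hz hC (by decide) (by decide) (by decide) (σ := [8]) (y2 := y2AW) ?_ ?_ kA3
    optA_rows rfl ?_
  · rw [a1, mul_inv_cancel_right, e4]
    simp [prodw]
  · rw [a2]
    calc γ 10 * (γ 6 * prodw γ fW * (γ 6)⁻¹) * γ 10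
        = (γ 10 * γ 6 * γ 10) * (γ 10 * prodw γ fW * γ 10) * (γ 10 * γ 6 * γ 10)⁻¹ := by
          simp only [mul_inv_rev, inv_eq_of_mul_eq_one_right e2, mul_assoc]
          simp [← mul_assoc, e2]
      _ = γ 0 * γ 8 * (γ 0)⁻¹ := by rw [e1', e4]
      _ = _ := by simp [prodw, y2AW, ← h.iv 0 (by norm_num), mul_assoc]
  · intro n hn1 hn8 key
    have hs : Sat γ (colARels n) := h.append fun w hw => by rw [List.mem_singleton.1 hw]; exact key
    interval_cases n
    exacts [gen_mem_of_cert hs colA1_ok colA1_reads, gen_mem_of_cert hs colA2_ok colA2_reads,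
      gen_mem_of_cert hs colA3_ok colA3_reads, gen_mem_of_cert hs colA4_ok colA4_reads,
      gen_mem_of_cert hs colA5_ok colA5_reads, gen_mem_of_cert hs colA6_ok colA6_reads,
      gen_mem_of_cert hs colA7_ok colA7_reads]

theorem transB (h : Sat γ (cRels ++ gRels)) (hz : prodw γ zW ≠ 1)
    (hC : Subgroup.centralizer ({prodw γ zW} : Set G) ≤ cGroup γ) :
    prodw γ (transRel tsBW kBW (optB.getD 0 [])) = 1 := by
  have hc := satC h
  obtain ⟨e2, e1, -, -, -, e4, -⟩ := g_rules h
  have a1 : prodw γ kBW * prodw γ uW = γ 0 * prodw γ fW * prodw γ kBW := by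
    simpa [prodw_append, prodw, mul_assoc] using prodw_eq_of_sameB hc kB1
  have a2 : (prodw γ kBW)⁻¹ * prodw γ uW * prodw γ kBW = (γ 0)⁻¹ * prodw γ fW := by
    have := prodw_eq_of_sameB hc kB2
    rw [prodw_append, prodw_append, prodw_append, prodw_invW' hc (by decide)] at this
    rw [this, show prodw γ [1] = (γ 0)⁻¹ by
      simp [prodw, ← h.iv 0 (by norm_num)]]
  have ginv : (γ 10)⁻¹ = γ 10 := inv_eq_of_mul_eq_one_right e2
  refine transport h hz hC (by decide) (by decide) (by decide) (σ := sigBW) (y2 := y2BW) ?_ ?_ kB3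
    optB_rows rfl ?_
  · rw [a1, mul_inv_cancel_right]
    calc γ 10 * (γ 0 * prodw γ fW) * γ 10
        = (γ 10 * γ 0 * γ 10) * ((γ 10)⁻¹ * prodw γ fW * γ 10) := by group
      _ = _ := by rw [ginv, e1, e4]; simp [prodw, sigBW]
  · rw [a2]
    calc γ 10 * ((γ 0)⁻¹ * prodw γ fW) * γ 10
        = ((γ 10)⁻¹ * γ 0 * (γ 10)⁻¹)⁻¹ * ((γ 10)⁻¹ * prodw γ fW * γ 10) := by group
      _ = _ := by
        rw [ginv, e1, e4]
        simp [prodw, y2BW, ← h.iv 6 (by norm_num)]
  · intro n hn1 hn8 key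
    have hs : Sat γ (colBRels n) := h.append fun w hw => by rw [List.mem_singleton.1 hw]; exact key
    interval_cases n
    exacts [gen_mem_of_cert hs colB1_ok colB1_reads, gen_mem_of_cert hs colB2_ok colB2_reads,
      gen_mem_of_cert hs colB3_ok colB3_reads, gen_mem_of_cert hs colB4_ok colB4_reads,
      gen_mem_of_cert hs colB5_ok colB5_reads, gen_mem_of_cert hs colB6_ok colB6_reads,
      gen_mem_of_cert hs colB7_ok colB7_reads]

end CfsgLib.UFourType
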