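import Cfsg.Agent.UFourType.CTable

set_option maxRecDepth 20000
/-!
Decidable facts about the rows of the centraliser used for the last relators of the recognition
of `U₄(3)`.
-/

set_option autoImplicit false

namespace CfsgLib.UFourType
open CfsgLib.MTwelveUnique CfsgLib.CosetEnum


/-- Two words give commuting values. -/
def commB (v w : List ℕ) : Bool := sameB (v ++ w) (w ++ v)

/-- A word gives the identity. -/
def isOneB (v : List ℕ) : Bool := sameB v []

/-- A property of the words of all rows. -/
def rowsB (p : List ℕ → Bool) : Bool := (List.range 1152).all fun i => p (cWord i)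

/-- The words of the elementary abelian group spanned by `z, u, f, w`. -/
def aW (n : ℕ) : List ℕ :=
  (if n.testBit 0 then zW else []) ++ (if n.testBit 1 then uW else []) ++
    (if n.testBit 2 then fW else []) ++ (if n.testBit 3 then [8] else [])


theorem zA : (List.range 10).all (fun x => commB zW [x]) = true := by decide +kernel

theorem ne_u : sameB uW zW = false := by decide +kernel

theorem kA1 : sameB (kAW ++ uW) (fW ++ kAW) = true := by decide +kernel

theorem kA2 : sameB (invW kAW ++ uW ++ kAW) ([6] ++ fW ++ [7]) = true := by decide +kernel

theorem kA3 :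
    commB sdW [8] = true ∧ isOneB (sdW++sdW++sdW) = true ∧ isOneB sdW = false ∧
    commB sdW zW = true := by
  decide +kernel

theorem optA_rows :
    rowsB (fun v => !(isOneB (v++v++v) &&
    commB v y2AW) || isOneB v || optA.any (sameB v)) = true := by
  decide +kernel

theorem kB1 : sameB (kBW ++ uW) ([0] ++ fW ++ kBW) = true := by decide +kernel

theorem kB2 : sameB (invW kBW ++ uW ++ kBW) ([1] ++ fW) = true := by decide +kernel

theorem kB3 :
    commB tsBW sigBW = true ∧ isOneB (tsBW++tsBW++tsBW) = true ∧ isOneB tsBW = false ∧
    commB tsBW zW = true := by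
  decide +kernel

theorem optB_rows :
    rowsB (fun v => !(isOneB (v++v++v) &&
    commB v y2BW) || isOneB v || optB.any (sameB v)) = true := by
  decide +kernel

theorem s12 :
    commB [4] s2W = true ∧ sameB sdW ([4] ++ s2W) = true ∧ sameB adW ([4] ++ invW s2W) = true ∧
    isOneB ([4,4,4]) = true ∧ sameB s2W ([8]++[4]++[8]) = true := by
  decide +kernel

/-- The words of the group `S`. -/
def sW (a b : ℕ) : List ℕ := (List.replicate a 4) ++ (List.replicate b s2W).flatten

/-- The nine words of the group `S`. -/
def sList : List (List ℕ) := [sW 0 0, sW 1 0, sW 2 0, sW 0 1, sW 1 1, sW 2 1, sW 0 2, sW 1 2, sW 2 2]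

theorem cen_rows :
    rowsB (fun v => !(commB v [4] &&
    commB v s2W) || sList.any (sameB v) || sList.any (fun s => sameB v (s ++ zW))) = true := by
  decide +kernel

theorem qex : (List.range 1152).any (fun i => let q := cWord i
  sameB (q ++ [8]) (zW ++ [8] ++ q) && sList.any (fun s => sameB (q ++ [4] ++ invW q) s) && sList.any (fun s => sameB (q ++ s2W ++ invW q) s) && [sdW, sdW++sdW].any (fun s => sameB (q ++ sdW ++ invW q) s)) = true := by decide +kernel

/-- The chosen transported element of order three. -/
def x2W : List ℕ := optA.getD 0 []

/-- The words of a group of order nine. -/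
def nineW : List (List ℕ) := [[], x2W, x2W++x2W, b0W, b0W++b0W, x2W++b0W, x2W++x2W++b0W, x2W++b0W++b0W, x2W++x2W++b0W++b0W]

theorem nine_rows :
    rowsB (fun v => !(commB v x2W &&
    isOneB (v++v++v++v++v++v++v++v++v)) || nineW.any (sameB v)) = true := by
  decide +kernel

theorem b0 : commB b0W x2W = true ∧ isOneB (b0W++b0W++b0W) = true := by decide +kernel

theorem conjS :
    rowsB (fun q => !(sList.any (fun s => sameB (q ++ [4] ++ invW q) s) &&
    sList.any (fun s => sameB (q ++ s2W ++ invW q) s)) || [sdW, sdW++sdW].any (fun s => sameB (q ++ sdW ++ invW q) s)) = true := by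
  decide +kernel

/-- The conjugate of `sdW` by `y`. -/
def tW : List ℕ := [6] ++ sdW ++ [7]

/-- `p` describes the conjugation of `aW` by a word. -/
def actB (q : List ℕ) (p : ℕ → ℕ) : Bool := (List.range 16).all fun n => Nat.blt (p n) 16 && sameB (q ++ aW n ++ invW q) (aW (p n))

/-- The conjugation of `aW` by a word. -/
def act (q : List ℕ) (n : ℕ) : ℕ := ((List.range 16).find? fun m => sameB (q ++ aW n ++ invW q) (aW m)).getD 0

theorem actS : actB sdW (act sdW) = true ∧ actB tW (act tW) = true := by decide +kernel

theorem cA :
    rowsB (fun v => !(commB v zW && commB v uW && commB v fW &&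
    commB v [8]) || (List.range 16).any (fun n => sameB v (aW n))) = true := by
  decide +kernel

/-- The conjugation of `aW` by the letter 10. -/
def sig (n : ℕ) : ℕ := (n &&& 1) * 2 + (n >>> 1 &&& 1) + (n >>> 2 &&& 1) * 8 + (n >>> 3 &&& 1) * 4

/-- The conjugation of `aW` by the transported element. -/
def actR (n : ℕ) : ℕ := sig (act tW (sig n))

theorem comm_act :
    (List.range 16).all (fun n => actR (act sdW n) == act sdW (actR n)) = true := by
  decide +kernel

theorem cube_fix :
    (List.range 16).all (fun n => !(isOneB ((aW n ++ sdW)++(aW n ++ sdW)++(aW n ++ sdW))) || actR n == n) = true := by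
  decide +kernel

theorem act_ne :
    ((List.range 16).any (fun n => !(actR n == act sdW n)) &&
    (List.range 16).any (fun n => !(act sdW (actR n) == n))) = true := by
  decide +kernel

theorem aE : (List.range 16).all (fun n => isOneB (aW n ++ aW n)) = true := by decide +kernel

/-- The image of `aW n` under the letter 10, in the same order of factors. -/
def aImg (n : ℕ) : List ℕ :=
  (if n.testBit 0 then uW else []) ++ (if n.testBit 1 then zW else []) ++
    (if n.testBit 2 then [8] else []) ++ (if n.testBit 3 then fW else [])

theorem aImg_ok : (List.range 16).all (fun n => Nat.blt (sig n) 16 && sameB (aImg n) (aW (sig n))) = true := by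
  decide +kernel

theorem act_surj : (List.range 16).all (fun m => (List.range 16).any fun n =>
    Nat.beq (act sdW (actR n)) m) = true := by decide +kernel

theorem aW_inj : (List.range 16).all (fun a => (List.range 16).all fun b =>
    Nat.beq a b || !sameB (aW a) (aW b)) = true := by decide +kernel

theorem sList_ok : sList.all (fun a => isOneB (a ++ a ++ a) &&
    sList.all (fun b => sList.any (sameB (a ++ b)))) = true ∧
    (List.range 9).all (fun a => (List.range 9).all fun b =>
      Nat.beq a b || !sameB (sList.getD a []) (sList.getD b [])) = true := by decide +kernel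

theorem sList_cen : sList.all (fun a => commB a [4] && commB a s2W) = true := by decide +kernel

theorem sList_spec : sList.all (fun a => a.all fun x => Nat.blt x 10) = true := by decide +kernel

end CfsgLib.UFourType
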