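import Mathlib

/-!
Group theory for the last relators of the recognition of `U₄(3)`: the odd part of a group with a
Sylow 2-subgroup of order two, and a group of odd order acted on by a four group.
-/

set_option autoImplicit false

namespace CfsgLib.UFourType

variable {G : Type*} [Group G]

theorem pow_eq_self_of_odd {z : G} (hz : z * z = 1) {n : ℕ} (hn : Odd n) : z ^ n = z := by
  obtain ⟨k, rfl⟩ := hn
  rw [pow_succ, pow_mul, pow_two, hz, one_pow, one_mul]

theorem eq_one_of_pow_pow {x : G} {a b : ℕ} (ha : x ^ a = 1) (hb : x ^ b = 1)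
    (h : Nat.gcd a b = 1) : x = 1 :=
  orderOf_eq_one_iff.1 (Nat.dvd_one.1
    (h ▸ Nat.dvd_gcd (orderOf_dvd_of_pow_eq_one ha) (orderOf_dvd_of_pow_eq_one hb)))

/-- Without subgroups of order four, the elements of odd order form a subgroup of index two. -/
theorem exists_odd_part [Finite G] {X : Subgroup G} {z : G} (hzX : z ∈ X) (hz2 : z * z = 1)
    (hz1 : z ≠ 1) (h4 : ¬ 4 ∣ Nat.card X) :
    ∃ (M : Subgroup G) (n : ℕ), Odd n ∧ M ≤ X ∧ (∀ x ∈ M, x ^ n = 1) ∧
      (∀ x ∈ X, x ^ n = 1 → x ∈ M) ∧ (∀ x ∈ X, x ∈ M ∨ x * z ∈ M) ∧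
      (∀ x ∈ X, x ^ 3 = 1 → x ∈ M) := by
  have : Fact (Nat.Prime 2) := ⟨Nat.prime_two⟩
  have h2 : 2 ∣ Nat.card X := by
    have : orderOf z = 2 := orderOf_eq_prime (by rw [pow_two, hz2]) hz1
    rw [← this, ← Subgroup.orderOf_mk z hzX]
    exact orderOf_dvd_natCard _
  obtain ⟨T⟩ := (inferInstance : Nonempty (Sylow 2 X))
  have hT : Nat.card T = 2 := by
    obtain ⟨k, hk⟩ := T.2.exists_card_eq
    have hd := T.dvd_card_of_dvd_card h2
    rw [hk] at hd ⊢
    match k, hd with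
    | 0, hd => simp at hd
    | 1, _ => rfl
    | k + 2, _ =>
      refine absurd ((Dvd.intro (2 ^ k) ?_).trans (hk ▸ Subgroup.card_subgroup_dvd_card T.1)) h4
      ring
  have : IsCyclic T := isCyclic_of_prime_card (p := 2) hT
  have hK := IsCyclic.isComplement' (P := T) ((Nat.minFac_eq_two_iff _).2 h2) inferInstance
  generalize (MonoidHom.transferSylow T (IsCyclic.normalizer_le_centralizer (P := T)
    ((Nat.minFac_eq_two_iff _).2 h2) inferInstance)).ker = K at hK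
  have hi : K.index = 2 := hK.symm.index_eq_card.trans hT
  have hodd : Odd (Nat.card K) := by
    rw [← Nat.not_even_iff_odd]
    rintro ⟨c, hc⟩
    have := hK.card_mul_card
    rw [hT, hc] at this
    exact h4 ⟨c, by omega⟩
  have hmem : ∀ x : X, (∃ m, Odd m ∧ x ^ m = 1) → x ∈ K := by
    rintro x ⟨m, ⟨a, rfl⟩, hm⟩
    rw [pow_succ, pow_mul, pow_two] at hm
    have := K.one_mem
    rw [← hm, Subgroup.mul_mem_iff_of_index_two hi] at this
    exact this.1 (K.pow_mem (Subgroup.mul_self_mem_of_index_two hi x) a)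
  refine ⟨K.map X.subtype, Nat.card K, hodd, Subgroup.map_subtype_le K, ?_, ?_, ?_, ?_⟩
  · rintro _ ⟨x, hx, rfl⟩
    have e : (⟨x, hx⟩ : K) ^ Nat.card K = 1 := pow_card_eq_one'
    exact congrArg (fun a : K => ((a : X) : G)) e
  · exact fun x hx e => ⟨⟨x, hx⟩, hmem _ ⟨_, hodd, Subtype.ext (by simpa using e)⟩, rfl⟩
  · intro x hx
    by_cases hxK : (⟨x, hx⟩ : X) ∈ K
    · exact Or.inl ⟨_, hxK, rfl⟩
    · refine Or.inr ⟨⟨x, hx⟩ * ⟨z, hzX⟩, ?_, rfl⟩
      rw [SetLike.mem_coe, Subgroup.mul_mem_iff_of_index_two hi]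
      refine iff_of_false hxK fun hzK => hz1 ?_
      have e : (⟨⟨z, hzX⟩, hzK⟩ : K) ^ Nat.card K = 1 := pow_card_eq_one'
      exact (pow_eq_self_of_odd hz2 hodd).symm.trans
        (congrArg (fun a : K => ((a : X) : G)) e)
  · exact fun x hx e => ⟨⟨x, hx⟩, hmem _ ⟨3, ⟨1, rfl⟩, Subtype.ext (by simpa using e)⟩, rfl⟩

/-- An involution normalising a group of odd exponent: every element is a fixed one times an
inverted one. -/
theorem exists_fixed_mul_inverted {M : Subgroup G} {n : ℕ} (hn : Odd n)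
    (hM : ∀ x ∈ M, x ^ n = 1) {a : G} (ha : a * a = 1) (hMa : ∀ x ∈ M, a * x * a ∈ M) {m : G}
    (hm : m ∈ M) : ∃ c ∈ M, ∃ e ∈ M, a * c * a = c ∧ a * e * a = e⁻¹ ∧ m = c * e := by
  obtain ⟨k, rfl⟩ := hn
  have ainv : a⁻¹ = a := inv_eq_of_mul_eq_one_right ha
  obtain ⟨d, hd⟩ : ∃ d, m⁻¹ * (a * m * a) = d := ⟨_, rfl⟩
  have hdM : d ∈ M := hd ▸ M.mul_mem (M.inv_mem hm) (hMa m hm)
  have had : a * d * a⁻¹ = d⁻¹ := by
    rw [← hd]
    simp only [mul_inv_rev, inv_inv, ainv, mul_assoc]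
    simp [← mul_assoc, ha]
  have hae : a * d ^ (k + 1) * a⁻¹ = (d ^ (k + 1))⁻¹ := by
    rw [← conj_pow, had, inv_pow]
  have hd2 : d ^ (k + 1) * d ^ (k + 1) = d := by
    rw [← pow_add, show k + 1 + (k + 1) = (2 * k + 1) + 1 by ring, pow_succ, hM d hdM, one_mul]
  refine ⟨m * d ^ (k + 1), M.mul_mem hm (M.pow_mem hdM _), (d ^ (k + 1))⁻¹,
    M.inv_mem (M.pow_mem hdM _), ?_, ?_, by simp⟩
  · calc a * (m * d ^ (k + 1)) * a = (a * m * a) * (a⁻¹ * d ^ (k + 1) * a) := by group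
      _ = (m * d) * (d ^ (k + 1))⁻¹ := by
        rw [ainv] at hae ⊢
        rw [hae, ← hd, mul_inv_cancel_left]
      _ = m * d ^ (k + 1) := by
        rw [mul_assoc]
        exact congrArg _ (mul_inv_eq_iff_eq_mul.2 hd2.symm)
  · calc a * (d ^ (k + 1))⁻¹ * a = (a⁻¹ * d ^ (k + 1) * a⁻¹)⁻¹ := by group
      _ = _ := by
        rw [ainv] at hae ⊢
        rw [hae]

/-- If two involutions of a four group only fix elements of a small central set fixed by the four
group, the third one centralises the whole group. -/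
theorem core {M : Subgroup G} {n : ℕ} (hn : Odd n) (hM : ∀ x ∈ M, x ^ n = 1) {z w : G}
    (hz2 : z * z = 1) (hw2 : w * w = 1) (hzw : z * w = w * z) (hMz : ∀ x ∈ M, z * x * z ∈ M)
    (hMw : ∀ x ∈ M, w * x * w ∈ M) {T : Set G}
    (hT : ∀ c ∈ T, z * c * z = c ∧ w * c * w = c ∧ ∀ x ∈ M, c * x = x * c)
    (hfw : ∀ x ∈ M, w * x * w = x → x ∈ T)
    (hfzw : ∀ x ∈ M, z * (w * x * w) * z = x → x ∈ T) : ∀ m ∈ M, z * m * z = m := by
  intro m hm
  have zinv : z⁻¹ = z := inv_eq_of_mul_eq_one_right hz2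
  obtain ⟨c, hcM, e, heM, hc, he, rfl⟩ := exists_fixed_mul_inverted hn hM hw2 hMw hm
  obtain ⟨tz, -, tc⟩ := hT c (hfw c hcM hc)
  have hb2 : z * w * (z * w) = 1 := by
    rw [mul_assoc, ← mul_assoc w, ← hzw, mul_assoc z w, hw2, mul_one, hz2]
  have conjb : ∀ x, z * w * x * (z * w) = z * (w * x * w) * z := fun x => by
    calc _ = z * w * x * (w * z) := by rw [← hzw]
      _ = _ := by group
  obtain ⟨c', hc'M, e', he'M, hc', he', rfl⟩ := exists_fixed_mul_inverted hn hM hb2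
    (fun x hx => by rw [conjb]; exact hMz _ (hMw x hx)) heM
  rw [conjb] at hc' he'
  obtain ⟨tz', tw', tc'⟩ := hT c' (hfzw c' hc'M hc')
  have hzE : z * (c' * e')⁻¹ * z = c' * c' * (c' * e')⁻¹ := by
    calc z * (c' * e')⁻¹ * z = z * (w * (c' * e') * w) * z := by rw [he]
      _ = (z * (w * c' * w) * z) * (z * (w * e' * w) * z) := by
          simp only [mul_assoc]
          simp [← mul_assoc, hw2, hz2]
      _ = c' * e'⁻¹ := by rw [hc', he']
      _ = c' * c' * (c'⁻¹ * e'⁻¹) := by group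
      _ = c' * c' * (c' * e')⁻¹ := by
        rw [mul_inv_rev, (Commute.inv_inv (tc' e' he'M)).eq]
  have h1 : c' * c' * (c' * c') * (c' * e')⁻¹ = (c' * e')⁻¹ := by
    symm
    calc (c' * e')⁻¹ = z * z * (c' * e')⁻¹ * (z * z) := by rw [hz2, one_mul, mul_one]
      _ = z * (z * (c' * e')⁻¹ * z) * z := by group
      _ = z * (c' * c' * (c' * e')⁻¹) * z := by rw [hzE]
      _ = (z * c' * z) * (z⁻¹ * c' * z⁻¹) * (z * (c' * e')⁻¹ * z) := by group
      _ = c' * c' * (c' * c' * (c' * e')⁻¹) := by rw [zinv, tz', hzE]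
      _ = _ := by group
  have h4 : c' ^ 4 = 1 := by
    rw [mul_eq_right] at h1
    simpa [pow_succ, mul_assoc] using h1
  have hc1 : c' = 1 := by
    refine eq_one_of_pow_pow h4 (hM c' hc'M) ?_
    have := Nat.Coprime.pow_left 2 (Nat.coprime_two_left.2 hn)
    simpa using this
  rw [hc1, one_mul, one_mul, one_mul] at hzE
  calc z * (c * (c' * e')) * z = (z * c * z) * (z * (c' * e') * z) := by
        simp only [mul_assoc]
        simp [← mul_assoc, hz2]
    _ = c * (z * (c' * e')⁻¹ * z)⁻¹ := by rw [tz]; simp [mul_inv_rev, zinv, mul_assoc]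
    _ = c * (c' * e') := by rw [hc1, one_mul, hzE, inv_inv]

end CfsgLib.UFourType
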