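import Cfsg.Agent.UFourType.CentSBasic
import Cfsg.Agent.UFourType.CentSGroup

/-!
The group `S` of order nine and the proof that its centraliser is not contained in the centraliser of `z`.
-/

set_option autoImplicit false

namespace CfsgLib.UFourType

open CfsgLib.MTwelveUnique CfsgLib.CosetEnum

variable {G : Type*} [Group G] {γ : ℕ → G}

theorem mem_sList_small {l : List ℕ} (hl : l ∈ sList) : ∀ x ∈ l, x < 10 :=
  small_of_all (List.all_eq_true.1 sList_spec l hl)

theorem sList_cube (h : Sat γ cRels) {l : List ℕ} (hl : l ∈ sList) :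
    prodw γ l * prodw γ l * prodw γ l = 1 := by
  have := List.all_eq_true.1 sList_ok.1 l hl
  rw [Bool.and_eq_true] at this
  simpa [prodw_append, mul_assoc] using eq_one_of_isOneB h this.1

theorem sList_mul (h : Sat γ cRels) {a b : List ℕ} (ha : a ∈ sList) (hb : b ∈ sList) :
    ∃ l ∈ sList, prodw γ l = prodw γ a * prodw γ b := by
  have := List.all_eq_true.1 sList_ok.1 a ha
  rw [Bool.and_eq_true] at this
  obtain ⟨l, hl, e⟩ := List.any_eq_true.1 (List.all_eq_true.1 this.2 b hb)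
  exact ⟨l, hl, by rw [← prodw_eq_of_sameB h e, prodw_append]⟩

/-- The group `S` of order nine. -/
def sGroup (h : Sat γ cRels) : Subgroup G where
  carrier := {x | ∃ l ∈ sList, prodw γ l = x}
  one_mem' := ⟨sW 0 0, by decide, rfl⟩
  mul_mem' := by
    rintro _ _ ⟨a, ha, rfl⟩ ⟨b, hb, rfl⟩
    exact sList_mul h ha hb
  inv_mem' := by
    rintro _ ⟨a, ha, rfl⟩
    obtain ⟨l, hl, e⟩ := sList_mul h ha ha
    exact ⟨l, hl, e.trans (eq_inv_of_mul_eq_one_left (sList_cube h ha))⟩

theorem mem_sGroup (h : Sat γ cRels) {x : G} : x ∈ sGroup h ↔ ∃ l ∈ sList, prodw γ l = x :=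
  Iff.rfl

theorem any_sameB (h : Sat γ cRels) (hz : prodw γ zW ≠ 1) {v : List ℕ} (hv : ∀ x ∈ v, x < 10)
    (hm : prodw γ v ∈ sGroup h) : sList.any (sameB v) = true := by
  obtain ⟨l, hl, e⟩ := hm
  exact List.any_eq_true.2 ⟨l, hl, sameB_of_eq h hz hv (mem_sList_small hl) e.symm⟩

theorem sGroup_pow_three (h : Sat γ cRels) {x : G} (hx : x ∈ sGroup h) : x ^ 3 = 1 := by
  obtain ⟨l, hl, rfl⟩ := hx
  rw [pow_succ, pow_two]
  exact sList_cube h hl

theorem sGroup_le_cGroup (h : Sat γ cRels) : sGroup h ≤ cGroup γ := by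
  rintro _ ⟨l, hl, rfl⟩
  exact prodw_mem_cGroup (mem_sList_small hl)

theorem s_mems (h : Sat γ cRels) : prodw γ [4] ∈ sGroup h ∧ prodw γ s2W ∈ sGroup h ∧
    prodw γ sdW ∈ sGroup h :=
  ⟨⟨sW 1 0, by decide, rfl⟩, ⟨sW 0 1, by decide, rfl⟩, ⟨sW 1 1, by decide,
    (prodw_eq_of_sameB h s12.2.1).symm⟩⟩

/-- The centraliser of `S`. -/
def xGroup (γ : ℕ → G) : Subgroup G :=
  Subgroup.centralizer ({prodw γ [4]} : Set G) ⊓ Subgroup.centralizer ({prodw γ s2W} : Set G)

theorem mem_xGroup {x : G} : x ∈ xGroup γ ↔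
    x * prodw γ [4] = prodw γ [4] * x ∧ x * prodw γ s2W = prodw γ s2W * x := by
  simp only [xGroup, Subgroup.mem_inf, Subgroup.mem_centralizer_iff, Set.mem_singleton_iff,
    forall_eq]
  exact ⟨fun e => ⟨e.1.symm, e.2.symm⟩, fun e => ⟨e.1.symm, e.2.symm⟩⟩

theorem sGroup_le_xGroup (h : Sat γ cRels) : sGroup h ≤ xGroup γ := by
  rintro _ ⟨l, hl, rfl⟩
  have := List.all_eq_true.1 sList_cen l hl
  rw [Bool.and_eq_true] at this
  exact mem_xGroup.2 ⟨eq_of_commB h this.1, eq_of_commB h this.2⟩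

/-- In the centraliser of `z` the centraliser of `S` is `S × ⟨z⟩`. -/
theorem xGroup_cases (h : Sat γ cRels) (hz : prodw γ zW ≠ 1) {x : G} (hx : x ∈ xGroup γ)
    (hxc : x ∈ cGroup γ) :
    ∃ s ∈ sGroup h, x = s ∨ x = s * prodw γ zW := by
  obtain ⟨v, hv, rfl, hp⟩ := rows_spec h cen_rows hxc
  obtain ⟨c1, c2⟩ := mem_xGroup.1 hx
  rw [commB_of_eq h hz hv (by decide) c1, commB_of_eq h hz hv (by decide) c2] at hp
  simp only [Bool.and_self, Bool.not_true, Bool.false_or, Bool.or_eq_true,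
    List.any_eq_true] at hp
  rcases hp with ⟨l, hl, e⟩ | ⟨l, hl, e⟩
  · exact ⟨_, ⟨l, hl, rfl⟩, Or.inl (prodw_eq_of_sameB h e)⟩
  · exact ⟨_, ⟨l, hl, rfl⟩, Or.inr ((prodw_eq_of_sameB h e).trans (prodw_append γ l zW))⟩

theorem card_sGroup (h : Sat γ cRels) (hz : prodw γ zW ≠ 1) : Nat.card (sGroup h) = 9 := by
  have hlen : sList.length = 9 := rfl
  let f : Fin 9 → sGroup h := fun i => ⟨prodw γ (sList.getD i []), _,
    by rw [List.getD_eq_getElem _ _ (i.2.trans_eq hlen.symm)]; exact List.getElem_mem _, rfl⟩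
  have hf : Function.Bijective f := by
    constructor
    · intro a b e
      have hab := List.all_eq_true.1 (List.all_eq_true.1 sList_ok.2 a (List.mem_range.2 a.2)) b
        (List.mem_range.2 b.2)
      simp only [Bool.or_eq_true, Nat.beq_eq, Bool.not_eq_true'] at hab
      rcases hab with hab | hab
      · exact Fin.ext hab
      · have small : ∀ i : Fin 9, ∀ x ∈ sList.getD i [], x < 10 := fun i =>
          mem_sList_small (by
            rw [List.getD_eq_getElem _ _ (i.2.trans_eq hlen.symm)]; exact List.getElem_mem _)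
        rw [sameB_of_eq h hz (small a) (small b) (congrArg Subtype.val e)] at hab
        exact Bool.noConfusion hab
    · rintro ⟨_, l, hl, rfl⟩
      obtain ⟨i, hi, rfl⟩ := List.getElem_of_mem hl
      exact ⟨⟨i, hlen ▸ hi⟩, Subtype.ext (by
        show prodw γ (sList.getD i []) = _
        rw [List.getD_eq_getElem _ _ hi])⟩
  rw [← Nat.card_eq_of_bijective f hf, Nat.card_eq_fintype_card, Fintype.card_fin]

theorem aW_small {n : ℕ} (hn : n < 16) : ∀ x ∈ aW n, x < 10 := fun _ hx =>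
  (sameB_small (List.all_eq_true.1 aE n (List.mem_range.2 hn))).1 _ (List.mem_append_left _ hx)

theorem actB_spec (h : Sat γ cRels) {q : List ℕ} {p : ℕ → ℕ} (hq : ∀ x ∈ q, x < 10)
    (e : actB q p = true) {n : ℕ} (hn : n < 16) : p n < 16 ∧
      prodw γ q * prodw γ (aW n) * (prodw γ q)⁻¹ = prodw γ (aW (p n)) := by
  have := List.all_eq_true.1 e n (List.mem_range.2 hn)
  simp only [Bool.and_eq_true, Nat.blt_eq] at this
  refine ⟨this.1, ?_⟩
  rw [← prodw_eq_of_sameB h this.2, prodw_append, prodw_append, prodw_invW' h hq]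

theorem g_conj_aW (h : Sat γ (cRels ++ gRels)) {n : ℕ} (hn : n < 16) :
    sig n < 16 ∧ γ 10 * prodw γ (aW n) * γ 10 = prodw γ (aW (sig n)) := by
  obtain ⟨e2, -, -, e3, e3', e4, e4'⟩ := g_rules h
  have := List.all_eq_true.1 aImg_ok n (List.mem_range.2 hn)
  simp only [Bool.and_eq_true, Nat.blt_eq] at this
  refine ⟨this.1, ?_⟩
  rw [← prodw_eq_of_sameB (satC h) this.2]
  have ginv : (γ 10)⁻¹ = γ 10 := inv_eq_of_mul_eq_one_right e2
  have key : ∀ (c : Bool) (P P' : List ℕ), γ 10 * prodw γ P * γ 10 = prodw γ P' →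
      MulAut.conj (γ 10) (prodw γ (if c then P else [])) = prodw γ (if c then P' else []) := by
    intro c P P' e
    cases c
    · simp [prodw]
    · simpa [MulAut.conj_apply, ginv] using e
  have e8 : prodw γ [8] = γ 8 := by simp [prodw]
  have := key (n.testBit 0) zW uW e3
  have h1 := key (n.testBit 1) uW zW e3'
  have h2 := key (n.testBit 2) fW [8] (e8 ▸ e4)
  have h3 := key (n.testBit 3) [8] fW (e8 ▸ e4')
  calc γ 10 * prodw γ (aW n) * γ 10 = MulAut.conj (γ 10) (prodw γ (aW n)) := by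
        rw [MulAut.conj_apply, ginv]
    _ = _ := by simp only [aW, aImg, prodw_append, map_mul, this, h1, h2, h3]

/-- The transport `g y s y⁻¹ g` of `s` centralises `s`. -/
theorem r_comm_s (h : Sat γ (cRels ++ gRels)) (hz : prodw γ zW ≠ 1)
    (hC : Subgroup.centralizer ({prodw γ zW} : Set G) ≤ cGroup γ) {r : G}
    (hr : γ 10 * prodw γ tW * γ 10 = r) (hr3 : r ^ 3 = 1) :
    r * prodw γ sdW = prodw γ sdW * r ∧ r ≠ prodw γ sdW ∧
      r ≠ prodw γ sdW * prodw γ sdW := by
  have hc := satC h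
  obtain ⟨e2, -⟩ := g_rules h
  obtain ⟨s, sdef⟩ : ∃ a, prodw γ sdW = a := ⟨_, rfl⟩
  rw [sdef]
  obtain ⟨A, Adef⟩ : ∃ a : ℕ → G, (fun n => prodw γ (aW n)) = a := ⟨_, rfl⟩
  have Aeq : ∀ n, prodw γ (aW n) = A n := fun n => congrFun Adef n
  have hs : ∀ {n}, n < 16 → act sdW n < 16 ∧ s * A n * s⁻¹ = A (act sdW n) := fun {n} hn => by
    rw [← sdef, ← Aeq, ← Aeq]
    exact actB_spec hc (by decide) actS.1 hn
  have hR : ∀ {n}, n < 16 → actR n < 16 ∧ r * A n * r⁻¹ = A (actR n) := fun {n} hn => by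
    obtain ⟨b1, c1⟩ := g_conj_aW h hn
    obtain ⟨b2, c2⟩ := actB_spec hc (by decide : ∀ x ∈ tW, x < 10) actS.2 b1
    obtain ⟨b3, c3⟩ := g_conj_aW h b2
    refine ⟨b3, ?_⟩
    rw [← hr, ← Aeq, ← Aeq, actR, ← c3, ← c2, ← c1]
    simp only [mul_inv_rev, inv_eq_of_mul_eq_one_right e2, mul_assoc]
  have inj : ∀ {a b}, a < 16 → b < 16 → A a = A b → a = b := fun {a b} ha hb e => by
    have := List.all_eq_true.1 (List.all_eq_true.1 aW_inj a (List.mem_range.2 ha)) b
      (List.mem_range.2 hb)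
    simp only [Bool.or_eq_true, Nat.beq_eq, Bool.not_eq_true'] at this
    rw [← Aeq, ← Aeq] at e
    rw [sameB_of_eq hc hz (aW_small ha) (aW_small hb) e] at this
    simpa using this
  obtain ⟨e, edef⟩ : ∃ e, r * s * r⁻¹ * s⁻¹ = e := ⟨_, rfl⟩
  have he : ∀ {m}, m < 16 → e * A m * e⁻¹ = A m := fun {m} hm => by
    obtain ⟨n, hn, hnm⟩ := List.any_eq_true.1 (List.all_eq_true.1 act_surj m (List.mem_range.2 hm))
    rw [List.mem_range] at hn
    rw [Nat.beq_eq] at hnm
    have hcm := List.all_eq_true.1 comm_act n (List.mem_range.2 hn)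
    rw [beq_iff_eq] at hcm
    obtain ⟨b1, c1⟩ := hR hn
    obtain ⟨b2, c2⟩ := hs hn
    have c3 := (hs b1).2
    rw [hnm] at c3 hcm
    have c4 := (hR b2).2
    rw [hcm] at c4
    rw [← edef]
    conv_lhs => rw [← c3, ← c1]
    conv_rhs => rw [← c4, ← c2]
    group
  have hec : e ∈ cGroup γ := mem_cGroup_of_comm hC (by
    have := he (m := 1) (by norm_num)
    rw [← Aeq, show aW 1 = zW by decide, mul_inv_eq_iff_eq_mul] at this
    exact this)
  have hcomm : ∀ {m}, m < 16 → e * A m = A m * e := fun hm => mul_inv_eq_iff_eq_mul.1 (he hm)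
  obtain ⟨v, hv, hve, hp⟩ := rows_spec hc cA hec
  have cz : commB v zW = true := commB_of_eq hc hz hv (by decide) (by
    have := hcomm (m := 1) (by norm_num)
    rw [← Aeq, ← hve, show aW 1 = zW by decide] at this
    exact this)
  have cu : commB v uW = true := commB_of_eq hc hz hv (by decide) (by
    have := hcomm (m := 2) (by norm_num)
    rw [← Aeq, ← hve, show aW 2 = uW by decide] at this
    exact this)
  have cf : commB v fW = true := commB_of_eq hc hz hv (by decide) (by
    have := hcomm (m := 4) (by norm_num)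
    rw [← Aeq, ← hve, show aW 4 = fW by decide] at this
    exact this)
  have cw : commB v [8] = true := commB_of_eq hc hz hv (by decide) (by
    have := hcomm (m := 8) (by norm_num)
    rw [← Aeq, ← hve, show aW 8 = [8] by decide] at this
    exact this)
  simp only [cz, cu, cf, cw, Bool.and_self, Bool.not_true, Bool.false_or, List.any_eq_true,
    List.mem_range] at hp
  obtain ⟨n, hn, hvn⟩ := hp
  have hen : A n = e := by rw [← Aeq, ← prodw_eq_of_sameB hc hvn, hve]
  have hs3 : s ^ 3 = 1 := sdef ▸ sGroup_pow_three hc (s_mems hc).2.2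
  have hes : e * s = r * s * r⁻¹ := by rw [← edef, inv_mul_cancel_right]
  have hes3 : (e * s) * (e * s) * (e * s) = 1 := by
    rw [hes, ← pow_two, ← pow_succ, conj_pow, hs3, mul_one, mul_inv_cancel]
  have hee : e * e = 1 := by
    rw [← hen, ← Aeq, ← prodw_append]
    exact eq_one_of_isOneB hc (List.all_eq_true.1 aE n (List.mem_range.2 hn))
  have hre : r * e * r⁻¹ = e := by
    have := List.all_eq_true.1 cube_fix n (List.mem_range.2 hn)
    rw [isOneB_of_eq hc hz
      (small_append (small_append (small_append (aW_small hn) (by decide))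
        (small_append (aW_small hn) (by decide))) (small_append (aW_small hn) (by decide)))
      (by simpa [prodw_append, sdef, Aeq, hen, mul_assoc] using hes3)] at this
    simp only [Bool.not_true, Bool.false_or, beq_iff_eq] at this
    rw [← hen, (hR hn).2, this]
  have hr2 : r ^ 2 * s * (r ^ 2)⁻¹ = s := by
    calc r ^ 2 * s * (r ^ 2)⁻¹ = r * (r * s * r⁻¹) * r⁻¹ := by rw [pow_two, mul_inv_rev]; group
      _ = r * (e * s) * r⁻¹ := by rw [hes]
      _ = (r * e * r⁻¹) * (r * s * r⁻¹) := by group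
      _ = e * (e * s) := by rw [hre, hes]
      _ = s := by rw [← mul_assoc, hee, one_mul]
  have hcs : r * s = s * r := by
    have hr' : (r ^ 2)⁻¹ = r := inv_eq_of_mul_eq_one_right (by rw [← pow_succ]; exact hr3)
    rw [hr'] at hr2
    have : r⁻¹ * s * r = s := by
      rwa [show r ^ 2 = r⁻¹ from eq_inv_of_mul_eq_one_left (by rw [← pow_succ]; exact hr3)] at hr2
    rw [mul_assoc, inv_mul_eq_iff_eq_mul] at this
    exact this.symm
  have hne := act_ne
  simp only [Bool.and_eq_true, List.any_eq_true, List.mem_range, Bool.not_eq_true',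
    beq_eq_false_iff_ne] at hne
  obtain ⟨⟨a, ha, hane⟩, b, hb, hbne⟩ := hne
  refine ⟨hcs, fun e1 => hane ?_, fun e1 => hbne ?_⟩
  · refine inj (hR ha).1 (hs ha).1 ?_
    rw [← (hR ha).2, ← (hs ha).2, e1]
  · obtain ⟨b1, c1⟩ := hR hb
    refine inj (hs b1).1 hb ?_
    rw [← (hs b1).2, ← c1, e1]
    calc s * (s * s * A b * (s * s)⁻¹) * s⁻¹ = s ^ 3 * A b * (s ^ 3)⁻¹ := by
          simp only [pow_succ, pow_zero, one_mul]
          group
      _ = A b := by rw [hs3, one_mul, inv_one, mul_one]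

/-- The centraliser of `S` is not contained in the centraliser of `z`. -/
theorem xGroup_not_le [Finite G] (h : Sat γ (cRels ++ gRels)) (hz : prodw γ zW ≠ 1)
    (hC : Subgroup.centralizer ({prodw γ zW} : Set G) ≤ cGroup γ) : ¬ xGroup γ ≤ cGroup γ := by
  intro hX
  have hc := satC h
  have : Fact (Nat.Prime 3) := ⟨Nat.prime_three⟩
  obtain ⟨e2, -⟩ := g_rules h
  obtain ⟨hm1, hm2, hm3⟩ := s_mems hc
  have hcard : Nat.card (sGroup hc) = 3 ^ 2 := card_sGroup hc hz
  have hN : Subgroup.normalizer (sGroup hc : Set G) ≤ cGroup γ := by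
    intro n hn
    have comm : ∀ t ∈ sGroup hc, n * prodw γ zW * n⁻¹ * t = t * (n * prodw γ zW * n⁻¹) := by
      intro t ht
      have ht' : n⁻¹ * t * n ∈ sGroup hc := by
        rw [Subgroup.mem_normalizer_iff] at hn
        refine (hn _).2 ?_
        simpa [mul_assoc] using ht
      calc n * prodw γ zW * n⁻¹ * t = n * (prodw γ zW * (n⁻¹ * t * n)) * n⁻¹ := by group
        _ = n * (n⁻¹ * t * n * prodw γ zW) * n⁻¹ := by
          rw [z_comm hc (sGroup_le_cGroup hc ht')]
        _ = _ := by group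
    have hx := mem_xGroup.2 ⟨comm _ hm1, comm _ hm2⟩
    have hzz : prodw γ zW * prodw γ zW = 1 := by
      rw [← prodw_append]; exact h.rel _ (List.mem_append_left _ (by decide))
    have hsq : n * prodw γ zW * n⁻¹ * (n * prodw γ zW * n⁻¹) = 1 := by
      calc _ = n * (prodw γ zW * prodw γ zW) * n⁻¹ := by group
        _ = 1 := by rw [hzz, mul_one, mul_inv_cancel]
    obtain ⟨t, ht, e | e⟩ := xGroup_cases hc hz hx (hX hx)
    · exfalso
      rw [e] at hsq
      have t1 : t = 1 := eq_one_of_pow_pow (by rw [pow_two]; exact hsq)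
        (sGroup_pow_three hc ht) (by norm_num)
      rw [t1, conj_eq_one_iff] at e
      exact hz e
    · rw [e] at hsq
      have tz := z_comm hc (sGroup_le_cGroup hc ht)
      have t1 : t = 1 := by
        refine eq_one_of_pow_pow (a := 2) ?_ (sGroup_pow_three hc ht) (by norm_num)
        calc t ^ 2 = t * t * (prodw γ zW * prodw γ zW) := by rw [hzz, mul_one, pow_two]
          _ = t * (t * prodw γ zW) * prodw γ zW := by group
          _ = 1 := by rw [tz, ← hsq]; group
      rw [t1, one_mul, mul_inv_eq_iff_eq_mul] at e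
      exact mem_cGroup_of_comm hC e
  have h27 : ¬ 3 ^ (2 + 1) ∣ Nat.card G := by
    intro hd
    obtain ⟨K, hK, hle⟩ := Sylow.exists_subgroup_card_pow_succ hd hcard
    have hi : ((sGroup hc).subgroupOf K).index = (Nat.card K).minFac := by
      rw [hK, Nat.Prime.pow_minFac Nat.prime_three (by norm_num)]
      have := ((sGroup hc).subgroupOf K).card_mul_index
      rw [Nat.card_congr (Subgroup.subgroupOfEquivOfLe hle).toEquiv, hcard, hK] at this
      norm_num at this
      omega
    have hKc := ((Subgroup.normal_subgroupOf_iff_le_normalizer hle).1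
      (Subgroup.normal_of_index_eq_minFac_card hi)).trans hN
    have := Subgroup.card_dvd_of_le hKc
    rw [hK, card_cGroup hc hz] at this
    norm_num at this
  have hidx : ¬ 3 ∣ (sGroup hc).index := fun hd => h27 (by
    rw [← (sGroup hc).card_mul_index, hcard, pow_succ]
    exact mul_dvd_mul_left _ hd)
  obtain ⟨P, hP⟩ : ∃ P : Sylow 3 G, (P : Subgroup G) = sGroup hc :=
    ⟨(IsPGroup.of_card hcard).toSylow hidx, IsPGroup.toSylow_coe _ _⟩
  have : IsMulCommutative P := by
    rw [show (P : Subgroup G) = sGroup hc from hP]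
    exact IsPGroup.isMulCommutative_of_card_eq_prime_sq (p := 3) hcard
  have hfus : ∀ c : G, c⁻¹ * prodw γ sdW * c ∈ sGroup hc →
      c⁻¹ * prodw γ sdW * c = prodw γ sdW ∨
        c⁻¹ * prodw γ sdW * c = prodw γ sdW * prodw γ sdW := by
    intro c hcc
    obtain ⟨n, hn, e⟩ := P.conj_eq_normalizer_conj_of_mem (prodw γ sdW) c
      (show _ ∈ (P : Subgroup G) from hP.symm ▸ hm3)
      (show _ ∈ (P : Subgroup G) from hP.symm ▸ hcc)
    replace hn : n ∈ Subgroup.normalizer (sGroup hc : Set G) := by rw [← hP]; exact hn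
    obtain ⟨v, hv, hvn, hp⟩ := rows_spec hc conjS ((cGroup γ).inv_mem (hN hn))
    have hin : ∀ {u : List ℕ}, (∀ x ∈ u, x < 10) → prodw γ u ∈ sGroup hc →
        sList.any (sameB (v ++ u ++ invW v)) = true := fun {u} hu hus => by
      refine any_sameB hc hz (small_append (small_append hv hu) (mem_invW hv)) ?_
      rw [prodw_append, prodw_append, prodw_invW' hc hv, hvn]
      exact (Subgroup.mem_normalizer_iff.1 (Subgroup.inv_mem _ hn) _).1 hus
    rw [hin (by decide) hm1, hin (by decide) hm2] at hp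
    simp only [Bool.and_self, Bool.not_true, Bool.false_or, List.any_eq_true] at hp
    obtain ⟨l, hl, hle⟩ := hp
    have := prodw_eq_of_sameB hc hle
    rw [prodw_append, prodw_append, prodw_invW' hc hv, hvn, inv_inv] at this
    rw [e, this]
    simp only [List.mem_cons, List.not_mem_nil, or_false] at hl
    rcases hl with rfl | rfl
    · exact Or.inl rfl
    · exact Or.inr (prodw_append γ _ _)
  obtain ⟨r, hr⟩ : ∃ r, γ 10 * prodw γ tW * γ 10 = r := ⟨_, rfl⟩
  obtain ⟨d, hd⟩ : ∃ d, γ 10 * γ 6 = d := ⟨_, rfl⟩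
  have hrd : r = d * prodw γ sdW * d⁻¹ := by
    rw [← hr, ← hd, mul_inv_rev, inv_eq_of_mul_eq_one_right e2,
      show tW = [6] ++ sdW ++ [7] from rfl, prodw_append, prodw_append,
      show prodw γ [7] = (γ 6)⁻¹ by simp [prodw, ← h.iv 6 (by norm_num)],
      show prodw γ [6] = γ 6 by simp [prodw]]
    group
  have hs3 := sGroup_pow_three hc hm3
  have hr3 : r ^ 3 = 1 := by rw [hrd, conj_pow, hs3, mul_one, mul_inv_cancel]
  obtain ⟨hrs, hne1, hne2⟩ := r_comm_s h hz hC hr hr3
  have hpg : IsPGroup 3 (Subgroup.closure {prodw γ sdW, r}) := by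
    intro x
    refine ⟨1, Subtype.ext ?_⟩
    rw [pow_one, SubgroupClass.coe_pow, OneMemClass.coe_one]
    obtain ⟨i, j, hij⟩ : ∃ i j : ℕ, prodw γ sdW ^ i * r ^ j = x.1 := by
      have hcomm : ∀ i j, r ^ j * prodw γ sdW ^ i = prodw γ sdW ^ i * r ^ j := fun i j =>
        (Commute.pow_pow hrs j i).eq
      refine Subgroup.closure_induction ?_ ?_ ?_ ?_ x.2
      · rintro y (rfl | rfl)
        exacts [⟨1, 0, by simp⟩, ⟨0, 1, by simp⟩]
      · exact ⟨0, 0, by simp⟩
      · rintro _ _ _ _ ⟨i, j, rfl⟩ ⟨i', j', rfl⟩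
        exact ⟨i + i', j + j', by
          rw [pow_add, pow_add, mul_assoc, mul_assoc, ← mul_assoc (r ^ j), hcomm, mul_assoc]⟩
      · rintro _ _ ⟨i, j, rfl⟩
        refine ⟨2 * i, 2 * j, eq_inv_of_mul_eq_one_left ?_⟩
        rw [mul_assoc, ← mul_assoc (r ^ (2 * j)), hcomm, mul_assoc, ← pow_add, ← mul_assoc,
          ← pow_add, show 2 * i + i = 3 * i by ring, show 2 * j + j = 3 * j by ring, pow_mul,
          pow_mul, hs3, hr3, one_pow, one_pow, mul_one]
    rw [← hij, (Commute.pow_pow hrs j i).symm.mul_pow, ← pow_mul, ← pow_mul, mul_comm i,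
      mul_comm j, pow_mul, pow_mul, hs3, hr3, one_pow, one_pow, mul_one]
  obtain ⟨Q, hQ⟩ := hpg.exists_le_sylow
  obtain ⟨c, hcQ⟩ := MulAction.exists_smul_eq G P Q
  have mem : ∀ x ∈ Subgroup.closure {prodw γ sdW, r}, c⁻¹ * x * c ∈ sGroup hc := fun x hx => by
    have := hQ hx
    rw [← hcQ, Sylow.coe_subgroup_smul] at this
    rw [← hP]
    simpa [Subgroup.mem_pointwise_smul_iff_inv_smul_mem, MulAut.smul_def,
      MulAut.conj_apply] using this
  have f1 := hfus c (mem _ (Subgroup.subset_closure (by simp)))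
  have hcr := mem r (Subgroup.subset_closure (by simp))
  have conj_r : c⁻¹ * r * c = (d⁻¹ * c)⁻¹ * prodw γ sdW * (d⁻¹ * c) := by rw [hrd]; group
  have f2 := hfus (d⁻¹ * c) (conj_r ▸ hcr)
  rw [← conj_r] at f2
  have cancel : ∀ {a b : G}, c⁻¹ * a * c = c⁻¹ * b * c → a = b := fun e =>
    mul_left_cancel (mul_right_cancel e)
  have hs4 : prodw γ sdW * prodw γ sdW * (prodw γ sdW * prodw γ sdW) = prodw γ sdW := by
    calc _ = prodw γ sdW ^ 3 * prodw γ sdW := by
          simp only [pow_succ, pow_zero, one_mul]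
          group
      _ = _ := by rw [hs3, one_mul]
  rcases f1 with f1 | f1 <;> rcases f2 with f2 | f2
  · exact hne1 (cancel (f2.trans f1.symm))
  · refine hne2 (cancel (f2.trans ?_))
    conv_lhs => rw [← f1]
    group
  · refine hne2 (cancel (f2.trans ?_))
    conv_lhs => rw [← hs4, ← f1]
    group
  · exact hne1 (cancel (f2.trans f1.symm))

end CfsgLib.UFourType
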