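import Cfsg.Agent.MTwelveUnique.Checker

/-!
Helpers for the coset enumeration certificates used in the recognition of `U₄(3)`.
-/

set_option autoImplicit false

namespace CfsgLib.UFourType

open CfsgLib.MTwelveUnique CfsgLib.CosetEnum

/-- Checking a concatenation of steps. -/
theorem stepsOK_append (R W : List (List ℕ)) (F : ℕ) : ∀ (a b : List ℕ) (i : ℕ),
    stepsOK R W F (a ++ b) i = (stepsOK R W F a i && stepsOK R W F b (i + a.length)) := by
  intro a
  induction a with
  | nil => intro b i; simp [stepsOK]
  | cons S a ih =>
    intro b i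
    simp only [List.cons_append, stepsOK, ih, Bool.and_assoc, List.length_cons]
    rw [show i + 1 + a.length = i + (a.length + 1) by omega]

/-- A coset table with the nodes of a certificate standing for its rows. -/
structure Tab where
  cert : Cert
  n : ℕ
  reps : ℕ
  tab : ℕ → ℕ

/-- The entry `p` derives the image of row `i` under the letter `x`. -/
def Tab.edgeP (T : Tab) (x i p : ℕ) : Bool :=
  let j := ext (T.tab x) i
  Nat.blt j T.n && T.cert.reads [x] (ext T.reps i) (ext T.reps j) p

/-- A run of consecutive entries starting at row `i`. -/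
def Tab.edgesFrom (T : Tab) (x : ℕ) : List ℕ → ℕ → Bool
  | [], _ => true
  | p :: ps, i => T.edgeP x i p && T.edgesFrom x ps (i + 1)

theorem Tab.edgesFrom_append (T : Tab) (x : ℕ) : ∀ (a b : List ℕ) (i : ℕ),
    T.edgesFrom x (a ++ b) i = (T.edgesFrom x a i && T.edgesFrom x b (i + a.length)) := by
  intro a
  induction a with
  | nil => intro b i; simp [Tab.edgesFrom]
  | cons p a ih =>
    intro b i
    simp only [List.cons_append, Tab.edgesFrom, ih, Bool.and_assoc, List.length_cons]
    rw [show i + 1 + a.length = i + (a.length + 1) by omega]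

theorem Tab.exists_edge (T : Tab) (x : ℕ) : ∀ (l : List ℕ) (i k : ℕ),
    T.edgesFrom x l i = true → k < l.length → ∃ p, T.edgeP x (i + k) p = true := by
  intro l
  induction l with
  | nil => intro i k _ hk; simp at hk
  | cons p l ih =>
    intro i k h hk
    simp only [Tab.edgesFrom, Bool.and_eq_true] at h
    cases k with
    | zero => exact ⟨p, h.1⟩
    | succ k =>
      have := ih (i + 1) k h.2 (by simpa using hk)
      simpa [Nat.add_assoc, Nat.add_comm 1 k] using this

/-- All rows of all generators are derived. -/
def Tab.Derived (T : Tab) (k : ℕ) : Prop :=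
  ∀ x < k, ∀ i < T.n, ∃ p, T.edgeP (2 * x) i p = true

/-- Walking along a word. -/
def Tab.walk (T : Tab) : ℕ → List ℕ → ℕ
  | i, [] => i
  | i, x :: w => T.walk (ext (T.tab x) i) w

/-- The word of a spanning tree leading to row `i`. -/
def pathOf (pN pX : ℕ) : ℕ → ℕ → List ℕ
  | 0, _ => []
  | d + 1, i => bif Nat.beq i 0 then [] else pathOf pN pX d (ext pN i) ++ [ext pX i]

/-- The inverse of a word. -/
def invW (w : List ℕ) : List ℕ := (w.map fun x => Nat.xor x 1).reverse

theorem Tab.walk_append (T : Tab) : ∀ (v w : List ℕ) (i : ℕ),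
    T.walk i (v ++ w) = T.walk (T.walk i v) w := by
  intro v
  induction v with
  | nil => intro w i; rfl
  | cons x v ih => intro w i; exact ih w _

end CfsgLib.UFourType
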