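import Cfsg.Agent.UFourType.Pair

/-!
The decomposition is a homomorphism, the interchanging element can be an involution, and
`(g q₀) ^ 3 = 1` for it.
-/

set_option autoImplicit false
set_option linter.unusedSectionVars false

namespace CfsgLib.UFourType.Frame.Swap

open Subgroup

variable {G : Type*} [Group G] [Finite G] {z : G} {φ : SL × SL →* G} {g : G} (h : Swap z φ g)
include h

theorem CQ_le_CE {x : G} (hx : x ∈ CQ φ) : x ∈ CE z φ := by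
  obtain ⟨hm, hu⟩ := mem_CQ.1 hx
  obtain ⟨a, -, rfl⟩ := mem_Qm.1 hm
  exact mem_CE.2 ⟨h.core.z_comm a, hu⟩

theorem conj_CE {x : G} (hx : x ∈ CE z φ) : g * x * g⁻¹ ∈ CE z φ ∧ g⁻¹ * x * g ∈ CE z φ := by
  obtain ⟨h1, h2⟩ := mem_CE.1 hx
  have e1 := congrArg (fun t => g * t * g⁻¹) h1
  have e2 := congrArg (fun t => g * t * g⁻¹) h2
  have e3 := congrArg (fun t => g⁻¹ * t * g) h1
  have e4 := congrArg (fun t => g⁻¹ * t * g) h2
  have a : g⁻¹ * z * g = uu φ := by rw [← h.gu]; group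
  have b : g⁻¹ * uu φ * g = z := by rw [← h.gz]; group
  simp only [← conj_mul, h.gz, h.gu] at e1 e2
  rw [show g⁻¹ * (x * z) * g = g⁻¹ * x * g * (g⁻¹ * z * g) by group,
    show g⁻¹ * (z * x) * g = g⁻¹ * z * g * (g⁻¹ * x * g) by group, a] at e3
  rw [show g⁻¹ * (x * uu φ) * g = g⁻¹ * x * g * (g⁻¹ * uu φ * g) by group,
    show g⁻¹ * (uu φ * x) * g = g⁻¹ * uu φ * g * (g⁻¹ * x * g) by group, b] at e4
  exact ⟨mem_CE.2 ⟨e2, e1⟩, mem_CE.2 ⟨e4, e3⟩⟩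

theorem InE_mem_CE {e : G} (he : InE φ e) : e ∈ CE z φ := h.CQ_le_CE (h.InE_mem_CQ he)

theorem dec_mem {x p q : G} (hd : Dec φ g x p q) : x ∈ CE z φ := by
  obtain ⟨hp, hq, e, he, rfl⟩ := hd
  exact (CE z φ).mul_mem ((CE z φ).mul_mem (h.CQ_le_CE hp) (h.conj_CE (h.CQ_le_CE hq)).1)
    (h.InE_mem_CE he)

theorem dec_left {p : G} (hp : p ∈ CQ φ) : Dec φ g p p 1 :=
  ⟨hp, (CQ φ).one_mem, 1, h.InE_one, by group⟩

theorem dec_right {q : G} (hq : q ∈ CQ φ) : Dec φ g (g * q * g⁻¹) 1 q :=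
  ⟨(CQ φ).one_mem, hq, 1, h.InE_one, by group⟩

theorem dec_InE {e : G} (he : InE φ e) : Dec φ g e 1 1 :=
  ⟨(CQ φ).one_mem, (CQ φ).one_mem, e, he, by group⟩

theorem swap_pd {p q : G} (hp : p ∈ CQ φ) (hq : q ∈ CQ φ) :
    ∃ e, InE φ e ∧ g * q * g⁻¹ * p = p * (g * q * g⁻¹) * e := by
  refine ⟨(g * q * g⁻¹)⁻¹ * p⁻¹ * (g * q * g⁻¹) * p, h.mem_E ?_ ?_, by group⟩
  · have hd := (mem_CE.1 ((CE z φ).inv_mem (h.conj_CE (h.CQ_le_CE hq)).1)).1
    have := h.core.norm _ hd _ ((Qm φ).inv_mem (mem_CQ.1 hp).1)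
    rw [inv_inv] at this
    exact (Qm φ).mul_mem this (mem_CQ.1 hp).1
  · have hp' := (mem_CE.1 ((CE z φ).inv_mem (h.conj_CE (h.CQ_le_CE hp)).2)).1
    have := h.core.norm _ hp' _ (mem_CQ.1 hq).1
    rw [show g⁻¹ * ((g * q * g⁻¹)⁻¹ * p⁻¹ * (g * q * g⁻¹) * p) * g =
      q⁻¹ * ((g⁻¹ * p * g)⁻¹ * q * (g⁻¹ * p * g)⁻¹⁻¹) by group]
    exact (Qm φ).mul_mem ((Qm φ).inv_mem (mem_CQ.1 hq).1) this

theorem dec_mul {x p q x' p' q' : G} (hd : Dec φ g x p q) (hd' : Dec φ g x' p' q') :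
    Dec φ g (x * x') (p * p') (q * q') := by
  obtain ⟨hp, hq, e, he, rfl⟩ := hd
  obtain ⟨hp', hq', e', he', rfl⟩ := hd'
  obtain ⟨e'', he'', eq⟩ := h.swap_pd hp' hq
  refine ⟨(CQ φ).mul_mem hp hp', (CQ φ).mul_mem hq hq', e'' * e * e',
    h.InE_mul (h.InE_mul he'' he) he', ?_⟩
  have c1 : Commute e (p' * (g * q' * g⁻¹)) :=
    (h.InE_comm ((CE z φ).mul_mem (h.CQ_le_CE hp') (h.conj_CE (h.CQ_le_CE hq')).1) he).symm
  have c2 : Commute e'' (g * q' * g⁻¹) :=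
    (h.InE_comm (h.conj_CE (h.CQ_le_CE hq')).1 he'').symm
  calc p * (g * q * g⁻¹) * e * (p' * (g * q' * g⁻¹) * e')
      = p * (g * q * g⁻¹) * (e * (p' * (g * q' * g⁻¹))) * e' := by group
    _ = p * (g * q * g⁻¹) * (p' * (g * q' * g⁻¹) * e) * e' := by rw [c1.eq]
    _ = p * (g * q * g⁻¹ * p') * (g * q' * g⁻¹) * e * e' := by group
    _ = p * p' * (g * q * g⁻¹) * (e'' * (g * q' * g⁻¹)) * e * e' := by rw [eq]; group
    _ = p * p' * (g * (q * q') * g⁻¹) * (e'' * e * e') := by rw [c2.eq]; group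

theorem dec_inv {x p q : G} (hd : Dec φ g x p q) : Dec φ g x⁻¹ p⁻¹ q⁻¹ := by
  obtain ⟨hp, hq, e, he, rfl⟩ := hd
  have := h.dec_mul (h.dec_mul (h.dec_InE (h.InE_inv he)) (h.dec_right ((CQ φ).inv_mem hq)))
    (h.dec_left ((CQ φ).inv_mem hp))
  simpa [mul_assoc] using this

theorem dec_congr {x p q p' q' : G} (hd : Dec φ g x p q) (hp' : p' ∈ CQ φ) (hq' : q' ∈ CQ φ)
    (e1 : InE φ (p'⁻¹ * p)) (e2 : InE φ (q'⁻¹ * q)) : Dec φ g x p' q' := by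
  obtain ⟨hp, hq, e, he, rfl⟩ := hd
  refine ⟨hp', hq', p'⁻¹ * p * (g * (q'⁻¹ * q) * g⁻¹) * e,
    h.InE_mul (h.InE_mul e1 (h.InE_conj_g e2)) he, ?_⟩
  have c := (h.InE_comm (h.conj_CE (h.CQ_le_CE hq')).1 e1).eq
  calc p * (g * q * g⁻¹) * e
      = p' * ((p'⁻¹ * p) * (g * q' * g⁻¹)) * (g * (q'⁻¹ * q) * g⁻¹) * e := by group
    _ = p' * (g * q' * g⁻¹) * (p'⁻¹ * p * (g * (q'⁻¹ * q) * g⁻¹) * e) := by rw [← c]; group

theorem InE_of_dec_one {x : G} (hd : Dec φ g x 1 1) : InE φ x := by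
  obtain ⟨-, -, e, he, rfl⟩ := hd
  simpa using he

/-- Conjugation inside `CQ` is trivial modulo `⟨z, u⟩`. -/
theorem CQ_conj {a p : G} (ha : a ∈ CQ φ) (hp : p ∈ CQ φ) : InE φ (p⁻¹ * (a * p * a⁻¹)) := by
  rcases h.core.Qm_comm (mem_CQ.1 ha).1 (mem_CQ.1 hp).1 with e | e <;> rw [e]
  · rw [mul_inv_cancel_right, inv_mul_cancel]
    exact h.InE_one
  · have hz := (mem_CE.1 ((CE z φ).inv_mem (h.CQ_le_CE ha))).1
    rw [show p⁻¹ * (p * a * z * a⁻¹) = a * (z * a⁻¹) by group, ← hz, mul_inv_cancel_left]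
    exact h.InE_z

theorem rep_mem (k : Fin 4) : φ (rep k) ∈ CQ φ := by
  refine mem_CQ.2 ⟨mem_Qm.2 ⟨rep k, mem_Q8P.2 (rep_four k), rfl⟩, ?_⟩
  rw [← map_mul, ← map_mul, h.core.eq_iff]
  rcases rep_comm k with e | e
  · exact Or.inl e.symm
  · exact Or.inr (by rw [e, mul_assoc _ _ ((N, N) : SL × SL),
      show ((N, N) : SL × SL) * (N, N) = 1 from Prod.ext N_mul_self N_mul_self, mul_one])

theorem card_CE_le : Nat.card (CE z φ) ≤ 64 := by
  set K := (CE z φ).subgroupOf (centralizer ({z} : Set G))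
  have hK : Nat.card K = Nat.card (CE z φ) :=
    Nat.card_congr (subgroupOfEquivOfLe (inf_le_left : CE z φ ≤ _)).toEquiv
  have hmul := K.card_mul_index
  rw [h.core.card, hK] at hmul
  let f : Fin 18 → (centralizer ({z} : Set G)) ⧸ K := fun k =>
    QuotientGroup.mk ⟨φ (orbitReps.getD k.1 1), mem_centralizer_singleton_iff.2 (h.core.z_comm _)⟩
  have finj : Function.Injective f := by
    intro k l e
    have := (mem_CE.1 (mem_subgroupOf.1 (QuotientGroup.eq.1 e))).2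
    simp only [Subgroup.coe_mul, InvMemClass.coe_inv] at this
    refine orbitReps_ne k l (h.core.eq_iff.1 ?_)
    simp only [map_mul, map_inv]
    have e2 := congrArg (fun t => φ (orbitReps.getD k.1 1) * t * (φ (orbitReps.getD l.1 1))⁻¹) this
    simpa [mul_assoc] using e2.symm
  have hle := Nat.card_le_card_of_injective f finj
  rw [Nat.card_fin, ← index_eq_card] at hle
  nlinarith

/-- Every element of the centraliser of `⟨z, u⟩` decomposes. -/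
theorem exists_dec {x : G} (hx : x ∈ CE z φ) : ∃ p q, Dec φ g x p q := by
  let f : Fin 4 × Fin 4 × Fin 4 → CE z φ := fun t =>
    ⟨φ (rep t.1) * (g * φ (rep t.2.1) * g⁻¹) * φ (er t.2.2),
      h.dec_mem ⟨h.rep_mem t.1, h.rep_mem t.2.1, _, ⟨t.2.2, rfl⟩, rfl⟩⟩
  have finj : Function.Injective f := by
    rintro ⟨a, b, c⟩ ⟨a', b', c'⟩ e
    have e' := congrArg Subtype.val e
    simp only [f] at e'
    obtain ⟨h1, h2⟩ := h.dec_unique (x := (f (a, b, c)).1)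
      ⟨h.rep_mem a, h.rep_mem b, _, ⟨c, rfl⟩, rfl⟩ ⟨h.rep_mem a', h.rep_mem b', _, ⟨c', rfl⟩, e'⟩
    have key : ∀ {k l : Fin 4}, InE φ ((φ (rep k))⁻¹ * φ (rep l)) → k = l := by
      rintro k l ⟨m, hm⟩
      refine rep_injective k l ⟨m, h.core.eq_iff.1 ?_⟩
      rw [map_mul, hm, mul_inv_cancel_left]
    obtain rfl := key h1
    obtain rfl := key h2
    obtain rfl := er_injective c c' (h.core.eq_iff.1 (mul_left_cancel e'))
    rfl
  have fbij : Function.Bijective f := by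
    refine (Nat.bijective_iff_injective_and_card f).2 ⟨finj, ?_⟩
    have h1 := Nat.card_le_card_of_injective f finj
    have h2 := h.card_CE_le
    simp only [Nat.card_prod, Nat.card_fin] at h1 ⊢
    omega
  obtain ⟨⟨a, b, c⟩, hc⟩ := fbij.2 ⟨x, hx⟩
  exact ⟨_, _, h.rep_mem a, h.rep_mem b, _, ⟨c, rfl⟩, (congrArg Subtype.val hc).symm⟩

/-- Inner automorphisms act trivially modulo `⟨z, u⟩`. -/
theorem dec_conj {c x p q : G} (hc : c ∈ CE z φ) (hd : Dec φ g x p q) :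
    Dec φ g (c * x * c⁻¹) p q := by
  obtain ⟨r, r', hr⟩ := h.exists_dec hc
  exact h.dec_congr (h.dec_mul (h.dec_mul hr hd) (h.dec_inv hr)) hd.1 hd.2.1
    (h.CQ_conj hr.1 hd.1) (h.CQ_conj hr.2.1 hd.2.1)

theorem sq_mem : g * g ∈ CE z φ := by
  refine mem_CE.2 ⟨?_, ?_⟩
  · calc g * g * z = g * (g * z * g⁻¹) * g⁻¹ * (g * g) := by group
      _ = z * (g * g) := by rw [h.gz, h.gu]
  · calc g * g * uu φ = g * (g * uu φ * g⁻¹) * g⁻¹ * (g * g) := by group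
      _ = uu φ * (g * g) := by rw [h.gu, h.gz]

theorem dec_conj_g {x p q : G} (hd : Dec φ g x p q) : Dec φ g (g * x * g⁻¹) q p := by
  obtain ⟨hp, hq, e, he, rfl⟩ := hd
  have := h.dec_mul (h.dec_mul (h.dec_right hp) (h.dec_conj h.sq_mem (h.dec_left hq)))
    (h.dec_InE (h.InE_conj_g he))
  simpa [mul_assoc] using this

/-- The interchanging element can be chosen to be an involution. -/
theorem exists_invol : ∃ g', Swap z φ g' ∧ g' * g' = 1 := by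
  obtain ⟨r, r', hd⟩ := h.exists_dec h.sq_mem
  have hd2 := h.dec_conj_g hd
  rw [show g * (g * g) * g⁻¹ = g * g by group] at hd2
  obtain ⟨hrr, -⟩ := h.dec_unique hd hd2
  have hr : r⁻¹ ∈ CE z φ := (CE z φ).inv_mem (h.CQ_le_CE hd.1)
  have hs : Swap z φ (g * r⁻¹) := by
    refine ⟨h.core, ?_, ?_⟩
    · calc g * r⁻¹ * z * (g * r⁻¹)⁻¹ = g * (r⁻¹ * z * r) * g⁻¹ := by group
        _ = uu φ := by rw [(mem_CE.1 hr).1]; simpa using h.gz
    · calc g * r⁻¹ * uu φ * (g * r⁻¹)⁻¹ = g * (r⁻¹ * uu φ * r) * g⁻¹ := by group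
        _ = z := by rw [(mem_CE.1 hr).2]; simpa using h.gu
  have hd3 := h.dec_mul (h.dec_mul (h.dec_right ((CQ φ).inv_mem hd.1)) hd)
    (h.dec_left ((CQ φ).inv_mem hd.1))
  rw [show g * r⁻¹ * g⁻¹ * (g * g) * r⁻¹ = g * r⁻¹ * (g * r⁻¹) by group, one_mul, mul_inv_cancel,
    mul_one] at hd3
  have hE := h.InE_of_dec_one (h.dec_congr hd3 (CQ φ).one_mem (CQ φ).one_mem
    (by simpa using h.InE_one) (by simpa using hrr))
  rcases h.InE_cases hE with e | e | e | e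
  · exact ⟨_, hs, e⟩
  · exfalso
    apply h.u_ne_z
    calc uu φ = g * r⁻¹ * z * (g * r⁻¹)⁻¹ := hs.gz.symm
      _ = z := by rw [← e]; group
  · exfalso
    apply h.u_ne_z
    calc uu φ = g * r⁻¹ * uu φ * (g * r⁻¹)⁻¹ := by rw [← e]; group
      _ = z := hs.gu
  · refine ⟨g * r⁻¹ * z, ⟨h.core, ?_, ?_⟩, ?_⟩
    · calc g * r⁻¹ * z * z * (g * r⁻¹ * z)⁻¹ = g * r⁻¹ * z * (g * r⁻¹)⁻¹ := by group
        _ = uu φ := hs.gz
    · calc g * r⁻¹ * z * uu φ * (g * r⁻¹ * z)⁻¹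
          = g * r⁻¹ * (z * uu φ * z⁻¹) * (g * r⁻¹)⁻¹ := by group
        _ = z := by rw [← h.u_z, mul_inv_cancel_right]; exact hs.gu
    · calc g * r⁻¹ * z * (g * r⁻¹ * z)
          = (g * r⁻¹ * z * (g * r⁻¹)⁻¹) * (g * r⁻¹ * (g * r⁻¹)) * z := by group
        _ = uu φ * uu φ * (z * z) := by rw [hs.gz, e]; group
        _ = 1 := by rw [h.u_mul_self, h.core.z_mul_self, one_mul]

/-! ### Elements moving `u` to `u z` -/

variable {q0 : G} (hq0 : q0 ∈ Qm φ) (hq0u : q0 * uu φ * q0⁻¹ = uu φ * z)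
include hq0 hq0u

theorem q0_z : q0 * z * q0⁻¹ = z := by
  obtain ⟨a, -, rfl⟩ := mem_Qm.1 hq0
  rw [h.core.z_comm, mul_inv_cancel_right]

theorem q0_uz : q0 * (uu φ * z) * q0⁻¹ = uu φ := by
  rw [← conj_mul, hq0u, h.q0_z hq0 hq0u, mul_assoc, h.core.z_mul_self, mul_one]

theorem q0_InE {e : G} (he : InE φ e) : InE φ (q0 * e * q0⁻¹) := by
  rcases h.InE_cases he with rfl | rfl | rfl | rfl
  · rw [mul_one, mul_inv_cancel]; exact h.InE_one
  · rw [h.q0_z hq0 hq0u]; exact h.InE_z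
  · rw [hq0u]; exact h.InE_uz
  · rw [h.q0_uz hq0 hq0u]; exact h.InE_u

theorem q0_CE {x : G} (hx : x ∈ CE z φ) : q0 * x * q0⁻¹ ∈ CE z φ := by
  obtain ⟨h1, h2⟩ := mem_CE.1 hx
  have c1 := congrArg (fun t => q0 * t * q0⁻¹) h1
  have c2 := congrArg (fun t => q0 * t * q0⁻¹)
    (show x * (uu φ * z) = uu φ * z * x from Commute.mul_right h2 h1)
  simp only [← conj_mul, h.q0_z hq0 hq0u, hq0u] at c1 c2
  rw [mul_assoc (uu φ), h.core.z_mul_self, mul_one] at c2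
  exact mem_CE.2 ⟨c1, c2⟩

theorem exists_shift {x p q : G} (hd : Dec φ g x p q) :
    ∃ t, t ∈ CQ φ ∧ q0 * (g * q * g⁻¹) * q0⁻¹ = t * (g * q * g⁻¹) ∧
      Dec φ g (g * q0 * x * (g * q0)⁻¹) q (p * t) := by
  obtain ⟨hp, hq, e, he, rfl⟩ := hd
  have hd := (h.conj_CE (h.CQ_le_CE hq)).1
  set t := q0 * (g * q * g⁻¹) * q0⁻¹ * (g * q * g⁻¹)⁻¹ with ht
  have htm : t ∈ CQ φ := by
    refine mem_CQ.2 ⟨?_, (mem_CE.1 ((CE z φ).mul_mem (h.q0_CE hq0 hq0u hd)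
      ((CE z φ).inv_mem hd))).2⟩
    rw [ht, mul_assoc q0, mul_assoc q0]
    exact (Qm φ).mul_mem hq0 (h.core.norm _ (mem_CE.1 hd).1 _ ((Qm φ).inv_mem hq0))
  refine ⟨t, htm, by rw [ht, inv_mul_cancel_right], ?_⟩
  have hp' : Dec φ g (q0 * p * q0⁻¹) p 1 := by
    rcases h.core.Qm_comm hq0 (mem_CQ.1 hp).1 with c | c <;> rw [c]
    · rw [mul_inv_cancel_right]; exact h.dec_left hp
    · rw [mul_assoc (p * q0), show z * q0⁻¹ = q0⁻¹ * z by
        have := h.q0_z hq0 hq0u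
        calc z * q0⁻¹ = q0⁻¹ * (q0 * z * q0⁻¹) := by group
          _ = q0⁻¹ * z := by rw [this], mul_assoc p, mul_inv_cancel_left]
      simpa using h.dec_mul (h.dec_left hp) (h.dec_InE h.InE_z)
  have hx := h.dec_mul (h.dec_mul hp' (h.dec_mul (h.dec_left htm) (h.dec_right hq)))
    (h.dec_InE (h.q0_InE hq0 hq0u he))
  simp only [one_mul, mul_one] at hx
  have := h.dec_conj_g hx
  rw [show g * q0 * (p * (g * q * g⁻¹) * e) * (g * q0)⁻¹ =
    g * (q0 * p * q0⁻¹ * (t * (g * q * g⁻¹)) * (q0 * e * q0⁻¹)) * g⁻¹ by rw [ht]; group]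
  exact this

theorem r_z : g * q0 * z * (g * q0)⁻¹ = uu φ := by
  calc _ = g * (q0 * z * q0⁻¹) * g⁻¹ := by group
    _ = _ := by rw [h.q0_z hq0 hq0u, h.gz]

theorem r_u : g * q0 * uu φ * (g * q0)⁻¹ = uu φ * z := by
  calc _ = g * (q0 * uu φ * q0⁻¹) * g⁻¹ := by group
    _ = _ := by rw [hq0u, ← conj_mul, h.gu, h.gz, h.u_z]

theorem r_uz : g * q0 * (uu φ * z) * (g * q0)⁻¹ = z := by
  calc _ = g * (q0 * (uu φ * z) * q0⁻¹) * g⁻¹ := by group
    _ = _ := by rw [h.q0_uz hq0 hq0u, h.gu]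

theorem cube_mem : g * q0 * (g * q0) * (g * q0) ∈ CE z φ := by
  set r := g * q0 with hr
  refine mem_CE.2 ⟨?_, ?_⟩
  · calc r * r * r * z = r * (r * (r * z * r⁻¹) * r⁻¹) * r⁻¹ * (r * r * r) := by group
      _ = z * (r * r * r) := by rw [h.r_z hq0 hq0u, h.r_u hq0 hq0u, h.r_uz hq0 hq0u]
  · calc r * r * r * uu φ = r * (r * (r * uu φ * r⁻¹) * r⁻¹) * r⁻¹ * (r * r * r) := by group
      _ = uu φ * (r * r * r) := by rw [h.r_u hq0 hq0u, h.r_uz hq0 hq0u, h.r_z hq0 hq0u]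

/-- The commutator of `q₀` and `g q g⁻¹` is `q`, modulo `⟨z, u⟩`. -/
theorem theta {q : G} (hq : q ∈ CQ φ) :
    ∃ e, InE φ e ∧ q0 * (g * q * g⁻¹) * q0⁻¹ = q * (g * q * g⁻¹) * e := by
  obtain ⟨t1, -, ht1, d1⟩ := h.exists_shift hq0 hq0u (h.dec_left hq)
  have ht1' : t1 = 1 := by simpa using ht1.symm
  rw [ht1', mul_one] at d1
  obtain ⟨t, htm, ht, d2⟩ := h.exists_shift hq0 hq0u d1
  obtain ⟨t3, -, -, d3⟩ := h.exists_shift hq0 hq0u d2
  have d0 := h.dec_conj (h.cube_mem hq0 hq0u) (h.dec_left hq)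
  rw [show g * q0 * (g * q0) * (g * q0) * q * (g * q0 * (g * q0) * (g * q0))⁻¹ =
    g * q0 * (g * q0 * (g * q0 * q * (g * q0)⁻¹) * (g * q0)⁻¹) * (g * q0)⁻¹ by group] at d0
  obtain ⟨e1, -⟩ := h.dec_unique d0 d3
  rw [one_mul] at e1
  refine ⟨q⁻¹ * t, e1, ?_⟩
  rw [ht, mul_assoc q (g * q * g⁻¹), (h.InE_comm (h.conj_CE (h.CQ_le_CE hq)).1 e1).eq]
  group

/-- The product of the interchanging element and `q₀` has order three. -/
theorem cube : g * q0 * (g * q0) * (g * q0) = 1 := by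
  have hcm := h.cube_mem hq0 hq0u
  set r := g * q0 with hr
  obtain ⟨p, q, hd⟩ := h.exists_dec hcm
  obtain ⟨t, htm, ht, d1⟩ := h.exists_shift hq0 hq0u hd
  rw [show r * (r * r * r) * r⁻¹ = r * r * r by group] at d1
  obtain ⟨e1, e2⟩ := h.dec_unique hd d1
  obtain ⟨e, he, ht'⟩ := h.theta hq0 hq0u hd.2.1
  have ht2 : t = q * e := by
    rw [ht, mul_assoc q, (h.InE_comm (h.conj_CE (h.CQ_le_CE hd.2.1)).1 he).eq, ← mul_assoc q] at ht'
    exact mul_right_cancel ht'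
  have hp1 : InE φ p := by
    rw [ht2] at e2
    have h1 := h.InE_mul e2 (h.InE_inv he)
    have h2 : q⁻¹ * (p * (q * e)) * e⁻¹ = q⁻¹ * p * q := by group
    rw [h2] at h1
    have h3 : q * (q⁻¹ * p * q) * q⁻¹ = p := by group
    rw [(h.InE_comm (h.CQ_le_CE hd.2.1) h1).eq, mul_inv_cancel_right] at h3
    exact h3 ▸ h1
  have hq1 : InE φ q := by
    have := h.InE_mul hp1 e1
    rwa [mul_inv_cancel_left] at this
  have hE := h.InE_of_dec_one (h.dec_congr hd (CQ φ).one_mem (CQ φ).one_mem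
    (by simpa using hp1) (by simpa using hq1))
  have hfix : r * (r * r * r) * r⁻¹ = r * r * r := by group
  rcases h.InE_cases hE with c | c | c | c <;> rw [c] at hfix ⊢
  · rw [h.r_z hq0 hq0u] at hfix
    exact absurd hfix h.u_ne_z
  · rw [h.r_u hq0 hq0u, mul_eq_left] at hfix
    exact absurd hfix h.core.z_ne
  · rw [h.r_uz hq0 hq0u] at hfix
    exact absurd (mul_eq_right.1 hfix.symm) h.u_ne_one

end CfsgLib.UFourType.Frame.Swap
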