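import Cfsg.Agent.UFourType.Words

/-!
Generators satisfying relators, in the alphabet of the recognition of `U₄(3)`.
-/

set_option autoImplicit false

namespace CfsgLib.UFourType

open CfsgLib.CosetEnum

variable {G : Type*} [Group G]

/-- The values of the letters for generators `i, j, s, y, w, g`. -/
def gens (i j s y w g : G) : ℕ → G
  | 0 => i
  | 1 => i⁻¹
  | 2 => j
  | 3 => j⁻¹
  | 4 => s
  | 5 => s⁻¹
  | 6 => y
  | 7 => y⁻¹
  | 8 => w
  | 9 => w⁻¹
  | 10 => g
  | 11 => g⁻¹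
  | _ => 1

/-- A valuation of the letters satisfying the relators. -/
structure Sat (γ : ℕ → G) (R : List (List ℕ)) : Prop where
  iv : ∀ x, x < 12 → γ (Nat.xor x 1) = (γ x)⁻¹
  eps : γ 12 = 1
  rel : ∀ w ∈ R, prodw γ w = 1

theorem gens_iv (i j s y w g : G) :
    ∀ x, x < 12 → gens i j s y w g (Nat.xor x 1) = (gens i j s y w g x)⁻¹ := by
  intro x hx
  interval_cases x
  exacts [rfl, (inv_inv i).symm, rfl, (inv_inv j).symm, rfl, (inv_inv s).symm, rfl, (inv_inv y).symm,
    rfl, (inv_inv w).symm, rfl, (inv_inv g).symm]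

theorem Sat.of_gens {i j s y w g : G} {R : List (List ℕ)}
    (h : ∀ v ∈ R, prodw (gens i j s y w g) v = 1) : Sat (gens i j s y w g) R :=
  ⟨gens_iv i j s y w g, rfl, h⟩

theorem Sat.mono {γ : ℕ → G} {R R' : List (List ℕ)} (h : Sat γ R) (hR : ∀ w ∈ R', w ∈ R) :
    Sat γ R' :=
  ⟨h.iv, h.eps, fun w hw => h.rel w (hR w hw)⟩

theorem Sat.append {γ : ℕ → G} {R R' : List (List ℕ)} (h : Sat γ R)
    (h' : ∀ w ∈ R', prodw γ w = 1) : Sat γ (R ++ R') :=
  ⟨h.iv, h.eps, fun w hw => (List.mem_append.1 hw).elim (h.rel w) (h' w)⟩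

/-- The subgroup generated by the letters of the centraliser. -/
def cGroup (γ : ℕ → G) : Subgroup G := Subgroup.closure (γ '' {x | x < 10})

theorem prodw_invW {γ : ℕ → G} {R : List (List ℕ)} (h : Sat γ R) (w : List ℕ)
    (hw : ∀ x ∈ w, x < 12) : prodw γ (invW w) = (prodw γ w)⁻¹ :=
  prodw_rev_iv γ 12 (fun y => Nat.xor y 1) (fun x hx _ => h.iv x hx) w fun x hx => ⟨hw x hx, by
    have := hw x hx
    interval_cases x <;> decide⟩

theorem prodw_mem_cGroup {γ : ℕ → G} {w : List ℕ} (hw : ∀ x ∈ w, x < 10) :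
    prodw γ w ∈ cGroup γ := by
  induction w with
  | nil => exact (cGroup γ).one_mem
  | cons x w ih =>
    rw [prodw_cons]
    exact (cGroup γ).mul_mem (Subgroup.subset_closure ⟨x, hw x List.mem_cons_self, rfl⟩)
      (ih fun y hy => hw y (List.mem_cons_of_mem x hy))

end CfsgLib.UFourType
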