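import Cfsg.Agent.UFourType.Core

/-!
The frame from the hypotheses on the centraliser of the involution.
-/

set_option autoImplicit false

namespace CfsgLib.UFourType.Frame

open Subgroup

theorem isUnit_two_pow {x : SL} {m : ℕ} (h : x ^ 2 ^ m = 1) : x ^ 4 = 1 := by
  refine pow_eight x (orderOf_dvd_iff_pow_eq_one.1 ?_)
  have h1 : orderOf x ∣ 8 * 3 := orderOf_dvd_of_pow_eq_one (pow_twentyfour x)
  have h2 : Nat.Coprime (orderOf x) 3 :=
    Nat.Coprime.coprime_dvd_left (orderOf_dvd_of_pow_eq_one h)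
      ((show Nat.Coprime 2 3 by decide).pow_left m)
  exact h2.dvd_of_dvd_mul_right h1

theorem invol_eq_N {x : SL} (h : x * x = 1) (h1 : x ≠ 1) : x = N := (sq_one x h).resolve_left h1

/-- The frame exists. -/
theorem exists_core {G : Type*} [Group G] [Finite G] (z : G) (hz : orderOf z = 2)
    (H₁ H₂ : Subgroup (centralizer ({z} : Set G))) (hn₁ : (H₁.subgroupOf (H₁ ⊔ H₂)).Normal)
    (hn₂ : (H₂.subgroupOf (H₁ ⊔ H₂)).Normal) (e₁ : H₁ ≃* SL) (e₂ : H₂ ≃* SL)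
    (hmeet : (H₁ ⊓ H₂).map (centralizer ({z} : Set G)).subtype = zpowers z)
    (Q : Subgroup (centralizer ({z} : Set G))) [hQn : Q.Normal]
    (hQ : Q = (Cfsg.pCore 2 ↥(H₁ ⊔ H₂)).map (H₁ ⊔ H₂).subtype)
    (hF : Cfsg.generalizedFittingSubgroup (centralizer ({z} : Set G)) = Q)
    (hH : Nat.card (centralizer ({z} : Set G)) = 2 ^ 7 * 3 ^ 2)
    (hQQg : ∀ g : G, g * z * g⁻¹ ∈ Q.map (centralizer ({z} : Set G)).subtype → g * z * g⁻¹ ≠ z →
      Nat.card ↥(Q.map (centralizer ({z} : Set G)).subtype ⊓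
        (Q.map (centralizer ({z} : Set G)).subtype).map (MulAut.conj g).toMonoidHom) = 4) :
    ∃ φ : SL × SL →* G, Core z φ ∧ Qm φ = Q.map (centralizer ({z} : Set G)).subtype := by
  have hz1 : z ≠ 1 := fun e => by rw [e, orderOf_one] at hz; omega
  have hz2 : z * z = 1 := by rw [← pow_two, ← hz]; exact pow_orderOf_eq_one z
  let ψ₁ : SL →* G := (centralizer ({z} : Set G)).subtype.comp (H₁.subtype.comp e₁.symm.toMonoidHom)
  let ψ₂ : SL →* G := (centralizer ({z} : Set G)).subtype.comp (H₂.subtype.comp e₂.symm.toMonoidHom)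
  have hinz : ∀ k : (centralizer ({z} : Set G)), k ∈ H₁ → k ∈ H₂ → (k : G) = 1 ∨ (k : G) = z := by
    intro k h1 h2
    have hk : (k : G) ∈ zpowers z := hmeet ▸ ⟨k, ⟨h1, h2⟩, rfl⟩
    obtain ⟨n, hn⟩ := mem_zpowers_iff.1 hk
    rw [← hn, ← zpow_mod_orderOf, hz]
    rcases Int.emod_two_eq n with e | e <;> rw [show ((2 : ℕ) : ℤ) = 2 from rfl, e] <;> simp
  have hnorm₁ : ∀ a ∈ H₁ ⊔ H₂, ∀ k ∈ H₁, a * k * a⁻¹ ∈ H₁ := fun a ha k hk =>
    hn₁.conj_mem ⟨k, le_sup_left (b := H₂) hk⟩ hk ⟨a, ha⟩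
  have hnorm₂ : ∀ a ∈ H₁ ⊔ H₂, ∀ k ∈ H₂, a * k * a⁻¹ ∈ H₂ := fun a ha k hk =>
    hn₂.conj_mem ⟨k, le_sup_right (a := H₁) hk⟩ hk ⟨a, ha⟩
  have hcomm : ∀ a b, Commute (ψ₁ a) (ψ₂ b) := by
    refine commute_of_meet ψ₁ ψ₂ hz2 (fun a b => ?_) fun a =>
      mem_centralizer_singleton_iff.1 ((e₁.symm a : H₁) : (centralizer ({z} : Set G))).2
    set x : (centralizer ({z} : Set G)) := ((e₁.symm a : H₁) : (centralizer ({z} : Set G))) with hx
    set y : (centralizer ({z} : Set G)) := ((e₂.symm b : H₂) : (centralizer ({z} : Set G))) with hy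
    have hx1 : x ∈ H₁ := (e₁.symm a).2
    have hy2 : y ∈ H₂ := (e₂.symm b).2
    refine hinz (x * y * x⁻¹ * y⁻¹) ?_ (H₂.mul_mem (hnorm₂ _ (le_sup_left (b := H₂) hx1) _ hy2)
      (H₂.inv_mem hy2))
    rw [show x * y * x⁻¹ * y⁻¹ = x * (y * x⁻¹ * y⁻¹) by group]
    exact H₁.mul_mem hx1 (hnorm₁ _ (le_sup_right (a := H₁) hy2) _ (H₁.inv_mem hx1))
  let φ : SL × SL →* G := ψ₁.noncommCoprod ψ₂ hcomm
  have φ_eq : ∀ p, φ p = ((e₁.symm p.1 : H₁) : (centralizer ({z} : Set G))) * ((e₂.symm p.2 : H₂) : (centralizer ({z} : Set G))) := fun p => rfl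
  have inj₁ : Function.Injective ψ₁ :=
    (centralizer ({z} : Set G)).subtype_injective.comp (H₁.subtype_injective.comp e₁.symm.injective)
  have inj₂ : Function.Injective ψ₂ :=
    (centralizer ({z} : Set G)).subtype_injective.comp (H₂.subtype_injective.comp e₂.symm.injective)
  obtain ⟨k0, ⟨hk1, hk2⟩, hk0⟩ : z ∈ (H₁ ⊓ H₂).map (centralizer ({z} : Set G)).subtype := hmeet ▸ mem_zpowers z
  have pz : ∀ (ψ : SL →* G) (a : SL), Function.Injective ψ → ψ a = z → ψ N = z := by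
    intro ψ a hi ha
    rwa [← invol_eq_N (hi (by rw [map_mul, ha, hz2, map_one]))
      fun e => hz1 (by rw [← ha, e, map_one])]
  have hN₁ : ψ₁ N = z := pz ψ₁ (e₁ ⟨k0, hk1⟩) inj₁ (by
    show (((e₁.symm (e₁ ⟨k0, hk1⟩)) : H₁) : (centralizer ({z} : Set G))).1 = z
    rw [e₁.symm_apply_apply]; exact hk0)
  have hN₂ : ψ₂ N = z := pz ψ₂ (e₂ ⟨k0, hk2⟩) inj₂ (by
    show (((e₂.symm (e₂ ⟨k0, hk2⟩)) : H₂) : (centralizer ({z} : Set G))).1 = z
    rw [e₂.symm_apply_apply]; exact hk0)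
  have hzN : φ (N, 1) = z := by
    show ψ₁ N * ψ₂ 1 = z
    rw [map_one, mul_one, hN₁]
  have hkerN : φ (N, N) = 1 := by
    show ψ₁ N * ψ₂ N = 1
    rw [hN₁, hN₂, hz2]
  have hker : ∀ p, φ p = 1 → p = 1 ∨ p = (N, N) := by
    intro p hp
    have h1 : ψ₁ p.1 = (ψ₂ p.2)⁻¹ := eq_inv_of_mul_eq_one_left hp
    have hm : ψ₁ p.1 = 1 ∨ ψ₁ p.1 = z := by
      refine hinz ((e₁.symm p.1 : H₁) : (centralizer ({z} : Set G))) (e₁.symm p.1).2 ?_
      rw [show ((e₁.symm p.1 : H₁) : (centralizer ({z} : Set G))) = ((e₂.symm p.2 : H₂) : (centralizer ({z} : Set G)))⁻¹ from Subtype.ext h1]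
      exact H₂.inv_mem (e₂.symm p.2).2
    rcases hm with e | e
    · left
      refine Prod.ext (inj₁ (e.trans (map_one ψ₁).symm)) (inj₂ ?_)
      rw [Prod.snd_one, map_one, ← inv_eq_one, ← h1, e]
    · right
      refine Prod.ext (inj₁ (e.trans hN₁.symm)) (inj₂ ?_)
      rw [hN₂, ← inv_inj, ← h1, e, inv_eq_of_mul_eq_one_right hz2]
  have φC : ∀ p, φ p ∈ (centralizer ({z} : Set G)) := fun p => (centralizer ({z} : Set G)).mul_mem ((e₁.symm p.1 : H₁) : (centralizer ({z} : Set G))).2 ((e₂.symm p.2 : H₂) : (centralizer ({z} : Set G))).2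
  let φ' : SL × SL →* (centralizer ({z} : Set G)) := φ.codRestrict (centralizer ({z} : Set G)) φC
  have φ'_mem : ∀ p, φ' p ∈ H₁ ⊔ H₂ := fun p => by
    rw [show φ' p = ((e₁.symm p.1 : H₁) : (centralizer ({z} : Set G))) * ((e₂.symm p.2 : H₂) : (centralizer ({z} : Set G))) from Subtype.ext rfl]
    exact mul_mem (le_sup_left (b := H₂) (e₁.symm p.1).2) (le_sup_right (a := H₁) (e₂.symm p.2).2)
  let χ : SL × SL →* ↥(H₁ ⊔ H₂) := φ'.codRestrict _ φ'_mem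
  have hsurj : Function.Surjective χ := by
    have hle : H₁ ⊔ H₂ ≤ φ'.range := by
      refine sup_le (fun k hk => ⟨(e₁ ⟨k, hk⟩, 1), Subtype.ext ?_⟩)
        (fun k hk => ⟨(1, e₂ ⟨k, hk⟩), Subtype.ext ?_⟩)
      · show (((e₁.symm (e₁ ⟨k, hk⟩)) : H₁) : (centralizer ({z} : Set G))).1 * ψ₂ 1 = k
        rw [e₁.symm_apply_apply, map_one, mul_one]
      · show ψ₁ 1 * (((e₂.symm (e₂ ⟨k, hk⟩)) : H₂) : (centralizer ({z} : Set G))).1 = k
        rw [e₂.symm_apply_apply, map_one, one_mul]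
    intro k
    obtain ⟨p, hp⟩ := hle k.2
    exact ⟨p, Subtype.ext hp⟩
  have hcore : Cfsg.pCore 2 ↥(H₁ ⊔ H₂) = Q8P.map χ := by
    refine le_antisymm (fun k hk => ?_) ?_
    · obtain ⟨p, rfl⟩ := hsurj k
      obtain ⟨n, hn⟩ := CfsgLib.Components.isPGroup_pCore 2 ⟨χ p, hk⟩
      have hn' : φ (p ^ 2 ^ n) = 1 := by
        rw [map_pow]
        exact congrArg (fun t : Cfsg.pCore 2 ↥(H₁ ⊔ H₂) => ((t.1 : (centralizer ({z} : Set G))) : G)) hn
      have h2 : (p ^ 2 ^ n) ^ 2 = 1 := by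
        rcases hker _ hn' with e | e <;> rw [e]
        · exact one_pow 2
        · rw [pow_two, Prod.mk_mul_mk, N_mul_self]; rfl
      rw [← pow_mul, ← pow_succ] at h2
      exact ⟨p, mem_Q8P.2 ⟨isUnit_two_pow (congrArg Prod.fst h2),
        isUnit_two_pow (congrArg Prod.snd h2)⟩, rfl⟩
    · have : (Q8P.map χ).Normal := Q8P_normal.map χ hsurj
      exact CfsgLib.Components.le_pCore (Q8P_pGroup.map χ)
  have hQm : Qm φ = Q.map (centralizer ({z} : Set G)).subtype := by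
    rw [hQ, hcore, Qm, Subgroup.map_map, Subgroup.map_map]
    rfl
  refine ⟨φ, ⟨hzN, hz1, hkerN, hker, hH.trans (by norm_num), ?_, ?_, hQm.symm ▸ hQQg⟩, hQm⟩
  · intro c hc x hx
    rw [hQm] at hx ⊢
    obtain ⟨k, hk, rfl⟩ := hx
    exact ⟨⟨c, mem_centralizer_singleton_iff.2 hc⟩ * k * ⟨c, mem_centralizer_singleton_iff.2 hc⟩⁻¹,
      hQn.conj_mem k hk _, rfl⟩
  · intro c hc hall
    rw [hQm] at hall ⊢
    have := CfsgLib.Components.centralizer_generalizedFitting_le_self (G := (centralizer ({z} : Set G)))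
    rw [hF] at this
    exact ⟨⟨c, mem_centralizer_singleton_iff.2 hc⟩, this (mem_centralizer_iff.2 fun k hk =>
      Subtype.ext (hall _ ⟨k, hk, rfl⟩).symm), rfl⟩

end CfsgLib.UFourType.Frame
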