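import Cfsg.Agent.UFourType.GenSat
import Cfsg.Agent.UFourType.Start

/-!
Generators of the centraliser of the involution of a group of `U₄(3)` type together with an element
interchanging it with a second involution.
-/

set_option autoImplicit false

namespace CfsgLib.UFourType

open Subgroup CfsgLib.CosetEnum CfsgLib.UFourType.Frame

/-- The hypotheses on the centraliser give generators satisfying the relators. -/
theorem exists_frame {G : Type*} [Group G] [Finite G] (z : G) (hz : orderOf z = 2)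
    (H₁ H₂ : Subgroup (centralizer ({z} : Set G))) (hn₁ : (H₁.subgroupOf (H₁ ⊔ H₂)).Normal)
    (hn₂ : (H₂.subgroupOf (H₁ ⊔ H₂)).Normal) (e₁ : H₁ ≃* SL) (e₂ : H₂ ≃* SL)
    (hmeet : (H₁ ⊓ H₂).map (centralizer ({z} : Set G)).subtype = zpowers z)
    (Q : Subgroup (centralizer ({z} : Set G))) [Q.Normal]
    (hQ : Q = (Cfsg.pCore 2 ↥(H₁ ⊔ H₂)).map (H₁ ⊔ H₂).subtype)
    (hF : Cfsg.generalizedFittingSubgroup (centralizer ({z} : Set G)) = Q)
    (hnwc : ∃ g : G, (∃ hq : g * z * g⁻¹ ∈ centralizer ({z} : Set G),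
      (⟨g * z * g⁻¹, hq⟩ : centralizer ({z} : Set G)) ∈ Q) ∧ g * z * g⁻¹ ≠ z)
    (hH : Nat.card (centralizer ({z} : Set G)) = 2 ^ 7 * 3 ^ 2)
    (hQQg : ∀ g : G, g * z * g⁻¹ ∈ Q.map (centralizer ({z} : Set G)).subtype → g * z * g⁻¹ ≠ z →
      Nat.card ↥(Q.map (centralizer ({z} : Set G)).subtype ⊓
        (Q.map (centralizer ({z} : Set G)).subtype).map (MulAut.conj g).toMonoidHom) = 4) :
    ∃ γ : ℕ → G, Sat γ (cRels ++ gRels) ∧ prodw γ zW = z ∧
      centralizer ({z} : Set G) ≤ cGroup γ := by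
  obtain ⟨φ₀, hc₀, hQm⟩ := exists_core z hz H₁ H₂ hn₁ hn₂ e₁ e₂ hmeet Q hQ hF hH hQQg
  obtain ⟨g0, ⟨hq, hqQ⟩, hne⟩ := hnwc
  have hm : g0 * z * g0⁻¹ ∈ Qm φ₀ := hQm ▸ ⟨_, hqQ, rfl⟩
  have hsq : g0 * z * g0⁻¹ * (g0 * z * g0⁻¹) = 1 := by
    rw [conj_mul, hc₀.z_mul_self, mul_one, mul_inv_cancel]
  obtain ⟨c, hc⟩ := hc₀.invol_conj hm hsq
    (fun e => hc₀.z_ne (conj_eq_one_iff.1 e)) hne
  obtain ⟨φ, hφ, hu, hQφ⟩ : ∃ φ : SL × SL →* G, Core z φ ∧ uu φ = g0 * z * g0⁻¹ ∧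
      Qm φ = Q.map (centralizer ({z} : Set G)).subtype := by
    refine ⟨φ₀.comp (MulAut.conj c).toMonoidHom, hc₀.twist c, ?_, ?_⟩
    · show φ₀ (c * (A, A) * c⁻¹) = _
      rw [map_mul, map_mul, map_inv, hc]
    · rw [← hQm, Qm, Qm, ← Subgroup.map_map]
      congr 1
      exact Subgroup.Normal.map_conj_eq Q8P c
  -- the other conjugate lies in `Q`
  have hg0 : ∀ x ∈ CQ φ, g0⁻¹ * x * g0 ∈ centralizer ({z} : Set G) := by
    intro x hx
    have e := (mem_CQ.1 hx).2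
    rw [hu] at e
    refine mem_centralizer_singleton_iff.2 ?_
    calc g0⁻¹ * x * g0 * z = g0⁻¹ * (x * (g0 * z * g0⁻¹)) * g0 := by group
      _ = z * (g0⁻¹ * x * g0) := by rw [e]; group
  let θ : CQ φ →* centralizer ({z} : Set G) :=
    { toFun := fun x => ⟨g0⁻¹ * x.1 * g0, hg0 x.1 x.2⟩
      map_one' := Subtype.ext (show g0⁻¹ * ((1 : CQ φ) : G) * g0 = 1 by simp)
      map_mul' := fun x y => Subtype.ext (show g0⁻¹ * ((x * y : CQ φ) : G) * g0 =
        g0⁻¹ * x.1 * g0 * (g0⁻¹ * y.1 * g0) by rw [Subgroup.coe_mul]; group) }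
  have hQcard : 32 ≤ Nat.card Q := by
    let f : Fin 4 × Fin 8 → Qm φ := fun t =>
      ⟨φ (([1, A, B, A * B] : List SL).getD t.1.1 1, q8List.getD t.2.1 1),
        mem_Qm.2 ⟨_, mem_Q8P.2 (by
          revert t
          decide +kernel), rfl⟩⟩
    have hf : Function.Injective f := by
      intro a b e
      have e' := hφ.eq_iff.1 (congrArg Subtype.val e)
      clear e
      revert e'
      revert a b
      decide +kernel
    have := Nat.card_le_card_of_injective f hf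
    rw [Nat.card_prod, Nat.card_fin, Nat.card_fin] at this
    rwa [hQφ, Subgroup.card_map_of_injective (Subgroup.subtype_injective _)] at this
  have hQ2 : IsPGroup 2 Q := by
    have : IsPGroup 2 (Qm φ) := Q8P_pGroup.map φ
    rw [hQφ] at this
    exact this.of_equiv (Q.equivMapOfInjective _ (Subgroup.subtype_injective _)).symm
  have hR2 : IsPGroup 2 ((QuotientGroup.mk' Q).comp θ).range := by
    have hCQ : IsPGroup 2 (CQ φ) := (Q8P_pGroup.map φ).to_le inf_le_left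
    exact hCQ.of_surjective _ (MonoidHom.rangeRestrict_surjective _)
  have hR4 : Nat.card ((QuotientGroup.mk' Q).comp θ).range ∣ 4 := by
    have : Fact (Nat.Prime 2) := ⟨Nat.prime_two⟩
    obtain ⟨k, hk⟩ := IsPGroup.iff_card.1 hR2
    obtain ⟨n, hn⟩ := IsPGroup.iff_card.1 hQ2
    have hmul := Subgroup.card_eq_card_quotient_mul_card_subgroup Q
    have hd := Subgroup.card_subgroup_dvd_card ((QuotientGroup.mk' Q).comp θ).range
    rw [hH, hn] at hmul
    rw [hk] at hd ⊢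
    have h5 : 5 ≤ n := by
      rw [hn] at hQcard
      exact (Nat.pow_le_pow_iff_right (by norm_num : 1 < 2)).1 (le_of_eq_of_le (by norm_num) hQcard)
    have hd2 : 2 ^ (k + n) ∣ 2 ^ 7 * 3 ^ 2 := by
      rw [hmul, pow_add]
      exact mul_dvd_mul_right hd _
    have hle : k + n ≤ 7 := by
      rw [← Nat.pow_dvd_pow_iff_le_right (x := 2) (by norm_num)]
      exact ((Nat.Coprime.pow _ _ (by norm_num : Nat.Coprime 2 3))).dvd_of_dvd_mul_right hd2
    exact pow_dvd_pow 2 (show k ≤ 2 by omega)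
  have hcomm : ∀ a b : ((QuotientGroup.mk' Q).comp θ).range, a * b = b * a := by
    intro a b
    rcases (Nat.dvd_prime_pow Nat.prime_two).1 (show _ ∣ 2 ^ 2 from hR4) with ⟨k, hk, hcard⟩
    have : Fact (Nat.Prime 2) := ⟨Nat.prime_two⟩
    interval_cases k
    · rw [(Nat.card_eq_one_iff_unique.1 hcard).1.elim a b]
    · have : IsCyclic ((QuotientGroup.mk' Q).comp θ).range :=
        isCyclic_of_prime_card (p := 2) (by simpa using hcard)
      exact IsCyclic.isMulCommutative.is_comm.comm a b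
    · exact (IsPGroup.isMulCommutative_of_card_eq_prime_sq (p := 2) hcard).is_comm.comm a b
  obtain ⟨v, hv⟩ : ∃ v, v = g0⁻¹ * z * g0 := ⟨_, rfl⟩
  have hgv : g0 * v * g0⁻¹ = z := by rw [hv]; group
  have hvm : v ∈ Qm φ := by
    have hi : φ (rep 1) ∈ CQ φ ∧ φ (rep 2) ∈ CQ φ := by
      refine ⟨?_, ?_⟩ <;> refine mem_CQ.2 ⟨mem_Qm.2 ⟨_, mem_Q8P.2 (rep_four _), rfl⟩, ?_⟩ <;>
        rw [← map_mul, ← map_mul, hφ.eq_iff] <;> decide +kernel
    let x : CQ φ := ⟨_, hi.1⟩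
    let y : CQ φ := ⟨_, hi.2⟩
    have hk : θ x * θ y * (θ x)⁻¹ * (θ y)⁻¹ ∈ Q := by
      have e := congrArg Subtype.val (hcomm ⟨_, x, rfl⟩ ⟨_, y, rfl⟩)
      rw [← QuotientGroup.eq_one_iff]
      change (QuotientGroup.mk' Q) _ = 1
      simp only [map_mul, map_inv]
      rw [show (QuotientGroup.mk' Q) (θ x) * (QuotientGroup.mk' Q) (θ y) =
        (QuotientGroup.mk' Q) (θ y) * (QuotientGroup.mk' Q) (θ x) from e]
      group
    rw [hQφ]
    refine ⟨_, hk, ?_⟩
    show g0⁻¹ * x.1 * g0 * (g0⁻¹ * y.1 * g0) * (g0⁻¹ * x.1 * g0)⁻¹ * (g0⁻¹ * y.1 * g0)⁻¹ = v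
    have e : x.1 * y.1 * x.1⁻¹ * y.1⁻¹ = z := by
      rw [← hφ.zN]
      simp only [x, y, ← map_inv, ← map_mul]
      exact congrArg φ (by decide +kernel)
    rw [hv, ← e]
    group
  have hv1 : v ≠ 1 := fun e => hφ.z_ne (by rw [← hgv, e]; group)
  have hvz : v ≠ z := fun e => hne (by rw [e] at hgv; exact hgv)
  have hv2 : v * v = 1 := by
    rw [hv, show g0⁻¹ * z * g0 * (g0⁻¹ * z * g0) = g0⁻¹ * (z * z) * g0 by group, hφ.z_mul_self,
      mul_one, inv_mul_cancel]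
  obtain ⟨c', hc'⟩ := hφ.invol_conj hvm hv2 hv1 hvz
  have hsw : Swap z φ (g0 * φ c') := by
    refine ⟨hφ, ?_, ?_⟩
    · calc g0 * φ c' * z * (g0 * φ c')⁻¹ = g0 * (φ c' * z * (φ c')⁻¹) * g0⁻¹ := by group
        _ = uu φ := by rw [hφ.z_comm, mul_inv_cancel_right, hu]
    · calc g0 * φ c' * uu φ * (g0 * φ c')⁻¹ = g0 * (φ c' * uu φ * (φ c')⁻¹) * g0⁻¹ := by group
        _ = z := by rw [hc', hgv]
  obtain ⟨g, hg, hg2⟩ := hsw.exists_invol
  obtain ⟨y, w, hgen⟩ := hg.gen_exists hg2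
  refine ⟨_, hgen.sat, ?_, ?_⟩
  · have : iE φ * iE φ = z := by
      rw [← map_mul, ← hφ.zN]; exact congrArg φ (by decide +kernel)
    simpa [prodw, zW, gens] using this
  · have hsat := hgen.sat.mono (R' := cRels) fun v hv => List.mem_append_left _ hv
    have hzW : prodw (gens (iE φ) (jE φ) (sE φ) y w g) zW = z := by
      have : iE φ * iE φ = z := by
        rw [← map_mul, ← hφ.zN]; exact congrArg φ (by decide +kernel)
      simpa [prodw, zW, gens] using this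
    refine (Subgroup.eq_of_le_of_card_ge ?_ ?_).ge
    · refine (Subgroup.closure_le _).2 ?_
      rintro _ ⟨k, hk, rfl⟩
      refine mem_centralizer_singleton_iff.2 ?_
      have hy : Commute y z := (show Commute z y from hgen.zy).symm
      have hw : Commute w z := (show Commute z w from hgen.zw).symm
      have hz' : ∀ p, Commute (φ p) z := hφ.z_comm
      change k < 10 at hk
      interval_cases k <;> simp only [gens]
      exacts [(hz' _).eq, (hz' _).inv_left.eq, (hz' _).eq, (hz' _).inv_left.eq, (hz' _).eq,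
        (hz' _).inv_left.eq, hy.eq, hy.inv_left.eq, hw.eq, hw.inv_left.eq]
    · rw [card_cGroup hsat (hzW.symm ▸ hφ.z_ne), hH]
      norm_num

end CfsgLib.UFourType
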