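import Cfsg.Agent.UFourType.Rels
import Cfsg.Agent.UFourType.CTable

/-!
The generators satisfy the relators.
-/

set_option autoImplicit false
set_option linter.unusedSectionVars false

namespace CfsgLib.UFourType.Frame

open CfsgLib.CosetEnum

variable {G : Type*} [Group G] {z : G} {φ : SL × SL →* G} {g y w : G}

namespace Gen

variable (h : Gen z φ g y w)
include h

theorem winv : w⁻¹ = w := inv_eq_of_mul_eq_one_right h.ww

theorem ginv : g⁻¹ = g := inv_eq_of_mul_eq_one_right h.gg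

theorem wk : w * jF φ * w = jE φ * z := by
  have e : jF φ = w * jE φ * w * z := by
    rw [h.wj, mul_assoc, h.core.z_mul_self, mul_one]
  rw [e]
  calc w * (w * jE φ * w * z) * w = (w * w) * jE φ * (w * (z * w)) := by group
    _ = jE φ * z := by rw [h.zw, ← mul_assoc w w z, h.ww]; group

theorem wl : w * iF φ * w = iE φ := by
  rw [← h.wi]
  calc w * (w * iE φ * w) * w = (w * w) * iE φ * (w * w) := by group
    _ = _ := by rw [h.ww, one_mul, mul_one]

/-- The conjugate of `s` by `w`. -/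
theorem s2_conj : ∀ p, (w * sE φ * w) * φ p * (w * sE φ * w)⁻¹ = w * (sE φ * (w * φ p * w) * (sE φ)⁻¹) * w := by
  intro p
  rw [mul_inv_rev, mul_inv_rev, h.winv]
  group

theorem s_comm : sE φ * (w * sE φ * w) = w * sE φ * w * sE φ := by
  have hz := h.core.z_comm
  have t3 : (w * sE φ * w) ^ 3 = 1 := by
    have : sE φ ^ 3 = 1 := by
      rw [← map_pow, show ((S, 1) : SL × SL) ^ 3 = 1 by decide +kernel, map_one]
    calc (w * sE φ * w) ^ 3 = (w * sE φ * w⁻¹) ^ 3 := by rw [h.winv]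
      _ = 1 := by rw [conj_pow, this, mul_one, mul_inv_cancel]
  have tz : w * sE φ * w * z = z * (w * sE φ * w) :=
    (((show Commute z w from h.zw).mul_right (show Commute (sE φ) z from hz (S, 1)).symm).mul_right
      (show Commute z w from h.zw)).symm.eq
  have tz' : sE φ * (w * sE φ * w) * (sE φ)⁻¹ * z = z * (sE φ * (w * sE φ * w) * (sE φ)⁻¹) :=
    (((show Commute (sE φ) z from hz (S, 1)).mul_left tz).mul_left (show Commute (sE φ) z from hz (S, 1)).inv_left).eq
  have fixE : ∀ a : SL, a ^ 4 = 1 → w * sE φ * w * φ (a, 1) * (w * sE φ * w)⁻¹ = φ (a, 1) := by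
    have gen : ∀ p, (p = ((A, 1) : SL × SL) ∨ p = (B, 1)) →
        w * sE φ * w * φ p * (w * sE φ * w)⁻¹ = φ p := by
      rintro p (rfl | rfl) <;> rw [h.s2_conj]
      · rw [h.wi, show sE φ * iF φ * (sE φ)⁻¹ = iF φ by
          rw [← map_inv, ← map_mul, ← map_mul]; exact congrArg φ (by decide +kernel), h.wl]
      · rw [h.wj, show sE φ * (jF φ * z) * (sE φ)⁻¹ = jF φ * z by
          rw [← h.core.zN, ← map_inv, ← map_mul, ← map_mul, ← map_mul]
          exact congrArg φ (by decide +kernel)]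
        rw [← h.wj]
        calc w * (w * jE φ * w) * w = (w * w) * jE φ * (w * w) := by group
          _ = _ := by rw [h.ww, one_mul, mul_one]
    intro a ha
    have hN : w * sE φ * w * φ (N, 1) * (w * sE φ * w)⁻¹ = φ (N, 1) := by
      rw [h.core.zN, tz, mul_inv_cancel_right]
    have hm : ∀ a b : SL, w * sE φ * w * φ (a, 1) * (w * sE φ * w)⁻¹ = φ (a, 1) →
        w * sE φ * w * φ (b, 1) * (w * sE φ * w)⁻¹ = φ (b, 1) →
        w * sE φ * w * φ (a * b, 1) * (w * sE φ * w)⁻¹ = φ (a * b, 1) := by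
      intro a b ea eb
      rw [show ((a * b, 1) : SL × SL) = (a, 1) * (b, 1) by simp, map_mul, ← conj_mul, ea, eb]
    have hA := gen _ (Or.inl rfl)
    have hB := gen _ (Or.inr rfl)
    have hm' := mem_q8List a ha
    simp only [q8List, List.mem_cons, List.not_mem_nil, or_false] at hm'
    rcases hm' with rfl | rfl | rfl | rfl | rfl | rfl | rfl | rfl
    · rw [show ((1, 1) : SL × SL) = 1 from rfl, map_one, mul_one, mul_inv_cancel]
    exacts [hN, hA, hm _ _ hA hN, hB, hm _ _ hB hN, hm _ _ hA hB, hm _ _ (hm _ _ hA hB) hN]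
  have t3' : (sE φ * (w * sE φ * w) * (sE φ)⁻¹) ^ 3 = 1 := by
    rw [conj_pow, t3, mul_one, mul_inv_cancel]
  have := h.core.eq_of_action tz' tz t3' t3 fun p hp => ?_
  · exact mul_inv_eq_iff_eq_mul.1 this
  obtain ⟨a, b, ha, rfl⟩ : ∃ a b : SL, a ^ 4 = 1 ∧ p = (a, b) := ⟨p.1, p.2, by
    revert hp; revert p; decide +kernel, rfl⟩
  have key : ∀ x, sE φ * (w * sE φ * w) * (sE φ)⁻¹ * x * (sE φ * (w * sE φ * w) * (sE φ)⁻¹)⁻¹ =
      sE φ * ((w * sE φ * w) * ((sE φ)⁻¹ * x * sE φ) * (w * sE φ * w)⁻¹) * (sE φ)⁻¹ := fun x => by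
    group
  rw [key]
  simp only [List.mem_cons, List.not_mem_nil, or_false] at hp
  have c1 : ∀ b : SL, (sE φ)⁻¹ * φ (1, b) * sE φ = φ (1, b) := fun b => by
    rw [← map_inv, ← map_mul, ← map_mul]; exact congrArg φ (by simp)
  have c2 : ∀ a : SL, a ^ 4 = 1 →
      sE φ * (w * sE φ * w * ((sE φ)⁻¹ * φ (a, 1) * sE φ) * (w * sE φ * w)⁻¹) * (sE φ)⁻¹ =
        φ (a, 1) := fun a ha => by
    have e : (sE φ)⁻¹ * φ (a, 1) * sE φ = φ (S⁻¹ * a * S, 1) := by
      rw [← map_inv, ← map_mul, ← map_mul]; exact congrArg φ (by simp)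
    rw [e, fixE _ (by
      have : (S⁻¹ * a * S) = S⁻¹ * a * S⁻¹⁻¹ := by rw [inv_inv]
      rw [this, conj_pow, ha, mul_one, mul_inv_cancel]), ← map_inv, ← map_mul, ← map_mul]
    exact congrArg φ (by simp [mul_assoc])
  have c3 : ∀ x : G, (∃ b : SL, φ (1, b) = x) → sE φ * x * (sE φ)⁻¹ = x := by
    rintro x ⟨b, rfl⟩
    rw [← map_inv, ← map_mul, ← map_mul]; exact congrArg φ (by simp)
  rcases hp with e | e | e | e <;> obtain ⟨rfl, rfl⟩ := Prod.mk.inj e
  · rw [c2 _ (by decide +kernel), fixE _ (by decide +kernel)]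
  · rw [c2 _ (by decide +kernel), fixE _ (by decide +kernel)]
  · rw [c1]
    refine c3 _ ⟨B⁻¹, ?_⟩
    rw [h.s2_conj, h.wl, show sE φ * iE φ * (sE φ)⁻¹ = jE φ by
      rw [← map_inv, ← map_mul, ← map_mul]; exact congrArg φ (by decide +kernel), h.wj,
      ← h.core.zN', ← map_mul]
    exact congrArg φ (by decide +kernel)
  · rw [c1]
    refine c3 _ ⟨A * B, ?_⟩
    rw [h.s2_conj, h.wk, show sE φ * (jE φ * z) * (sE φ)⁻¹ = iE φ * jE φ * z by
      rw [← h.core.zN, ← map_inv, ← map_mul, ← map_mul, ← map_mul, ← map_mul, ← map_mul]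
      exact congrArg φ (by decide +kernel)]
    calc φ (1, A * B) = iF φ * (jF φ * z) * z := by
          rw [← h.core.zN', ← map_mul, ← map_mul, ← map_mul]; exact congrArg φ (by decide +kernel)
      _ = (w * iE φ * w) * (w * jE φ * w) * z := by rw [h.wi, h.wj]
      _ = w * iE φ * (w * w) * jE φ * (w * z) := by group
      _ = w * (iE φ * jE φ * z) * w := by rw [h.ww, mul_one, ← h.zw]; group

theorem y_s : y * sE φ * y⁻¹ = (sE φ)⁻¹ * iE φ := by
  have hz := h.core.z_comm
  have cy : Commute y z := (show Commute z y from h.zy).symm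
  have cs : Commute (sE φ) z := hz (S, 1)
  have t3 : (y * sE φ * y⁻¹) ^ 3 = 1 := by
    rw [conj_pow, ← map_pow, show ((S, 1) : SL × SL) ^ 3 = 1 by decide +kernel, map_one, mul_one,
      mul_inv_cancel]
  have t3' : ((sE φ)⁻¹ * iE φ) ^ 3 = 1 := by
    rw [← map_inv, ← map_mul, ← map_pow, ← map_one φ]
    exact congrArg φ (by decide +kernel)
  refine h.core.eq_of_action (cy.mul_left cs |>.mul_left cy.inv_left).eq
    (cs.inv_left.mul_left (hz (A, 1))).eq t3 t3' fun p hp => ?_
  have key : ∀ x, y * sE φ * y⁻¹ * x * (y * sE φ * y⁻¹)⁻¹ =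
      y * (sE φ * (y⁻¹ * x * y) * (sE φ)⁻¹) * y⁻¹ := fun x => by group
  have yi : y⁻¹ * iE φ * y = iE φ := by
    conv_lhs => rw [← h.iy]
    group
  rw [key]
  simp only [List.mem_cons, List.not_mem_nil, or_false] at hp
  have c3 : ∀ b : SL, sE φ * φ (1, b) * (sE φ)⁻¹ = φ (1, b) := fun b => by
    rw [← map_inv, ← map_mul, ← map_mul]; exact congrArg φ (by simp)
  rcases hp with rfl | rfl | rfl | rfl
  · rw [yi, show sE φ * iE φ * (sE φ)⁻¹ = jE φ by
      rw [← map_inv, ← map_mul, ← map_mul]; exact congrArg φ (by decide +kernel), h.yj]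
    simp only [← map_inv, ← map_mul]
    exact congrArg φ (by decide +kernel)
  · rw [h.yj', show sE φ * (iE φ * jE φ * z) * (sE φ)⁻¹ = (iE φ)⁻¹ by
      rw [← h.core.zN]
      simp only [← map_inv, ← map_mul]
      exact congrArg φ (by decide +kernel), ← conj_inv, h.iy]
    simp only [← map_inv, ← map_mul]
    exact congrArg φ (by decide +kernel)
  · have e : iF φ = (iE φ)⁻¹ * uu φ := by
      simp only [← map_inv, ← map_mul]
      exact congrArg φ (by decide +kernel)
    have e1 : y⁻¹ * iF φ * y = iF φ := by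
      rw [e]
      calc y⁻¹ * ((iE φ)⁻¹ * uu φ) * y = (y⁻¹ * iE φ * y)⁻¹ * (y⁻¹ * uu φ * y) := by group
        _ = _ := by rw [yi, ← h.yy]; group
    rw [e1, c3]
    have e2 : y * iF φ * y⁻¹ = iF φ := by
      conv_lhs => rw [← e1]
      group
    refine e2.trans ?_
    simp only [← map_inv, ← map_mul]
    exact congrArg φ (by decide +kernel)
  · have e1 : ∀ b : SL, y⁻¹ * jF φ * y = φ (1, b) →
        y * (sE φ * (y⁻¹ * jF φ * y) * (sE φ)⁻¹) * y⁻¹ = jF φ := by
      intro b e
      rw [e, c3, ← e]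
      group
    rcases h.yk with e | e <;>
    · rw [e1 _ e]
      simp only [← map_inv, ← map_mul]
      exact congrArg φ (by decide +kernel)

/-- The value of the word `uW`. -/
theorem u_word : (iE φ)⁻¹ * (w * (iE φ * (w * (iE φ * iE φ)))) = uu φ := by
  calc (iE φ)⁻¹ * (w * (iE φ * (w * (iE φ * iE φ))))
      = (iE φ)⁻¹ * (w * iE φ * w) * (iE φ * iE φ) := by group
    _ = _ := by
      rw [h.wi]
      simp only [← map_inv, ← map_mul]
      exact congrArg φ (by decide +kernel)

/-- The generators satisfy all relators of the centraliser and of `g`. -/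
theorem sat : Sat (gens (iE φ) (jE φ) (sE φ) y w g) (cRels ++ gRels) := by
  have ii : iE φ * iE φ = z := by
    rw [← map_mul, ← h.core.zN]; exact congrArg φ (by decide +kernel)
  have uinv : (iE φ)⁻¹ * ((iE φ)⁻¹ * (w * ((iE φ)⁻¹ * (w * iE φ)))) = (uu φ)⁻¹ := by
    rw [← h.u_word]
    simp only [mul_inv_rev, inv_inv, h.winv, mul_assoc]
  refine Sat.of_gens fun v hv => ?_
  simp only [cRels, gRels, List.cons_append, List.nil_append, List.mem_cons, List.not_mem_nil,
    or_false] at hv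
  have wcw : ∀ a b : G, Commute a b → a * (b * (a⁻¹ * b⁻¹)) = 1 := fun a b e => by
    rw [← mul_assoc, e.eq]; group
  rcases hv with rfl | rfl | rfl | rfl | rfl | rfl | rfl | rfl | rfl | rfl | rfl | rfl | rfl |
    rfl | rfl | rfl | rfl | rfl | rfl | rfl | rfl | rfl | rfl | rfl | rfl | rfl <;>
    simp only [prodw, gens, List.map_cons, List.map_nil, List.prod_cons, List.prod_nil, mul_one]
  -- pure identities of `SL(2, 3) × SL(2, 3)` are closed by computation
  all_goals
    first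
      | (simp only [← map_inv, ← map_mul]; rw [← map_one φ]; exact congrArg φ (by decide +kernel))
      | skip
  · exact h.ww
  · rw [← mul_assoc, ← mul_assoc, h.iy, mul_inv_cancel]
  · rw [show y * (jE φ * (y⁻¹ * ((jE φ)⁻¹ * (iE φ)⁻¹))) =
      y * jE φ * y⁻¹ * (iE φ * jE φ)⁻¹ by group, h.yj, mul_inv_cancel]
  · rw [show y * (sE φ * (y⁻¹ * ((iE φ)⁻¹ * sE φ))) =
      y * sE φ * y⁻¹ * ((sE φ)⁻¹ * iE φ)⁻¹ by group, h.y_s, mul_inv_cancel]
  · rw [show iE φ * (iE φ * (y * ((iE φ)⁻¹ * ((iE φ)⁻¹ * y⁻¹)))) =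
      iE φ * iE φ * y * (iE φ * iE φ)⁻¹ * y⁻¹ by group, ii, h.zy]; group
  · rw [show iE φ * (iE φ * (w * ((iE φ)⁻¹ * ((iE φ)⁻¹ * w⁻¹)))) =
      iE φ * iE φ * w * (iE φ * iE φ)⁻¹ * w⁻¹ by group, ii, h.zw]; group
  · rw [h.winv, uinv, ← mul_assoc, h.yy, mul_inv_cancel]
  · have : Commute (iE φ) (w * iE φ * w) := by
      rw [h.wi, Commute, SemiconjBy, ← map_mul, ← map_mul]; exact congrArg φ (by decide +kernel)
    have := wcw _ _ this
    simp only [mul_inv_rev, h.winv, mul_assoc] at this ⊢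
    exact this
  · have : Commute (iE φ) (w * jE φ * w) := by
      rw [h.wj, ← h.core.zN, Commute, SemiconjBy]
      simp only [← map_mul]; exact congrArg φ (by decide +kernel)
    have := wcw _ _ this
    simp only [mul_inv_rev, h.winv, mul_assoc] at this ⊢
    exact this
  · have : Commute (jE φ) (w * jE φ * w) := by
      rw [h.wj, ← h.core.zN, Commute, SemiconjBy]
      simp only [← map_mul]; exact congrArg φ (by decide +kernel)
    have := wcw _ _ this
    simp only [mul_inv_rev, h.winv, mul_assoc] at this ⊢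
    exact this
  · have : Commute (sE φ) (w * iE φ * w) := by
      rw [h.wi, Commute, SemiconjBy, ← map_mul, ← map_mul]; exact congrArg φ (by decide +kernel)
    have := wcw _ _ this
    simp only [mul_inv_rev, h.winv, mul_assoc] at this ⊢
    exact this
  · have : Commute (sE φ) (w * jE φ * w) := by
      rw [h.wj, ← h.core.zN, Commute, SemiconjBy]
      simp only [← map_mul]; exact congrArg φ (by decide +kernel)
    have := wcw _ _ this
    simp only [mul_inv_rev, h.winv, mul_assoc] at this ⊢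
    exact this
  · have := wcw _ _ (show Commute (sE φ) (w * sE φ * w) from h.s_comm)
    simp only [mul_inv_rev, h.winv, mul_assoc] at this ⊢
    exact this
  · have yw : y * w * y⁻¹ * w⁻¹ = uu φ := by
      have e1 : iE φ * fE φ * (iE φ)⁻¹ * (fE φ)⁻¹ = z := by
        rw [← h.core.zN]; simp only [← map_inv, ← map_mul]; exact congrArg φ (by decide +kernel)
      calc y * w * y⁻¹ * w⁻¹ = g * (iE φ * fE φ * (iE φ)⁻¹ * (fE φ)⁻¹) * g := by
            simp only [h.y_def, h.w_def, mul_inv_rev, h.ginv]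
            calc _ = g * iE φ * (g * g) * fE φ * (g * g) * (iE φ)⁻¹ * (g * g) * (fE φ)⁻¹ * g := by
                  group
              _ = _ := by rw [h.gg]; group
        _ = uu φ := by rw [e1, h.gz]
    have : y * (w * (y⁻¹ * (w⁻¹ * (uu φ)⁻¹))) = 1 := by
      rw [show y * (w * (y⁻¹ * (w⁻¹ * (uu φ)⁻¹))) = y * w * y⁻¹ * w⁻¹ * (uu φ)⁻¹ by group, yw,
        mul_inv_cancel]
    rw [← uinv] at this
    simp only [h.winv] at this ⊢
    exact this
  · exact h.gg
  · rw [show g * (iE φ * (g * y⁻¹)) = g * iE φ * g * y⁻¹ by group, ← h.y_def, mul_inv_cancel]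
  · have e : jE φ * (w * jE φ * w) * (iE φ * iE φ) = fE φ := by
      rw [h.wj, ← h.core.zN]; simp only [← map_mul]; exact congrArg φ (by decide +kernel)
    rw [show g * (jE φ * (w * (jE φ * (w * (iE φ * (iE φ * (g * w⁻¹))))))) =
      g * (jE φ * (w * jE φ * w) * (iE φ * iE φ)) * g * w⁻¹ by group, e, ← h.w_def, mul_inv_cancel]
  · rw [h.winv, uinv, show g * (iE φ * (iE φ * (g * (uu φ)⁻¹))) =
      g * (iE φ * iE φ) * g * (uu φ)⁻¹ by group, ii, h.gz, mul_inv_cancel]
  · rw [← h.cube]; group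

end Gen

end CfsgLib.UFourType.Frame
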