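import Cfsg.Agent.UFourType.Core

/-!
The centraliser of the four group `⟨z, u⟩`: its elements are `p * (g q g⁻¹) * e`.
-/

set_option autoImplicit false
set_option linter.unusedSectionVars false

namespace CfsgLib.UFourType.Frame

open Subgroup

variable {G : Type*} [Group G]

/-- The second involution. -/
abbrev uu (φ : SL × SL →* G) : G := φ (A, A)

/-- An element interchanging `z` and `u`. -/
structure Swap (z : G) (φ : SL × SL →* G) (g : G) : Prop where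
  core : Core z φ
  gz : g * z * g⁻¹ = uu φ
  gu : g * uu φ * g⁻¹ = z

/-- The elements of `⟨z, u⟩`. -/
def InE (φ : SL × SL →* G) (x : G) : Prop := ∃ k : Fin 4, φ (er k) = x

/-- The centraliser of `u` in `Qm`. -/
def CQ (φ : SL × SL →* G) : Subgroup G := Qm φ ⊓ centralizer ({uu φ} : Set G)

/-- The centraliser of `z` and `u`. -/
def CE (z : G) (φ : SL × SL →* G) : Subgroup G :=
  centralizer ({z} : Set G) ⊓ centralizer ({uu φ} : Set G)

theorem mem_CQ {φ : SL × SL →* G} {x : G} : x ∈ CQ φ ↔ x ∈ Qm φ ∧ x * uu φ = uu φ * x := by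
  rw [CQ, mem_inf, mem_centralizer_singleton_iff]

theorem mem_CE {z : G} {φ : SL × SL →* G} {x : G} :
    x ∈ CE z φ ↔ x * z = z * x ∧ x * uu φ = uu φ * x := by
  rw [CE, mem_inf, mem_centralizer_singleton_iff, mem_centralizer_singleton_iff]

/-- `x` is `p * (g q g⁻¹)` up to an element of `⟨z, u⟩`. -/
def Dec (φ : SL × SL →* G) (g x p q : G) : Prop :=
  p ∈ CQ φ ∧ q ∈ CQ φ ∧ ∃ e, InE φ e ∧ x = p * (g * q * g⁻¹) * e

namespace Swap

variable {z : G} {φ : SL × SL →* G} {g : G} (h : Swap z φ g)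
include h

theorem u_mem : uu φ ∈ Qm φ := mem_Qm.2 ⟨(A, A), mem_Q8P.2 (er_four 2), rfl⟩

theorem u_z : uu φ * z = z * uu φ := h.core.z_comm _

theorem u_mul_self : uu φ * uu φ = 1 := by
  rw [← map_mul, show ((A, A) : SL × SL) * (A, A) = (N, N) by decide +kernel, h.core.kerN]

theorem u_ne_one : uu φ ≠ 1 := fun e =>
  absurd (h.core.ker _ e) (by decide +kernel)

theorem u_ne_z : uu φ ≠ z := fun e => by
  rw [← h.core.zN, h.core.eq_iff] at e
  exact absurd e (by decide +kernel)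

theorem uz_mem : uu φ * z = φ (er 3) := by
  rw [← h.core.zN, ← map_mul]
  exact congrArg φ (by decide +kernel)

theorem InE_one : InE φ (1 : G) := ⟨0, map_one φ⟩

theorem InE_z : InE φ z := ⟨1, h.core.zN⟩

theorem InE_u : InE φ (uu φ) := ⟨2, rfl⟩

theorem InE_uz : InE φ (uu φ * z) := ⟨3, h.uz_mem.symm⟩

theorem InE_cases {x : G} (hx : InE φ x) : x = 1 ∨ x = z ∨ x = uu φ ∨ x = uu φ * z := by
  obtain ⟨k, rfl⟩ := hx
  fin_cases k
  · exact Or.inl (map_one φ)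
  · exact Or.inr (Or.inl h.core.zN)
  · exact Or.inr (Or.inr (Or.inl rfl))
  · exact Or.inr (Or.inr (Or.inr h.uz_mem.symm))

theorem InE_mul {x y : G} (hx : InE φ x) (hy : InE φ y) : InE φ (x * y) := by
  obtain ⟨k, rfl⟩ := hx
  obtain ⟨l, rfl⟩ := hy
  obtain ⟨m, e | e⟩ := er_mul k l
  · exact ⟨m, by rw [← map_mul, e]⟩
  · exact ⟨m, by rw [← map_mul, e, h.core.map_NN]⟩

theorem InE_sq {x : G} (hx : InE φ x) : x * x = 1 := by
  rcases h.InE_cases hx with rfl | rfl | rfl | rfl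
  · exact one_mul 1
  · exact h.core.z_mul_self
  · exact h.u_mul_self
  · calc uu φ * z * (uu φ * z) = uu φ * (z * uu φ) * z := by simp only [mul_assoc]
      _ = uu φ * uu φ * (z * z) := by rw [← h.u_z]; simp only [mul_assoc]
      _ = 1 := by rw [h.u_mul_self, h.core.z_mul_self, one_mul]

theorem InE_inv {x : G} (hx : InE φ x) : InE φ x⁻¹ := by
  rwa [inv_eq_of_mul_eq_one_right (h.InE_sq hx)]

theorem InE_comm {x e : G} (hx : x ∈ CE z φ) (he : InE φ e) : Commute x e := by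
  obtain ⟨h1, h2⟩ := mem_CE.1 hx
  rcases h.InE_cases he with rfl | rfl | rfl | rfl
  · exact Commute.one_right x
  · exact h1
  · exact h2
  · exact Commute.mul_right h2 h1

theorem InE_conj_g {e : G} (he : InE φ e) : InE φ (g * e * g⁻¹) := by
  rcases h.InE_cases he with rfl | rfl | rfl | rfl
  · rw [mul_one, mul_inv_cancel]; exact h.InE_one
  · rw [h.gz]; exact h.InE_u
  · rw [h.gu]; exact h.InE_z
  · rw [← conj_mul, h.gz, h.gu, ← h.u_z]; exact h.InE_uz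

theorem InE_conj_g' {e : G} (he : InE φ e) : InE φ (g⁻¹ * e * g) := by
  have h1 : g⁻¹ * z * g = uu φ := by rw [← h.gu]; group
  have h2 : g⁻¹ * uu φ * g = z := by rw [← h.gz]; group
  rcases h.InE_cases he with rfl | rfl | rfl | rfl
  · rw [mul_one, inv_mul_cancel]; exact h.InE_one
  · rw [h1]; exact h.InE_u
  · rw [h2]; exact h.InE_z
  · rw [show g⁻¹ * (uu φ * z) * g = g⁻¹ * uu φ * g * (g⁻¹ * z * g) by group, h1, h2, ← h.u_z]
    exact h.InE_uz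

theorem InE_mem_CQ {e : G} (he : InE φ e) : e ∈ CQ φ := by
  obtain ⟨k, rfl⟩ := he
  refine mem_CQ.2 ⟨mem_Qm.2 ⟨er k, mem_Q8P.2 (er_four k), rfl⟩, ?_⟩
  rw [← map_mul, ← map_mul, er_comm_q8 k]

theorem mem_E [Finite G] {x : G} (hx : x ∈ Qm φ) (hx' : g⁻¹ * x * g ∈ Qm φ) : InE φ x := by
  have hK := h.core.qqg g (h.gz.symm ▸ h.u_mem) (fun e => h.u_ne_z (h.gz.symm.trans e))
  set K := Qm φ ⊓ (Qm φ).map (MulAut.conj g).toMonoidHom
  have hmemK : ∀ y, y ∈ Qm φ → g⁻¹ * y * g ∈ Qm φ → y ∈ K := fun y hy hy' =>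
    mem_inf.2 ⟨hy, ⟨g⁻¹ * y * g, hy', by simp [mul_assoc]⟩⟩
  have hEK : ∀ k : Fin 4, φ (er k) ∈ K := fun k => by
    refine hmemK _ ((mem_CQ.1 (h.InE_mem_CQ ⟨k, rfl⟩)).1) ?_
    have hg : g⁻¹ * z * g = uu φ ∧ g⁻¹ * uu φ * g = z := by
      refine ⟨?_, ?_⟩
      · rw [← h.gu]; group
      · rw [← h.gz]; group
    rcases h.InE_cases ⟨k, rfl⟩ with e | e | e | e <;> rw [e]
    · rw [mul_one, inv_mul_cancel]; exact (Qm φ).one_mem
    · rw [hg.1]; exact h.u_mem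
    · rw [hg.2]; exact h.core.z_mem
    · rw [show g⁻¹ * (uu φ * z) * g = (g⁻¹ * uu φ * g) * (g⁻¹ * z * g) by group, hg.1, hg.2]
      exact (Qm φ).mul_mem h.core.z_mem h.u_mem
  let f : Fin 4 → K := fun k => ⟨φ (er k), hEK k⟩
  have finj : Function.Injective f := fun k l e =>
    er_injective k l (h.core.eq_iff.1 (congrArg Subtype.val e))
  have fbij : Function.Bijective f :=
    (Nat.bijective_iff_injective_and_card f).2 ⟨finj, by rw [hK, Nat.card_fin]⟩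
  obtain ⟨k, hk⟩ := fbij.2 ⟨x, hmemK x hx hx'⟩
  exact ⟨k, congrArg Subtype.val hk⟩

theorem InE_of_both [Finite G] {p q : G} (hp : p ∈ CQ φ) (hq : q ∈ CQ φ)
    (e : InE φ (p⁻¹ * (g * q * g⁻¹))) : InE φ p ∧ InE φ q := by
  have h1 : p * (p⁻¹ * (g * q * g⁻¹)) = g * q * g⁻¹ := by group
  have hq' : InE φ (g * q * g⁻¹) := by
    refine h.mem_E ?_ (by rw [show g⁻¹ * (g * q * g⁻¹) * g = q by group]; exact (mem_CQ.1 hq).1)
    rw [← h1]
    exact (Qm φ).mul_mem (mem_CQ.1 hp).1 (mem_CQ.1 (h.InE_mem_CQ e)).1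
  refine ⟨?_, ?_⟩
  · have := h.InE_mul hq' (h.InE_inv e)
    rwa [show g * q * g⁻¹ * (p⁻¹ * (g * q * g⁻¹))⁻¹ = p by group] at this
  · have := h.InE_conj_g' hq'
    rwa [show g⁻¹ * (g * q * g⁻¹) * g = q by group] at this

theorem dec_unique [Finite G] {x p q p' q' : G} (h1 : Dec φ g x p q) (h2 : Dec φ g x p' q') :
    InE φ (p⁻¹ * p') ∧ InE φ (q⁻¹ * q') := by
  obtain ⟨hp, hq, e, he, rfl⟩ := h1
  obtain ⟨hp', hq', e', he', eq⟩ := h2
  have hqq : q * q'⁻¹ ∈ CQ φ := (CQ φ).mul_mem hq ((CQ φ).inv_mem hq')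
  have hpp : p⁻¹ * p' ∈ CQ φ := (CQ φ).mul_mem ((CQ φ).inv_mem hp) hp'
  have hce : g * q' * g⁻¹ ∈ CE z φ := by
    obtain ⟨hm, hu⟩ := mem_CQ.1 hq'
    obtain ⟨a, -, rfl⟩ := mem_Qm.1 hm
    refine mem_CE.2 ⟨?_, ?_⟩
    · conv_lhs => rw [← h.gu]
      conv_rhs => rw [← h.gu]
      rw [conj_mul, conj_mul, hu]
    · conv_lhs => rw [← h.gz]
      conv_rhs => rw [← h.gz]
      rw [conj_mul, conj_mul, h.core.z_comm a]
  have h3 : (p⁻¹ * p')⁻¹ * (g * (q * q'⁻¹) * g⁻¹) = e' * e⁻¹ := by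
    calc (p⁻¹ * p')⁻¹ * (g * (q * q'⁻¹) * g⁻¹)
        = p'⁻¹ * (p * (g * q * g⁻¹) * e) * e⁻¹ * (g * q' * g⁻¹)⁻¹ := by group
      _ = (g * q' * g⁻¹) * (e' * e⁻¹) * (g * q' * g⁻¹)⁻¹ := by rw [eq]; group
      _ = e' * e⁻¹ := by
          rw [(h.InE_comm hce (h.InE_mul he' (h.InE_inv he))).eq, mul_inv_cancel_right]
  obtain ⟨a, b⟩ := h.InE_of_both hpp hqq (h3.symm ▸ h.InE_mul he' (h.InE_inv he))
  refine ⟨a, ?_⟩
  have hcomm : Commute q (q * q'⁻¹) := by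
    obtain ⟨hm, hu⟩ := mem_CQ.1 hq
    obtain ⟨c, -, rfl⟩ := mem_Qm.1 hm
    exact h.InE_comm (mem_CE.2 ⟨h.core.z_comm c, hu⟩) b
  have : q⁻¹ * q' = (q * q'⁻¹)⁻¹ := by
    rw [mul_inv_rev, inv_inv]
    have e2 := hcomm.inv_right.eq
    rw [mul_inv_rev, inv_inv] at e2
    calc q⁻¹ * q' = q⁻¹ * (q * (q' * q⁻¹)) := by rw [e2]; group
      _ = q' * q⁻¹ := by group
  rw [this]
  exact h.InE_inv b

end Swap

end CfsgLib.UFourType.Frame
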