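import Cfsg.Agent.UFourType.Decomp

/-!
The relations between the generators `i, j, s, y = g i g, w = g f g`.
-/

set_option autoImplicit false
set_option linter.unusedSectionVars false

namespace CfsgLib.UFourType.Frame

variable {G : Type*} [Group G]

/-- The first quaternion generator. -/
abbrev iE (φ : SL × SL →* G) : G := φ (A, 1)

/-- The second quaternion generator. -/
abbrev jE (φ : SL × SL →* G) : G := φ (B, 1)

/-- The first quaternion generator on the other side. -/
abbrev iF (φ : SL × SL →* G) : G := φ (1, A)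

/-- The second quaternion generator on the other side. -/
abbrev jF (φ : SL × SL →* G) : G := φ (1, B)

/-- The element of order three. -/
abbrev sE (φ : SL × SL →* G) : G := φ (S, 1)

/-- The element `f`. -/
abbrev fE (φ : SL × SL →* G) : G := φ (B, B)

/-- What the relators of the centraliser need. -/
structure Gen (z : G) (φ : SL × SL →* G) (g y w : G) : Prop where
  core : Core z φ
  gg : g * g = 1
  gz : g * z * g = uu φ
  cube : g * jE φ * (g * jE φ) * (g * jE φ) = 1
  y_def : y = g * iE φ * g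
  w_def : w = g * fE φ * g
  yy : y * y = uu φ
  ww : w * w = 1
  zy : z * y = y * z
  zw : z * w = w * z
  iy : y * iE φ * y⁻¹ = iE φ
  yj : y * jE φ * y⁻¹ = iE φ * jE φ
  yj' : y⁻¹ * jE φ * y = iE φ * jE φ * z
  yk : y⁻¹ * jF φ * y = φ (1, A * B) ∨ y⁻¹ * jF φ * y = φ (1, A * B * N)
  wi : w * iE φ * w = iF φ
  wj : w * jE φ * w = jF φ * z

namespace Swap

open Subgroup

variable [Finite G] {z : G} {φ : SL × SL →* G} {g : G} (h : Swap z φ g) (hg : g * g = 1)
include h hg

theorem ginv : g⁻¹ = g := inv_eq_of_mul_eq_one_right hg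

theorem gmul (a b : G) : g * (a * b) * g = g * a * g * (g * b * g) := by
  calc g * (a * b) * g = g * a * (g * g) * b * g := by rw [hg]; group
    _ = _ := by group

theorem ginvol (a : G) : g * (g * a * g) * g = a := by
  calc g * (g * a * g) * g = (g * g) * a * (g * g) := by group
    _ = a := by rw [hg, one_mul, mul_one]

theorem gen_exists : ∃ y w, Gen z φ g y w := by
  have hz := h.core.z_mul_self
  have huu := h.u_mul_self
  have huz := h.u_z
  have gz : g * z * g = uu φ := by
    have := h.gz; rwa [h.ginv hg] at this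
  have gu : g * uu φ * g = z := by
    have := h.gu; rwa [h.ginv hg] at this
  -- facts inside the frame
  have dd : ∀ {p q r : SL × SL}, p * q = r → φ p * φ q = φ r := fun e => by rw [← map_mul, e]
  have ii : iE φ * iE φ = z := (dd (by decide +kernel)).trans h.core.zN
  have jj : jE φ * jE φ = z := (dd (by decide +kernel)).trans h.core.zN
  have kk : jF φ * jF φ = z := (dd (by decide +kernel)).trans h.core.zN'
  have ff : fE φ * fE φ = 1 := (dd (by decide +kernel)).trans h.core.kerN
  have fd : jE φ * jF φ = fE φ := dd (by decide +kernel)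
  have fd' : jF φ * jE φ = fE φ := dd (by decide +kernel)
  have ju : jE φ * uu φ * (jE φ)⁻¹ = uu φ * z := by
    rw [← h.core.zN, ← map_inv, ← map_mul, ← map_mul, ← map_mul]
    exact congrArg φ (by decide +kernel)
  have ku : jF φ * uu φ * (jF φ)⁻¹ = uu φ * z := by
    rw [← h.core.zN', ← map_inv, ← map_mul, ← map_mul, ← map_mul]
    exact congrArg φ (by decide +kernel)
  have ji : jE φ * iE φ * (jE φ)⁻¹ = iE φ * z := by
    rw [← h.core.zN, ← map_inv, ← map_mul, ← map_mul, ← map_mul]
    exact congrArg φ (by decide +kernel)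
  have ki : jF φ * iE φ * (jF φ)⁻¹ = iE φ := by
    rw [← map_inv, ← map_mul, ← map_mul]
    exact congrArg φ (by decide +kernel)
  have jf : jE φ * fE φ * (jE φ)⁻¹ = fE φ := by
    rw [← map_inv, ← map_mul, ← map_mul]
    exact congrArg φ (by decide +kernel)
  have hjm : jE φ ∈ Qm φ := mem_Qm.2 ⟨(B, 1), mem_Q8P.2 (by decide +kernel), rfl⟩
  have hkm : jF φ ∈ Qm φ := mem_Qm.2 ⟨(1, B), mem_Q8P.2 (by decide +kernel), rfl⟩
  have him : iE φ ∈ CQ φ := h.rep_mem 1
  have hfm : fE φ ∈ CQ φ := h.rep_mem 2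
  obtain ⟨y, hy⟩ : ∃ y, y = g * iE φ * g := ⟨_, rfl⟩
  obtain ⟨w, hw⟩ : ∃ w, w = g * fE φ * g := ⟨_, rfl⟩
  have gy : g * y * g = iE φ := by rw [hy]; exact h.ginvol hg _
  have gw : g * w * g = fE φ := by rw [hw]; exact h.ginvol hg _
  have hyC : g * iE φ * g⁻¹ = y := by rw [h.ginv hg, hy]
  have hwC : g * fE φ * g⁻¹ = w := by rw [h.ginv hg, hw]
  have yCE : y ∈ CE z φ := hyC ▸ (h.conj_CE (h.CQ_le_CE him)).1
  have wCE : w ∈ CE z φ := hwC ▸ (h.conj_CE (h.CQ_le_CE hfm)).1
  obtain ⟨zy, uy⟩ := mem_CE.1 yCE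
  obtain ⟨zw, uw⟩ := mem_CE.1 wCE
  obtain ⟨iz, iu⟩ := mem_CE.1 (h.CQ_le_CE him)
  obtain ⟨fz, fu⟩ := mem_CE.1 (h.CQ_le_CE hfm)
  have yy : y * y = uu φ := by rw [hy, ← h.gmul hg, ii, gz]
  have ww : w * w = 1 := by rw [hw, ← h.gmul hg, ff, mul_one, hg]
  have winv : w⁻¹ = w := inv_eq_of_mul_eq_one_right ww
  -- `y` commutes with `i`
  obtain ⟨c, hc, ec⟩ := h.swap_pd him him
  rw [hyC] at ec
  obtain ⟨e, he, et⟩ := h.theta hjm ju him
  rw [hyC] at et
  have cj := h.q0_z hjm ju
  have jjuz := h.q0_uz hjm ju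
  have iy : y * iE φ = iE φ * y := by
    have e1 := congrArg (fun t => g * t * g) ec
    simp only [h.gmul hg, gy, ← hy] at e1
    rw [e1, mul_assoc (y * iE φ), left_eq_mul] at ec
    have hgc : g * c * g = c := by
      exact (eq_inv_of_mul_eq_one_left ec).trans (inv_eq_of_mul_eq_one_right (h.InE_sq hc))
    rcases h.InE_cases hc with rfl | rfl | rfl | rfl
    · rw [e1, hgc, mul_one]
    · exact absurd (gz.symm.trans hgc) h.u_ne_z
    · exact absurd (hgc.symm.trans gu) h.u_ne_z
    · exfalso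
      rw [hgc] at e1
      have e2 := congrArg (fun t => jE φ * t * (jE φ)⁻¹) e1
      simp only [← conj_mul, et, ji, ju, cj] at e2
      have ce : Commute (iE φ) e := h.InE_comm (h.CQ_le_CE him) he
      have cye : Commute y e := h.InE_comm yCE he
      have cze : Commute z e := h.InE_comm (h.InE_mem_CE h.InE_z) he
      have l : iE φ * z * (iE φ * y * e) = iE φ * (iE φ * y) * (z * e) := by
        calc iE φ * z * (iE φ * y * e) = iE φ * (z * (iE φ * y)) * e := by group
          _ = iE φ * (iE φ * y * z) * e := by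
            rw [((show Commute z (iE φ) from (show Commute (iE φ) z from iz).symm).mul_right
              (show Commute y z from zy).symm).eq]
          _ = _ := by group
      have r : iE φ * y * e * (iE φ * z) = iE φ * (y * iE φ) * (z * e) := by
        calc iE φ * y * e * (iE φ * z) = iE φ * y * (e * (iE φ * z)) := by group
          _ = iE φ * y * (iE φ * z * e) := by rw [(ce.symm.mul_right cze.symm).eq]
          _ = _ := by group
      rw [l, r, e1] at e2
      rw [mul_assoc (uu φ) z z, hz, mul_one] at e2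
      have e3 : iE φ * (y * iE φ) * (uu φ * z) * (z * e) = iE φ * (y * iE φ) * (z * e) * uu φ := by
        rw [← e2]; group
      have cu : Commute (uu φ) (z * e) :=
        (h.InE_comm (h.InE_mem_CE h.InE_u) (h.InE_mul h.InE_z he))
      rw [mul_assoc _ (z * e), ← cu.eq] at e3
      exact h.core.z_ne (mul_eq_left.1
        (mul_left_cancel (mul_right_cancel (e3.trans (mul_assoc _ _ _).symm))))
  have iyc : Commute y (iE φ) := iy
  have iinv : (iE φ)⁻¹ = iE φ * z := by
    rw [inv_eq_iff_mul_eq_one, ← mul_assoc, ii, hz]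
  have zc : ∀ p, Commute (φ p) z := h.core.z_comm
  -- `y⁻¹ j y = i j z`
  have yj0 : y⁻¹ * jE φ * y = iE φ * e * jE φ := by
    calc y⁻¹ * jE φ * y = y⁻¹ * (jE φ * y * (jE φ)⁻¹) * jE φ := by group
      _ = y⁻¹ * (y * iE φ) * e * jE φ := by rw [et, iy]; group
      _ = iE φ * e * jE φ := by group
  have ej : e * (jE φ * e * (jE φ)⁻¹) = 1 := by
    have e1 : y⁻¹ * jE φ * y * (y⁻¹ * jE φ * y) = z := by
      calc _ = y⁻¹ * (jE φ * jE φ) * y := by group
        _ = z := by rw [jj, mul_assoc, ← zy, inv_mul_cancel_left]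
    have e2 : iE φ * e * jE φ * (iE φ * e * jE φ) = z * (e * (jE φ * e * (jE φ)⁻¹)) := by
      calc _ = iE φ * e * (jE φ * iE φ * (jE φ)⁻¹) * (jE φ * e * (jE φ)⁻¹) * (jE φ * jE φ) := by group
        _ = iE φ * (e * iE φ) * (z * (jE φ * e * (jE φ)⁻¹)) * z := by rw [ji, jj]; group
        _ = iE φ * (iE φ * e) * ((jE φ * e * (jE φ)⁻¹) * z) * z := by
            rw [(h.InE_comm (h.CQ_le_CE him) he).eq,
              (h.InE_comm (h.InE_mem_CE h.InE_z) (h.q0_InE hjm ju he)).eq]
        _ = iE φ * iE φ * (e * (jE φ * e * (jE φ)⁻¹)) * (z * z) := by group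
        _ = _ := by rw [ii, hz, mul_one]
    rw [yj0, e2, mul_eq_left] at e1
    exact e1
  have ez : e = z := by
    have hcube := h.cube hjm ju
    have hi : g * jE φ * iE φ * (g * jE φ)⁻¹ = y * uu φ := by
      calc _ = g * (jE φ * iE φ * (jE φ)⁻¹) * g⁻¹ := by group
        _ = y * uu φ := by rw [ji, h.ginv hg, h.gmul hg, ← hy, gz]
    rcases h.InE_cases he with rfl | rfl | rfl | rfl
    · exfalso
      rw [mul_one] at et
      have hr : g * jE φ * y * (g * jE φ)⁻¹ = y * iE φ := by
        calc _ = g * (jE φ * y * (jE φ)⁻¹) * g⁻¹ := by group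
          _ = y * iE φ := by rw [et, h.ginv hg, h.gmul hg, ← hy, gy]
      set r := g * jE φ with hr0
      have e1 : iE φ = iE φ * z := by
        calc iE φ = r * r * r * iE φ * (r * r * r)⁻¹ := by rw [hcube]; group
          _ = r * (r * (r * iE φ * r⁻¹) * r⁻¹) * r⁻¹ := by group
          _ = r * (r * y * r⁻¹ * (r * uu φ * r⁻¹)) * r⁻¹ := by rw [hi]; group
          _ = r * y * r⁻¹ * (r * iE φ * r⁻¹) * (r * (uu φ * z) * r⁻¹) := by
              conv_lhs => rw [hr, h.r_u hjm ju]
              group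
          _ = y * iE φ * (y * uu φ) * z := by rw [hr, hi, h.r_uz hjm ju]
          _ = iE φ * (y * y) * uu φ * z := by rw [iy]; group
          _ = iE φ * (uu φ * uu φ) * z := by rw [yy]; group
          _ = iE φ * z := by rw [huu, mul_one]
      exact h.core.z_ne (mul_eq_left.1 e1.symm)
    · rfl
    · rw [ju, ← mul_assoc, huu, one_mul] at ej
      exact absurd ej h.core.z_ne
    · rw [jjuz, huz, mul_assoc, huu, mul_one] at ej
      exact absurd ej h.core.z_ne
  rw [ez] at et yj0
  have yj' : y⁻¹ * jE φ * y = iE φ * jE φ * z := by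
    rw [yj0, mul_assoc, ← (zc (B, 1)).eq, mul_assoc]
  have yj : y * jE φ * y⁻¹ = iE φ * jE φ := by
    calc y * jE φ * y⁻¹ = y * ((iE φ)⁻¹ * (iE φ * jE φ * z) * z⁻¹) * y⁻¹ := by group
      _ = (y * (iE φ)⁻¹) * (y⁻¹ * jE φ * y) * (z⁻¹ * y⁻¹) := by rw [yj']; group
      _ = ((iE φ)⁻¹ * y) * (y⁻¹ * jE φ * y) * (y⁻¹ * z⁻¹) := by
          rw [iyc.inv_right.eq, (show Commute z⁻¹ y⁻¹ from ((show Commute y z from zy).inv_inv).symm).eq]
      _ = iE φ * z * jE φ * z⁻¹ := by rw [iinv]; group
      _ = iE φ * jE φ := by rw [mul_assoc _ z, ← (zc (B, 1)).eq]; group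
  -- the other side
  obtain ⟨e2, he2, ek⟩ := h.theta hkm ku him
  rw [hyC] at ek
  have yk0 : y⁻¹ * jF φ * y = iE φ * e2 * jF φ := by
    calc y⁻¹ * jF φ * y = y⁻¹ * (jF φ * y * (jF φ)⁻¹) * jF φ := by group
      _ = y⁻¹ * (y * iE φ) * e2 * jF φ := by rw [ek, iy]; group
      _ = iE φ * e2 * jF φ := by group
  have ek' : e2 * (jF φ * e2 * (jF φ)⁻¹) = z := by
    have e1 : y⁻¹ * jF φ * y * (y⁻¹ * jF φ * y) = z := by
      calc _ = y⁻¹ * (jF φ * jF φ) * y := by group
        _ = z := by rw [kk, mul_assoc, ← zy, inv_mul_cancel_left]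
    have e3 : iE φ * e2 * jF φ * (iE φ * e2 * jF φ) = z * (e2 * (jF φ * e2 * (jF φ)⁻¹)) * z := by
      calc _ = iE φ * e2 * (jF φ * iE φ * (jF φ)⁻¹) * (jF φ * e2 * (jF φ)⁻¹) * (jF φ * jF φ) := by group
        _ = iE φ * (e2 * iE φ) * (jF φ * e2 * (jF φ)⁻¹) * z := by rw [ki, kk]; group
        _ = iE φ * iE φ * (e2 * (jF φ * e2 * (jF φ)⁻¹)) * z := by
            rw [← (h.InE_comm (h.CQ_le_CE him) he2).eq]; group
        _ = _ := by rw [ii]
    rw [yk0, e3, mul_eq_right] at e1
    rw [← mul_right_inj z, e1, hz]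
  have e2u : e2 = uu φ ∨ e2 = uu φ * z := by
    rcases h.InE_cases he2 with rfl | rfl | rfl | rfl
    · rw [one_mul, mul_one, mul_inv_cancel] at ek'
      exact absurd ek'.symm h.core.z_ne
    · rw [h.q0_z hkm ku, hz] at ek'
      exact absurd ek'.symm h.core.z_ne
    · exact Or.inl rfl
    · exact Or.inr rfl
  have yk : y⁻¹ * jF φ * y = φ (1, A * B) ∨ y⁻¹ * jF φ * y = φ (1, A * B * N) := by
    rw [yk0]
    rcases e2u with rfl | rfl
    · right
      rw [← map_mul, ← map_mul, h.core.eq_iff]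
      decide +kernel
    · left
      rw [← h.core.zN, ← map_mul, ← map_mul, ← map_mul, h.core.eq_iff]
      decide +kernel
  -- `w i w`
  have fy : ∃ d, (d = uu φ ∨ d = uu φ * z) ∧ fE φ * y * (fE φ)⁻¹ = y * d := by
    refine ⟨z * (jE φ * e2 * (jE φ)⁻¹), ?_, ?_⟩
    · rcases e2u with rfl | rfl
      · left
        rw [ju, ← mul_assoc, ← huz, mul_assoc, hz, mul_one]
      · right
        rw [jjuz, huz]
    · calc fE φ * y * (fE φ)⁻¹ = jE φ * (jF φ * y * (jF φ)⁻¹) * (jE φ)⁻¹ := by
            rw [← fd]; group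
        _ = (jE φ * iE φ * (jE φ)⁻¹) * (jE φ * y * (jE φ)⁻¹) * (jE φ * e2 * (jE φ)⁻¹) := by
            rw [ek]; group
        _ = iE φ * (z * (iE φ * y)) * z * (jE φ * e2 * (jE φ)⁻¹) := by rw [ji, et]; group
        _ = iE φ * (iE φ * y * z) * z * (jE φ * e2 * (jE φ)⁻¹) := by
            rw [(((zc (A, 1)).symm).mul_right (show Commute y z from zy).symm).eq]
        _ = iE φ * iE φ * y * (z * z) * (jE φ * e2 * (jE φ)⁻¹) := by group
        _ = y * (z * (jE φ * e2 * (jE φ)⁻¹)) := by rw [ii, hz, mul_one, ← zy, mul_assoc]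
  obtain ⟨d, hd, fy⟩ := fy
  have wi0 : w * iE φ * w = iE φ * z ∨ w * iE φ * w = iE φ * (uu φ * z) := by
    have e1 := congrArg (fun t => g * t * g) fy
    have finv : (fE φ)⁻¹ = fE φ := inv_eq_of_mul_eq_one_right ff
    simp only [finv, h.gmul hg, ← hw, gy] at e1
    rcases hd with rfl | rfl
    · left; rw [e1, gu]
    · right; rw [e1, h.gmul hg, gu, gz, huz]
  -- `w j w`
  obtain ⟨c3, hc3, ec3⟩ := h.swap_pd hfm hfm
  rw [hwC] at ec3
  obtain ⟨e3, he3, et3⟩ := h.theta hjm ju hfm
  rw [hwC] at et3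
  have fjk : fE φ * jE φ = jF φ * z := by
    rw [← h.core.zN', ← map_mul, ← map_mul, h.core.eq_iff]
    decide +kernel
  have wj0 : w * jE φ * w = (c3 * e3) * (jF φ * z) := by
    calc w * jE φ * w = w * (jE φ * w * (jE φ)⁻¹) * jE φ := by group
      _ = (w * fE φ) * w * e3 * jE φ := by rw [et3]; group
      _ = fE φ * w * (c3 * w) * e3 * jE φ := by rw [ec3]; group
      _ = fE φ * (w * w) * (c3 * e3) * jE φ := by
          rw [← (h.InE_comm wCE hc3).eq]; group
      _ = (c3 * e3) * (fE φ * jE φ) := by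
          rw [ww, mul_one, (h.InE_comm (h.CQ_le_CE hfm) (h.InE_mul hc3 he3)).eq]; group
      _ = _ := by rw [fjk]
  obtain ⟨e5, he5, he5d⟩ : ∃ t, InE φ t ∧ t = c3 * e3 := ⟨_, h.InE_mul hc3 he3, rfl⟩
  rw [← he5d] at wj0
  have kz : Commute (jF φ) z := zc _
  have e5sq : e5 = 1 ∨ e5 = z := by
    have e1 : w * jE φ * w * (w * jE φ * w) = z := by
      calc _ = w * jE φ * (w * w) * jE φ * w := by group
        _ = w * (jE φ * jE φ) * w := by rw [ww, mul_one]; group
        _ = z := by rw [jj, zw, mul_assoc, ww, mul_one]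
    have e2' : e5 * (jF φ * z) * (e5 * (jF φ * z)) = e5 * (jF φ * e5 * (jF φ)⁻¹) * z := by
      calc _ = e5 * jF φ * ((z * e5) * jF φ) * z := by group
        _ = e5 * jF φ * e5 * (z * jF φ) * z := by
            rw [(h.InE_comm (h.InE_mem_CE h.InE_z) he5).eq]; group
        _ = e5 * jF φ * e5 * (jF φ * z) * z := by rw [kz.eq]
        _ = e5 * jF φ * e5 * (jF φ)⁻¹ * (jF φ * jF φ) * (z * z) := by group
        _ = _ := by rw [kk, hz]; group
    rw [wj0, e2', mul_eq_right] at e1
    rcases h.InE_cases he5 with rfl | rfl | rfl | rfl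
    · exact Or.inl rfl
    · exact Or.inr rfl
    · rw [ku, ← mul_assoc, huu, one_mul] at e1
      exact absurd e1 h.core.z_ne
    · rw [h.q0_uz hkm ku, huz, mul_assoc, huu, mul_one] at e1
      exact absurd e1 h.core.z_ne
  have wi : w * iE φ * w = iF φ := by
    rcases wi0 with wi0 | wi0
    · exfalso
      have c1 : Commute (iE φ * z) (e5 * (jF φ * z)) := by
        have a1 : Commute (iE φ * z) (jF φ) :=
          Commute.mul_left ((mul_inv_eq_iff_eq_mul.1 ki).symm) kz.symm
        have a2 : Commute (iE φ * z) z := Commute.mul_left (zc _) (Commute.refl z)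
        refine Commute.mul_right ?_ (a1.mul_right a2)
        rcases e5sq with rfl | rfl
        · exact Commute.one_right _
        · exact a2
      rw [← wi0, ← wj0] at c1
      have c2 := c1.eq
      have e2' : w * iE φ * w * (w * jE φ * w) = w * (iE φ * jE φ) * w := by
        calc _ = w * iE φ * (w * w) * jE φ * w := by group
          _ = _ := by rw [ww, mul_one]; group
      have e3' : w * jE φ * w * (w * iE φ * w) = w * (jE φ * iE φ) * w := by
        calc _ = w * jE φ * (w * w) * iE φ * w := by group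
          _ = _ := by rw [ww, mul_one]; group
      rw [e2', e3', mul_left_inj, mul_right_inj] at c2
      rw [← c2, mul_inv_cancel_right, left_eq_mul] at ji
      exact h.core.z_ne ji
    · rw [wi0, ← h.core.zN, ← map_mul, ← map_mul, h.core.eq_iff]
      decide +kernel
  have wj : w * jE φ * w = jF φ * z := by
    rcases e5sq with e5e | e5e <;> rw [e5e] at wj0
    · rw [wj0, one_mul]
    · exfalso
      have wj1 : w * jE φ * w = jF φ := by
        rw [wj0, ← mul_assoc, ← kz.eq, mul_assoc, hz, mul_one]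
      have wk : w * jF φ * w = jE φ := by
        rw [← wj1]
        calc w * (w * jE φ * w) * w = (w * w) * jE φ * (w * w) := by group
          _ = _ := by rw [ww, one_mul, mul_one]
      have wf : w * fE φ * w = fE φ := by
        calc w * fE φ * w = w * jE φ * (w * w) * jF φ * w := by rw [ww, mul_one, ← fd]; group
          _ = (w * jE φ * w) * (w * jF φ * w) := by group
          _ = fE φ := by rw [wj1, wk, fd']
      have hcube := h.cube hjm ju
      have rf : g * jE φ * fE φ * (g * jE φ)⁻¹ = w := by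
        calc _ = g * (jE φ * fE φ * (jE φ)⁻¹) * g⁻¹ := by group
          _ = w := by rw [jf, h.ginv hg, hw]
      have jw : jE φ * w * (jE φ)⁻¹ = fE φ * z * w := by
        calc jE φ * w * (jE φ)⁻¹ = jE φ * w⁻¹ * (jE φ)⁻¹ := by rw [winv]
          _ = jE φ * (w * jE φ * w)⁻¹ * w := by group
          _ = jE φ * (jF φ)⁻¹ * w := by rw [wj1]
          _ = fE φ * z * w := by
              rw [← fd, inv_eq_of_mul_eq_one_right
                (show jF φ * (jF φ * z) = 1 by rw [← mul_assoc, kk, hz])]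
              group
      have rw' : g * jE φ * w * (g * jE φ)⁻¹ = w * uu φ * fE φ := by
        calc _ = g * (jE φ * w * (jE φ)⁻¹) * g⁻¹ := by group
          _ = _ := by rw [jw, h.ginv hg, h.gmul hg, h.gmul hg, ← hw, gz, gw]
      set r := g * jE φ with hr0
      have e1 : fE φ = fE φ * z := by
        calc fE φ = r * r * r * fE φ * (r * r * r)⁻¹ := by rw [hcube]; group
          _ = r * (r * (r * fE φ * r⁻¹) * r⁻¹) * r⁻¹ := by group
          _ = r * w * r⁻¹ * (r * uu φ * r⁻¹) * (r * fE φ * r⁻¹) := by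
              conv_lhs => rw [rf, rw']
              group
          _ = w * (uu φ * fE φ) * uu φ * (z * w) := by
              rw [rf, rw', h.r_u hjm ju]; group
          _ = w * fE φ * (uu φ * uu φ) * (w * z) := by rw [← fu, ← zw]; group
          _ = w * fE φ * w * z := by rw [huu, mul_one]; group
          _ = fE φ * z := by rw [wf]
      exact h.core.z_ne (mul_eq_left.1 e1.symm)
  exact ⟨y, w, h.core, hg, gz, h.cube hjm ju, hy, hw, yy, ww, zy.symm, zw.symm,
    by rw [iy, mul_inv_cancel_right], yj, yj', yk, wi, wj⟩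

end Swap

end CfsgLib.UFourType.Frame
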