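import Cfsg.Agent.UFourType.Defs
import Mathlib.LinearAlgebra.Matrix.SpecialLinearGroup

/-!
Facts about `SL(2, 3)` and pairs of its elements, all decided by the kernel.
-/

set_option autoImplicit false
set_option maxRecDepth 20000

namespace CfsgLib.UFourType.Frame

/-- `SL(2, 3)`. -/
abbrev SL := Matrix.SpecialLinearGroup (Fin 2) (ZMod 3)

/-- An element of order four. -/
def A : SL := ⟨!![0, 2; 1, 0], by decide⟩

/-- An element of order four. -/
def B : SL := ⟨!![1, 1; 1, 2], by decide⟩

/-- An element of order three with `S A S⁻¹ = B`. -/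
def S : SL := ⟨!![1, 1; 0, 1], by decide⟩

/-- The central involution. -/
def N : SL := ⟨!![2, 0; 0, 2], by decide⟩

theorem N_central : ∀ a : SL, a * N = N * a := by decide +kernel

theorem N_ne_one : N ≠ 1 := by decide +kernel

theorem N_mul_self : N * N = 1 := by decide +kernel

theorem sq_one : ∀ a : SL, a * a = 1 → a = 1 ∨ a = N := by decide +kernel

theorem pow_eight : ∀ a : SL, a ^ 8 = 1 → a ^ 4 = 1 := by decide +kernel

theorem pow_twentyfour : ∀ a : SL, a ^ 24 = 1 := by decide +kernel

theorem gen_three : ∀ x : SL, ∃ a b : SL, a ^ 3 = 1 ∧ b ^ 3 = 1 ∧ (x = a * b ∨ x = a * b * (a * b)) := by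
  decide +kernel

theorem conj_A : ∀ a : SL, a * a = N → ∃ c : SL, c * A * c⁻¹ = a := by decide +kernel

theorem sq_four : ∀ a : SL, a ^ 4 = 1 → a * a = 1 ∨ a * a = N := by decide +kernel

theorem comm_four : ∀ a b : SL, a ^ 4 = 1 → b ^ 4 = 1 → a * b = b * a ∨ a * b = b * a * N := by
  decide +kernel

theorem central_four : ∀ a : SL, a ^ 4 = 1 → a * A = A * a → a * B = B * a → a = 1 ∨ a = N := by
  decide +kernel

/-- The eight elements of the quaternion group. -/
def q8List : List SL := [1, N, A, A * N, B, B * N, A * B, A * B * N]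

theorem mem_q8List : ∀ a : SL, a ^ 4 = 1 → a ∈ q8List := by decide +kernel

/-- Representatives of the four cosets of `E` in the centraliser of `(A, A)` in `Q₈ × Q₈`. -/
def rep : Fin 4 → SL × SL := ![(1, 1), (A, 1), (B, B), (A * B, B)]

/-- Representatives of the elements of `E`. -/
def er : Fin 4 → SL × SL := ![(1, 1), (N, 1), (A, A), (A * N, A)]

theorem er_mul : ∀ k l : Fin 4, ∃ m : Fin 4, er k * er l = er m ∨ er k * er l = er m * (N, N) := by
  decide +kernel

theorem er_injective : ∀ k l : Fin 4, (er l = er k ∨ er l = er k * (N, N)) → k = l := by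
  decide +kernel

theorem er_four : ∀ k : Fin 4, (er k).1 ^ 4 = 1 ∧ (er k).2 ^ 4 = 1 := by decide +kernel

theorem rep_four : ∀ k : Fin 4, (rep k).1 ^ 4 = 1 ∧ (rep k).2 ^ 4 = 1 := by decide +kernel

theorem rep_comm : ∀ k : Fin 4, rep k * (A, A) = (A, A) * rep k ∨
    rep k * (A, A) = (A, A) * rep k * (N, N) := by decide +kernel

theorem rep_injective : ∀ k l : Fin 4, (∃ m : Fin 4, (rep l = rep k * er m ∨
    rep l = rep k * er m * (N, N))) → k = l := by decide +kernel

theorem er_comm_q8 : ∀ k : Fin 4, er k * (A, A) = (A, A) * er k := by decide +kernel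

/-- The eighteen conjugators moving `(A, A)` to pairwise different places. -/
def orbitReps : List (SL × SL) :=
  [(1, 1), (1, S), (1, S * S), (1, B), (1, S * B), (1, S * S * B),
   (S, 1), (S, S), (S, S * S), (S, B), (S, S * B), (S, S * S * B),
   (S * S, 1), (S * S, S), (S * S, S * S), (S * S, B), (S * S, S * B), (S * S, S * S * B)]

theorem orbitReps_ne : ∀ k l : Fin 18,
    (orbitReps.getD l.1 1 * (A, A) * (orbitReps.getD l.1 1)⁻¹ =
        orbitReps.getD k.1 1 * (A, A) * (orbitReps.getD k.1 1)⁻¹ ∨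
      orbitReps.getD l.1 1 * (A, A) * (orbitReps.getD l.1 1)⁻¹ =
        orbitReps.getD k.1 1 * (A, A) * (orbitReps.getD k.1 1)⁻¹ * (N, N)) → k = l := by
  decide +kernel

end CfsgLib.UFourType.Frame
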