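import Cfsg.Agent.UFourType.CertLib

set_option autoImplicit false
set_option maxRecDepth 20000

/-! Words of the recognition of `U₄(3)`: the letters `0 2 4 6 8 10` stand for
generators `i j s y w g`, odd letters for their inverses. -/

namespace CfsgLib.UFourType

/-- A word. -/
def zW : List ℕ := [0, 0]

/-- A word. -/
def uW : List ℕ := [1, 8, 0, 8, 0, 0]

/-- A word. -/
def i2W : List ℕ := [8, 0, 8]

/-- A word. -/
def j2W : List ℕ := [8, 2, 8]

/-- A word. -/
def s2W : List ℕ := [8, 4, 8]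

/-- A word. -/
def fW : List ℕ := [2, 8, 2, 8, 0, 0]

/-- A word. -/
def sdW : List ℕ := [4, 8, 4, 8]

/-- A word. -/
def adW : List ℕ := [4, 9, 5, 9]

/-- A word. -/
def kAW : List ℕ := [0, 4, 8, 4]

/-- A word. -/
def sigBW : List ℕ := [6, 8]

/-- A word. -/
def kBW : List ℕ := [0, 5, 8, 4]

/-- A word. -/
def tsBW : List ℕ := [1, 4, 8, 5, 8]

/-- A word. -/
def b0W : List ℕ := [2, 5, 8, 4, 8]

/-- A word. -/
def y2AW : List ℕ := [0, 8, 1]

/-- A word. -/
def y2BW : List ℕ := [7, 8]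

/-- The words of the elements of order three centralising the transported involution. -/
def optA : List (List ℕ) := [
    [2, 5, 8, 5, 8],
    [4, 3, 8, 4, 8],
    [4, 8, 4, 3, 8],
    [5, 8, 2, 5, 8],
    [0, 4, 8, 2, 4, 8],
    [0, 5, 8, 5, 0, 8],
    [2, 4, 8, 0, 4, 8],
    [5, 0, 8, 0, 5, 8]]

/-- The words of the elements of order three centralising the transported involution. -/
def optB : List (List ℕ) := [
    [4, 8, 5, 0, 8],
    [0, 5, 8, 4, 8],
    [3, 4, 8, 5, 8],
    [5, 8, 1, 4, 8],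
    [0, 4, 8, 3, 5, 8],
    [2, 5, 8, 3, 4, 8],
    [4, 2, 8, 1, 5, 8],
    [5, 0, 8, 4, 3, 8]]

/-- Relators of the centraliser of `z`. -/
def cRels : List (List ℕ) := [
    [8, 8],
    [4, 4, 4],
    [0, 0, 0, 0],
    [2, 2, 1, 1],
    [2, 0, 3, 0],
    [4, 0, 5, 3],
    [6, 0, 7, 1],
    [4, 2, 5, 3, 1],
    [6, 2, 7, 3, 1],
    [6, 4, 7, 1, 4],
    [0, 0, 6, 1, 1, 7],
    [0, 0, 8, 1, 1, 9],
    [0, 0, 4, 1, 1, 5],
    [6, 6, 1, 1, 9, 1, 9, 0],
    [0, 8, 0, 8, 1, 9, 1, 9],
    [0, 8, 2, 8, 1, 9, 3, 9],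
    [2, 8, 2, 8, 3, 9, 3, 9],
    [4, 8, 0, 8, 5, 9, 1, 9],
    [4, 8, 2, 8, 5, 9, 3, 9],
    [4, 8, 4, 8, 5, 9, 5, 9],
    [6, 8, 7, 9, 1, 1, 9, 1, 9, 0]]

/-- Relators with `g`. -/
def gRels : List (List ℕ) := [
    [10, 10],
    [10, 0, 10, 7],
    [10, 2, 8, 2, 8, 0, 0, 10, 9],
    [10, 0, 0, 10, 1, 1, 9, 1, 9, 0],
    [10, 2, 10, 2, 10, 2]]

/-- The word of `g k g`. -/
def hhW (k : List ℕ) : List ℕ := [10] ++ k ++ [10]

/-- The relator saying that `g k g` conjugates `x` to `s`. -/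
def transRel (s k x : List ℕ) : List ℕ := s ++ hhW k ++ invW x ++ invW (hhW k)

/-- The transported element of order three inverted by `z`. -/
def bW : List ℕ := hhW kAW ++ b0W ++ invW (hhW kAW)

/-- The commutator of the two elements of order three. -/
def commRel : List ℕ := adW ++ bW ++ invW adW ++ invW bW

/-- The relators of a case for the first transport. -/
def colARels (k : ℕ) : List (List ℕ) := cRels ++ gRels ++ [transRel sdW kAW (optA.getD k [])]

/-- The relators of a case for the second transport. -/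
def colBRels (k : ℕ) : List (List ℕ) := cRels ++ gRels ++ [transRel tsBW kBW (optB.getD k [])]

/-- All relators. -/
def allRels : List (List ℕ) :=
  cRels ++ gRels ++ [transRel sdW kAW (optA.getD 0 []), transRel tsBW kBW (optB.getD 0 []), commRel]

/-- The generators of the centraliser. -/
def subW : List (List ℕ) := [[0], [2], [4], [6], [8]]

end CfsgLib.UFourType
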